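import Groth.Agent.LocCohBase.DepthLocal
import Mathlib.RingTheory.KrullDimension.Regular
import Mathlib.RingTheory.Spectrum.Prime.Topology

/-!
Depth versus dimension and basics on Cohen–Macaulay modules over Noetherian local rings.
-/

set_option autoImplicit false

universe u

open RingTheory.Sequence IsLocalRing Pointwise

namespace Groth.LocCohBase

variable {R : Type u} [CommRing R]

lemma withBot_add_one_le_of_le {a b : WithBot ℕ∞} (h : a + 1 ≤ b) : a + ((1 : ℕ) : WithBot ℕ∞) ≤ b := by
  simpa using h

/-- `dim R/q + 1 ≤ dim R/p` for primes `p < q` of a Noetherian local ring. -/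
lemma ringKrullDim_quotient_add_one_le [IsLocalRing R] [IsNoetherianRing R] {p q : Ideal R}
    [p.IsPrime] (hq : q ≠ ⊤) (h : p < q) :
    ringKrullDim (R ⧸ q) + 1 ≤ ringKrullDim (R ⧸ p) := by
  obtain ⟨hle, x, hxq, hxp⟩ := SetLike.lt_iff_le_and_exists.1 h
  have hreg : IsSMulRegular (R ⧸ p) x := by
    refine (isSMulRegular_iff_right_eq_zero_of_smul).2 fun y hy => ?_
    obtain ⟨y, rfl⟩ := Submodule.Quotient.mk_surjective _ y
    rw [← Submodule.Quotient.mk_smul, smul_eq_mul, Submodule.Quotient.mk_eq_zero] at hy
    exact (Submodule.Quotient.mk_eq_zero p).2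
      ((Ideal.IsPrime.mem_or_mem inferInstance hy).resolve_left hxp)
  rw [← Module.supportDim_quotient_eq_ringKrullDim q, ← Module.supportDim_quotient_eq_ringKrullDim p,
    ← Module.supportDim_quotSMulTop_succ_eq_supportDim hreg (IsLocalRing.le_maximalIdeal hq hxq)]
  gcongr
  let f : QuotSMulTop x (R ⧸ p) →ₗ[R] R ⧸ q := Submodule.liftQ _
    (Submodule.mapQ p q LinearMap.id hle) (by
      intro y hy
      obtain ⟨z, -, rfl⟩ := (Submodule.mem_smul_pointwise_iff_exists _ _ _).1 hy
      obtain ⟨z, rfl⟩ := Submodule.Quotient.mk_surjective _ z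
      rw [LinearMap.mem_ker, ← Submodule.Quotient.mk_smul, Submodule.mapQ_apply,
        Submodule.Quotient.mk_eq_zero]
      exact q.mul_mem_right _ hxq)
  refine Module.supportDim_le_of_surjective f fun y => ?_
  obtain ⟨y, rfl⟩ := Submodule.Quotient.mk_surjective _ y
  exact ⟨Submodule.Quotient.mk (Submodule.Quotient.mk y), rfl⟩

variable [IsNoetherianRing R]

lemma exists_mem_associatedPrimes_quotSMulTop {M : Type u} [AddCommGroup M] [Module R M]
    [IsLocalRing R] [Module.Finite R M] {p : Ideal R} (hp : p ∈ associatedPrimes R M) {x : R}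
    (hx : x ∈ maximalIdeal R) (hreg : IsSMulRegular M x) :
    ∃ q ∈ associatedPrimes R (QuotSMulTop x M), p < q := by
  obtain ⟨hpp, m, hm⟩ := isAssociatedPrime_iff.1 hp
  let N : Submodule R M := Submodule.torsionBySet R M (p : Set R)
  have hmN : m ∈ N := by
    rw [Submodule.mem_torsionBySet_iff]
    rintro ⟨a, ha⟩
    have ha' : a ∈ (⊥ : Submodule R M).colon {m} := hm ▸ ha
    simpa [Submodule.mem_colon_singleton] using ha'
  have hm0 : m ≠ 0 := fun h => hpp.ne_top (by rw [hm, h]; simp)
  have hN : ¬ N ≤ x • N := fun hle => by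
    have h1 : N = ⊥ := Submodule.eq_bot_of_le_smul_of_le_jacobson_bot (Ideal.span {x}) N
      (IsNoetherian.noetherian N) (by rwa [Submodule.ideal_span_singleton_smul])
      (by rw [Ideal.span_singleton_le_iff_mem, jacobson_eq_maximalIdeal ⊥ bot_ne_top]; exact hx)
    exact hm0 ((Submodule.mem_bot R).1 (h1 ▸ hmN))
  obtain ⟨n, hn, hnx⟩ := SetLike.not_le_iff_exists.1 hN
  have hne : Submodule.Quotient.mk (p := x • (⊤ : Submodule R M)) n ≠ 0 := by
    rw [Ne, Submodule.Quotient.mk_eq_zero, Submodule.mem_smul_pointwise_iff_exists]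
    rintro ⟨k, -, rfl⟩
    refine hnx (Submodule.smul_mem_pointwise_smul _ _ _ ?_)
    rw [Submodule.mem_torsionBySet_iff] at hn ⊢
    intro a
    apply hreg
    change x • (a : R) • k = x • (0 : M)
    rw [smul_zero, smul_comm]
    exact hn a
  obtain ⟨q, hq, hle⟩ := exists_le_isAssociatedPrime_of_isNoetherianRing R
    (Submodule.Quotient.mk (p := x • (⊤ : Submodule R M)) n) hne
  refine ⟨q, hq, SetLike.lt_iff_le_and_exists.2 ⟨fun a ha => hle ?_, x, hle ?_, fun hxp => ?_⟩⟩
  · rw [Submodule.mem_colon_singleton, Submodule.mem_bot, ← Submodule.Quotient.mk_smul]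
    rw [Submodule.mem_torsionBySet_iff] at hn
    rw [show a • n = 0 from hn ⟨a, ha⟩, Submodule.Quotient.mk_zero]
  · rw [Submodule.mem_colon_singleton, Submodule.mem_bot, ← Submodule.Quotient.mk_smul,
      Submodule.Quotient.mk_eq_zero]
    exact Submodule.smul_mem_pointwise_smul _ _ _ Submodule.mem_top
  · exact hm0 (hreg.right_eq_zero_of_smul (by
      have h' : x ∈ (⊥ : Submodule R M).colon {m} := hm ▸ hxp
      simpa [Submodule.mem_colon_singleton] using h'))

variable [IsLocalRing R]

omit [IsNoetherianRing R] in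
lemma smul_maximalIdeal_ne_top (M : Type u) [AddCommGroup M] [Module R M] [Module.Finite R M]
    [Nontrivial M] {I : Ideal R} (hI : I ≠ ⊤) : I • (⊤ : Submodule R M) ≠ ⊤ :=
  fun h => Submodule.top_ne_ideal_smul_of_le_jacobson_annihilator
    ((IsLocalRing.le_maximalIdeal hI).trans (maximalIdeal_le_jacobson _)) h.symm

lemma exists_depth_eq (M : Type u) [AddCommGroup M] [Module R M] [Module.Finite R M]
    [Nontrivial M] : ∃ n : ℕ, LocCoh.depth R M = n := by
  obtain ⟨n, hn⟩ := ENat.ne_top_iff_exists.1
    (idealDepth_ne_top (smul_maximalIdeal_ne_top M (maximalIdeal.isMaximal R).ne_top))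
  exact ⟨n, hn.symm⟩

omit [IsNoetherianRing R] [IsLocalRing R] in
lemma exists_regular_of_one_le {I : Ideal R} {M : Type u} [AddCommGroup M] [Module R M]
    (hIM : I • (⊤ : Submodule R M) ≠ ⊤) (h : (1 : ℕ∞) ≤ LocCoh.idealDepth I M) :
    ∃ x ∈ I, IsSMulRegular M x := by
  obtain ⟨rs, hlen, hrs, hmem⟩ := (le_idealDepth_iff_exists I hIM 1).1 (by simpa using h)
  obtain ⟨x, rfl⟩ := List.length_eq_one_iff.1 hlen
  exact ⟨x, hmem x (by simp), (isWeaklyRegular_singleton_iff _ _).1 hrs⟩

/-- `depth M ≤ dim R/p` for every associated prime `p`. -/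
lemma le_ringKrullDim_quotient_of_mem_associatedPrimes (n : ℕ) :
    ∀ (M : Type u) [AddCommGroup M] [Module R M] [Module.Finite R M],
      (n : ℕ∞) ≤ LocCoh.depth R M → ∀ p ∈ associatedPrimes R M,
        (n : WithBot ℕ∞) ≤ ringKrullDim (R ⧸ p) := by
  induction n with
  | zero =>
    intro M _ _ _ _ p hp
    have : Nontrivial (R ⧸ p) := Ideal.Quotient.nontrivial_iff.2 hp.isPrime.ne_top
    exact ringKrullDim_nonneg_of_nontrivial
  | succ n ih =>
    intro M _ _ _ h p hp
    have := hp.isPrime
    have : Nontrivial M := by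
      obtain ⟨-, m, hm⟩ := isAssociatedPrime_iff.1 hp
      exact ⟨m, 0, fun h0 => hp.isPrime.ne_top (by rw [hm, h0]; simp)⟩
    have hIM := smul_maximalIdeal_ne_top M (maximalIdeal.isMaximal R).ne_top
    obtain ⟨x, hx, hreg⟩ := exists_regular_of_one_le hIM
      (le_trans (by exact_mod_cast Nat.succ_pos n) h)
    obtain ⟨q, hq, hlt⟩ := exists_mem_associatedPrimes_quotSMulTop hp hx hreg
    have hd : (n : ℕ∞) ≤ LocCoh.depth R (QuotSMulTop x M) := by
      rw [LocCoh.depth, ← idealDepth_quotSMulTop_add_one _ M hIM hx hreg, Nat.cast_succ] at h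
      exact (ENat.add_le_add_iff_right (by simp)).1 h
    calc ((n + 1 : ℕ) : WithBot ℕ∞) = (n : WithBot ℕ∞) + 1 := by push_cast; rfl
      _ ≤ ringKrullDim (R ⧸ q) + 1 := by gcongr; exact ih _ hd q hq
      _ ≤ ringKrullDim (R ⧸ p) := ringKrullDim_quotient_add_one_le hq.isPrime.ne_top hlt

lemma depth_le_ringKrullDim_quotient {M : Type u} [AddCommGroup M] [Module R M] [Module.Finite R M]
    {p : Ideal R} (hp : p ∈ associatedPrimes R M) :
    ((LocCoh.depth R M : ℕ∞) : WithBot ℕ∞) ≤ ringKrullDim (R ⧸ p) := by
  have : Nontrivial M := by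
    obtain ⟨-, m, hm⟩ := isAssociatedPrime_iff.1 hp
    exact ⟨m, 0, fun h0 => hp.isPrime.ne_top (by rw [hm, h0]; simp)⟩
  obtain ⟨n, hn⟩ := exists_depth_eq (R := R) M
  rw [hn]
  exact le_ringKrullDim_quotient_of_mem_associatedPrimes n M hn.ge p hp

omit [IsLocalRing R] in
lemma ringKrullDim_quotient_le_supportDim {M : Type u} [AddCommGroup M] [Module R M]
    {p : Ideal R} (hp : p ∈ associatedPrimes R M) :
    ringKrullDim (R ⧸ p) ≤ Module.supportDim R M := by
  obtain ⟨-, m, hm⟩ := isAssociatedPrime_iff.1 hp
  rw [← Module.supportDim_quotient_eq_ringKrullDim]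
  refine Module.supportDim_le_of_injective (Submodule.liftQ p (LinearMap.toSpanSingleton R M m)
    (fun a ha => ?_)) ?_
  · rw [hm, Submodule.mem_colon_singleton, Submodule.mem_bot] at ha
    simpa using ha
  · rw [← LinearMap.ker_eq_bot, Submodule.ker_liftQ_eq_bot']
    ext a
    rw [hm, Submodule.mem_colon_singleton, Submodule.mem_bot]
    simp

lemma depth_le_supportDim (M : Type u) [AddCommGroup M] [Module R M] [Module.Finite R M]
    [Nontrivial M] : ((LocCoh.depth R M : ℕ∞) : WithBot ℕ∞) ≤ Module.supportDim R M := by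
  obtain ⟨p, hp⟩ := associatedPrimes.nonempty R M
  exact (depth_le_ringKrullDim_quotient hp).trans (ringKrullDim_quotient_le_supportDim hp)

omit [IsNoetherianRing R] in
lemma nontrivial_of_CM {M : Type u} [AddCommGroup M] [Module R M]
    (h : LocCoh.IsCohenMacaulayModule R M) : Nontrivial M := by
  rw [← Module.supportDim_ne_bot_iff_nontrivial R M, show Module.supportDim R M = _ from h]
  exact WithBot.coe_ne_bot

lemma ringKrullDim_quotient_eq_of_CM {M : Type u} [AddCommGroup M] [Module R M] [Module.Finite R M]
    (h : LocCoh.IsCohenMacaulayModule R M) {p : Ideal R} (hp : p ∈ associatedPrimes R M) :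
    ringKrullDim (R ⧸ p) = Module.supportDim R M := by
  refine le_antisymm (ringKrullDim_quotient_le_supportDim hp) ?_
  rw [show Module.supportDim R M = _ from h]
  exact depth_le_ringKrullDim_quotient hp

lemma mem_minimalPrimes_of_CM {M : Type u} [AddCommGroup M] [Module R M] [Module.Finite R M]
    (h : LocCoh.IsCohenMacaulayModule R M) {p : Ideal R} (hp : p ∈ associatedPrimes R M) :
    p ∈ (Module.annihilator R M).minimalPrimes := by
  have hle : Module.annihilator R M ≤ p :=
    le_of_eq_of_le Submodule.annihilator_top.symm (IsAssociatedPrime.annihilator_le hp)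
  have := hp.isPrime
  obtain ⟨q, hq, hqp⟩ := Ideal.exists_minimalPrimes_le hle
  rcases hqp.eq_or_lt with rfl | hlt
  · exact hq
  · exfalso
    have := hq.isPrime
    have h1 := ringKrullDim_quotient_add_one_le hp.isPrime.ne_top hlt
    rw [ringKrullDim_quotient_eq_of_CM h hp,
      ringKrullDim_quotient_eq_of_CM h
        (Module.associatedPrimes.minimalPrimes_annihilator_subset_associatedPrimes R M hq)] at h1
    have : Nontrivial M := nontrivial_of_CM h
    obtain ⟨n, hn⟩ := exists_depth_eq (R := R) M
    rw [show Module.supportDim R M = _ from h, hn] at h1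
    change ((n + 1 : ℕ) : WithBot ℕ∞) ≤ (n : WithBot ℕ∞) at h1
    norm_cast at h1
    omega

lemma isCM_quotSMulTop {M : Type u} [AddCommGroup M] [Module R M] [Module.Finite R M]
    (h : LocCoh.IsCohenMacaulayModule R M) {x : R} (hx : x ∈ maximalIdeal R)
    (hreg : IsSMulRegular M x) : LocCoh.IsCohenMacaulayModule R (QuotSMulTop x M) := by
  have : Nontrivial M := nontrivial_of_CM h
  have hIM := smul_maximalIdeal_ne_top M (maximalIdeal.isMaximal R).ne_top
  have h1 := Module.supportDim_quotSMulTop_succ_eq_supportDim hreg hx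
  rw [show Module.supportDim R M = _ from h, LocCoh.depth,
    ← idealDepth_quotSMulTop_add_one _ M hIM hx hreg] at h1
  change Module.supportDim R (QuotSMulTop x M) =
    ((LocCoh.idealDepth (maximalIdeal R) (QuotSMulTop x M) : ℕ∞) : WithBot ℕ∞)
  revert h1
  cases Module.supportDim R (QuotSMulTop x M) with
  | bot =>
    intro h1
    rw [WithBot.bot_add] at h1
    exact absurd h1.symm WithBot.coe_ne_bot
  | coe d =>
    intro h1
    rw [← WithBot.coe_one, ← WithBot.coe_add, WithBot.coe_inj] at h1
    rw [WithBot.coe_inj]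
    exact ((ENat.addLECancellable_of_ne_top (by simp : (1 : ℕ∞) ≠ ⊤)).inj_left).1 h1

/-- `dim M = dim M/IM + depth_I M` for Cohen–Macaulay `M`. -/
lemma supportDim_eq_add_idealDepth {I : Ideal R} (hI : I ≠ ⊤) (n : ℕ) :
    ∀ (M : Type u) [AddCommGroup M] [Module R M] [Module.Finite R M],
      LocCoh.IsCohenMacaulayModule R M → LocCoh.idealDepth I M = n →
      Module.supportDim R M =
        Module.supportDim R (M ⧸ (I • (⊤ : Submodule R M))) + (n : WithBot ℕ∞) := by
  induction n with
  | zero =>
    intro M _ _ _ h hn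
    have : Nontrivial M := nontrivial_of_CM h
    simp only [Nat.cast_zero, add_zero]
    refine le_antisymm ?_ (Module.supportDim_le_of_surjective _ (Submodule.mkQ_surjective _))
    have h1 : ¬ (1 : ℕ∞) ≤ LocCoh.idealDepth I M := by rw [hn]; simp
    rw [one_le_idealDepth_iff] at h1
    push Not at h1
    obtain ⟨p, hp, hle⟩ := h1
    rw [← ringKrullDim_quotient_eq_of_CM h hp, ← Module.supportDim_quotient_eq_ringKrullDim]
    refine Order.krullDim_le_of_strictMono (fun q => ⟨q.1, ?_⟩) fun a b hab => hab
    have hq : p ≤ q.1.asIdeal :=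
      SetLike.coe_subset_coe.1 ((PrimeSpectrum.mem_zeroLocus _ _).1
        ((Set.ext_iff.1 (support_quotient_eq p) _).1 q.2))
    have hann : Module.annihilator R M ≤ p :=
      le_of_eq_of_le Submodule.annihilator_top.symm (IsAssociatedPrime.annihilator_le hp)
    rw [Module.support_quotient, Set.mem_inter_iff, Module.mem_support_iff_of_finite,
      PrimeSpectrum.mem_zeroLocus, SetLike.coe_subset_coe]
    exact ⟨hann.trans hq, hle.trans hq⟩
  | succ n ih =>
    intro M _ _ _ h hn
    have : Nontrivial M := nontrivial_of_CM h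
    have hIM := smul_maximalIdeal_ne_top M hI
    obtain ⟨x, hx, hreg⟩ := exists_regular_of_one_le hIM (by
      rw [hn]; exact_mod_cast Nat.succ_pos n)
    have hxm : x ∈ maximalIdeal R := IsLocalRing.le_maximalIdeal hI hx
    have hd : LocCoh.idealDepth I (QuotSMulTop x M) = n := by
      have := idealDepth_quotSMulTop_add_one I M hIM hx hreg
      rw [hn, Nat.cast_succ] at this
      exact ((ENat.addLECancellable_of_ne_top (by simp : (1 : ℕ∞) ≠ ⊤)).inj_left).1 this
    rw [← Module.supportDim_quotSMulTop_succ_eq_supportDim hreg hxm,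
      ih _ (isCM_quotSMulTop h hxm hreg) hd]
    have e : (QuotSMulTop x M ⧸ I • (⊤ : Submodule R (QuotSMulTop x M))) ≃ₗ[R]
        M ⧸ I • (⊤ : Submodule R M) := by
      refine (Submodule.quotEquivOfEq _ _ ?_).trans
        (Submodule.quotientQuotientEquivQuotient (x • (⊤ : Submodule R M)) (I • ⊤) ?_)
      · rw [Submodule.map_smul'', Submodule.map_top, Submodule.range_mkQ]
      · rw [← Submodule.ideal_span_singleton_smul]
        exact Submodule.smul_mono_left ((Ideal.span_singleton_le_iff_mem I).2 hx)
    rw [Module.supportDim_eq_of_equiv e, Nat.cast_succ, add_assoc]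

omit [IsLocalRing R] in
/-- Localization commutes with reduction modulo an element. -/
noncomputable def quotSMulTopLocalizedEquiv (p : Ideal R) [p.IsPrime] (M : Type u) [AddCommGroup M]
    [Module R M] (x : R) :
    QuotSMulTop (algebraMap R (Localization.AtPrime p) x) (LocalizedModule p.primeCompl M)
      ≃ₗ[Localization.AtPrime p] LocalizedModule p.primeCompl (QuotSMulTop x M) :=
  (Submodule.quotEquivOfEq _ _ (by
    have hfg : Function.Exact (LinearMap.lsmul R M x)
        (Submodule.mkQ (x • (⊤ : Submodule R M))) := by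
      intro y
      simp only [Submodule.mkQ_apply, Submodule.Quotient.mk_eq_zero,
        Submodule.mem_smul_pointwise_iff_exists, Submodule.mem_top, true_and, Set.mem_range]
      rfl
    ext y
    rw [Submodule.mem_smul_pointwise_iff_exists, LinearMap.mem_ker]
    refine Iff.trans ?_ (LocalizedModule.map_exact p.primeCompl _ _ hfg y).symm
    refine exists_congr fun z => ?_
    simp only [Submodule.mem_top, true_and]
    induction z using LocalizedModule.induction_on with
    | h m s =>
      rw [algebraMap_smul, LocalizedModule.smul'_mk, IsLocalizedModule.mk_eq_mk',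
        IsLocalizedModule.mk_eq_mk', IsLocalizedModule.map_mk']
      rfl)).trans
    (LinearMap.quotKerEquivOfSurjective
      (LocalizedModule.map p.primeCompl (Submodule.mkQ (x • (⊤ : Submodule R M))))
      (LocalizedModule.map_surjective _ _ (Submodule.mkQ_surjective _)))

/-- Localizations of Cohen–Macaulay modules are Cohen–Macaulay or zero. -/
lemma isCM_localized (n : ℕ) :
    ∀ (M : Type u) [AddCommGroup M] [Module R M] [Module.Finite R M],
      LocCoh.IsCohenMacaulayModule R M → LocCoh.depth R M = n →
      ∀ (p : Ideal R) [p.IsPrime], Nontrivial (LocalizedModule p.primeCompl M) →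
        LocCoh.IsCohenMacaulayModule (Localization.AtPrime p) (LocalizedModule p.primeCompl M) := by
  induction n using Nat.strong_induction_on with
  | _ n ih =>
    intro M _ _ _ h hn p _ hnt
    have : Nontrivial M := nontrivial_of_CM h
    have hsupp : (⟨p, inferInstance⟩ : PrimeSpectrum R) ∈ Module.support R M :=
      Module.mem_support_iff.2 hnt
    by_cases hass : ∀ q ∈ associatedPrimes R M, ¬ p ≤ q
    · obtain ⟨x, hx, hreg⟩ : ∃ x ∈ p, IsSMulRegular M x := by
        refine exists_regular_of_one_le ?_ ((one_le_idealDepth_iff p M).2 hass)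
        exact smul_maximalIdeal_ne_top M (Ideal.IsPrime.ne_top inferInstance)
      have hxm : x ∈ maximalIdeal R := IsLocalRing.le_maximalIdeal (Ideal.IsPrime.ne_top inferInstance) hx
      obtain ⟨m, rfl⟩ : ∃ m, n = m + 1 := by
        have h1 := idealDepth_quotSMulTop_add_one _ M
          (smul_maximalIdeal_ne_top M (maximalIdeal.isMaximal R).ne_top) hxm hreg
        rw [show LocCoh.idealDepth (maximalIdeal R) M = n from hn] at h1
        refine ⟨n - 1, ?_⟩
        rcases n with _ | n
        · simp at h1
        · rfl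
      have hd : LocCoh.depth R (QuotSMulTop x M) = m := by
        have h1 := idealDepth_quotSMulTop_add_one _ M
          (smul_maximalIdeal_ne_top M (maximalIdeal.isMaximal R).ne_top) hxm hreg
        rw [show LocCoh.idealDepth (maximalIdeal R) M = _ from hn, Nat.cast_succ] at h1
        exact ((ENat.addLECancellable_of_ne_top (by simp : (1 : ℕ∞) ≠ ⊤)).inj_left).1 h1
      set xp := algebraMap R (Localization.AtPrime p) x with hxp
      have hxpm : xp ∈ maximalIdeal (Localization.AtPrime p) :=
        (IsLocalization.AtPrime.to_map_mem_maximal_iff (Localization.AtPrime p) p x).2 hx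
      have hregp : IsSMulRegular (LocalizedModule p.primeCompl M) xp := by
        have := RingTheory.Sequence.IsWeaklyRegular.of_isLocalizedModule (Localization.AtPrime p)
          p.primeCompl (LocalizedModule.mkLinearMap p.primeCompl M) (rs := [x])
          ((isWeaklyRegular_singleton_iff _ _).2 hreg)
        exact (isWeaklyRegular_singleton_iff _ _).1 this
      let e := quotSMulTopLocalizedEquiv p M x
      have : Nontrivial (LocalizedModule p.primeCompl (QuotSMulTop x M)) := by
        rw [← not_subsingleton_iff_nontrivial, ← e.toEquiv.subsingleton_congr,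
          Submodule.Quotient.subsingleton_iff]
        intro heq
        exact Submodule.top_ne_pointwise_smul_of_mem_jacobson_annihilator
          (maximalIdeal_le_jacobson _ hxpm) heq.symm
      have hq := ih m (by omega) (QuotSMulTop x M) (isCM_quotSMulTop h hxm hreg) hd p this
      have h1 := Module.supportDim_quotSMulTop_succ_eq_supportDim hregp hxpm
      rw [Module.supportDim_eq_of_equiv e,
        show Module.supportDim (Localization.AtPrime p) (LocalizedModule p.primeCompl (QuotSMulTop x M))
          = _ from hq, ← WithBot.coe_one, ← WithBot.coe_add] at h1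
      change Module.supportDim _ _ = _
      rw [← h1, WithBot.coe_inj, LocCoh.depth, LocCoh.depth,
        ← idealDepth_quotSMulTop_add_one _ (LocalizedModule p.primeCompl M)
          (smul_maximalIdeal_ne_top _ (maximalIdeal.isMaximal _).ne_top) hxpm hregp,
        idealDepth_congr e]
    · push Not at hass
      obtain ⟨q, hq, hpq⟩ := hass
      have hqmin := mem_minimalPrimes_of_CM h hq
      have hpann : Module.annihilator R M ≤ p := Module.mem_support_iff_of_finite.1 hsupp
      have hqp : q ≤ p := hqmin.2 ⟨inferInstance, hpann⟩ hpq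
      obtain rfl : p = q := le_antisymm hpq hqp
      have h0 : ¬ (1 : ℕ∞) ≤ LocCoh.depth (Localization.AtPrime p) (LocalizedModule p.primeCompl M) := by
        rw [one_le_depth_localized_iff]
        exact fun h' => h' hq
      have hd0 : LocCoh.depth (Localization.AtPrime p) (LocalizedModule p.primeCompl M) = 0 :=
        Order.lt_one_iff.1 (not_le.1 h0)
      change Module.supportDim _ _ = _
      rw [hd0]
      refine le_antisymm ?_ (hd0 ▸ depth_le_supportDim _)
      refine Order.krullDim_nonpos_iff_forall_isMax.2 fun a b hab => ?_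
      have key : ∀ c : Module.support (Localization.AtPrime p) (LocalizedModule p.primeCompl M),
          c.1.asIdeal = maximalIdeal _ := by
        intro c
        have hc := Module.mem_support_iff_of_finite.1 c.2
        have h2 : Module.annihilator R M ≤ c.1.asIdeal.comap (algebraMap R _) := by
          intro r hr
          refine hc (Module.mem_annihilator.2 fun y => ?_)
          induction y using LocalizedModule.induction_on with
          | h m s =>
            rw [algebraMap_smul, LocalizedModule.smul'_mk, Module.mem_annihilator.1 hr,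
              LocalizedModule.zero_mk]
        have h3 : c.1.asIdeal.comap (algebraMap R _) ≤ p := by
          exact (Ideal.comap_mono (IsLocalRing.le_maximalIdeal c.1.2.ne_top)).trans
            (comap_maximalIdeal_atPrime p).le
        have h4 : p ≤ c.1.asIdeal.comap (algebraMap R _) := hqmin.2 ⟨inferInstance, h2⟩ h3
        refine le_antisymm (IsLocalRing.le_maximalIdeal c.1.2.ne_top) ?_
        rw [← Localization.AtPrime.map_eq_maximalIdeal, Ideal.map_le_iff_le_comap]
        exact h4
      exact le_of_eq (Subtype.ext (PrimeSpectrum.ext ((key b).trans (key a).symm)))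

end Groth.LocCohBase
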