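import Groth.Agent.PicAux.FreeBasis
import Groth.Agent.PicAux.QCoh
import Groth.Agent.QCohMod.Sections
import Groth.Agent.QCohMod.Local
import Mathlib.Algebra.Category.ModuleCat.Sheaf.LocallyFree

/-!
Finite locally free modules: morphisms defined over a basic open `D(g)` extend to the whole scheme
after multiplication by a power of `g`, and the identity factors through `O^n` up to a power of `g`.
-/

set_option autoImplicit false

universe u

open CategoryTheory CategoryTheory.Limits AlgebraicGeometry Opposite TopologicalSpace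

namespace Groth.LocCohBase.HomExtend

open Groth.PicAux

variable {X : Scheme.{u}}

theorem isQCoh_freeMod (n : ℕ) : (FlatMod.freeMod X n).IsQuasicoherent := by
  have e : SheafOfModules.free (R := X.ringCatSheaf) (ULift.{u} (Fin n)) ≅ FlatMod.freeMod X n :=
    Sigma.whiskerEquiv (f := fun _ : ULift.{u} (Fin n) => SheafOfModules.unit X.ringCatSheaf)
      (g := fun _ : Fin n => Coh.structureModule X) Equiv.ulift (fun _ => Iso.refl _)
  exact (Groth.QCohMod.isQCoh_iff_of_iso e).1 inferInstance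

theorem isQCoh_of_isFinLocFree {M : X.Modules} (hM : FlatMod.IsFinLocFree M) :
    M.IsQuasicoherent :=
  Groth.QCohMod.isQCoh_of_forall_exists M fun x => by
    obtain ⟨U, n, hxU, ⟨e⟩⟩ := hM x
    exact ⟨U, hxU, (Groth.QCohMod.isQCoh_iff_of_iso e).2 (isQCoh_freeMod n)⟩

theorem res_sum' {M : X.Modules} {U V : X.Opens} (h : V ≤ U) {κ : Type*} (t : Finset κ)
    (x : κ → Γ(M, U)) : res M h (∑ i ∈ t, x i) = ∑ i ∈ t, res M h (x i) :=
  res_sum h t x

theorem basicOpen_res_top (g : Γ(X, ⊤)) (W : X.Opens) :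
    X.basicOpen (resX X (le_top : W ≤ ⊤) g) = W ⊓ X.basicOpen g :=
  X.basicOpen_res g (homOfLE le_top).op

/-- Sections over `W ⊓ D(g)`, `W` affine, extend after multiplication by a power of `g`. -/
theorem exists_ext {M : X.Modules} [M.IsQuasicoherent] {W : X.Opens} (hW : IsAffineOpen W)
    (g : Γ(X, ⊤)) (s : Γ(M, W ⊓ X.basicOpen g)) :
    ∃ (n : ℕ) (t : Γ(M, W)), res M inf_le_left t =
      resX X (le_top : W ⊓ X.basicOpen g ≤ ⊤) g ^ n • s := by
  have he := basicOpen_res_top g W
  obtain ⟨n, t, ht⟩ := Groth.QCohMod.exists_pow_smul_eq_res M hW (resX X le_top g)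
    (res M he.le s)
  replace ht : res M (X.basicOpen_le _) t =
      resX X (X.basicOpen_le _) (resX X le_top g) ^ n • res M he.le s := ht
  refine ⟨n, t, ?_⟩
  have := congrArg (res M he.ge) ht
  simpa [res_smul] using this

/-- A section over an affine `W` vanishing on `W ⊓ D(g)` is killed by a power of `g`. -/
theorem exists_kill {M : X.Modules} [M.IsQuasicoherent] {W : X.Opens} (hW : IsAffineOpen W)
    (g : Γ(X, ⊤)) (t : Γ(M, W)) (ht : res M (inf_le_left : W ⊓ X.basicOpen g ≤ W) t = 0) :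
    ∃ n : ℕ, resX X (le_top : W ≤ ⊤) g ^ n • t = 0 := by
  have he := basicOpen_res_top g W
  refine Groth.QCohMod.exists_pow_smul_eq_zero M hW (resX X le_top g) t ?_
  change res M (X.basicOpen_le _) t = 0
  have := congrArg (res M he.le) ht
  simpa [res_zero] using this

/-- A linear family of maps on the opens inside `U`. -/
structure Fam (L M : X.Modules) (U : X.Opens) where
  /-- the maps -/
  f : ∀ V : X.Opens, V ≤ U → Γ(L, V) → Γ(M, V)
  add : ∀ V h x y, f V h (x + y) = f V h x + f V h y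
  smul : ∀ V h (r : Γ(X, V)) x, f V h (r • x) = r • f V h x
  res : ∀ {V W : X.Opens} (h : V ≤ U) (h' : W ≤ V) x,
    res M h' (f V h x) = f W (h'.trans h) (res L h' x)

theorem Fam.map_sum {L M : X.Modules} {U : X.Opens} (c : Fam L M U) {V : X.Opens} (h : V ≤ U)
    {κ : Type*} (t : Finset κ) (x : κ → Γ(L, V)) :
    c.f V h (∑ i ∈ t, x i) = ∑ i ∈ t, c.f V h (x i) :=
  _root_.map_sum (AddMonoidHom.mk' (c.f V h) (c.add V h)) x t

/-- Coordinates with respect to a basis. -/
noncomputable def coord {n : ℕ} {L : X.Modules} {U : X.Opens} {s : Fin n → Γ(L, U)}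
    (hs : Basis' L U s) (V : X.Opens) (h : V ≤ U) (x : Γ(L, V)) : Fin n → Γ(X, V) :=
  ((hs V h).2 x).choose

theorem coord_spec {n : ℕ} {L : X.Modules} {U : X.Opens} {s : Fin n → Γ(L, U)}
    (hs : Basis' L U s) (V : X.Opens) (h : V ≤ U) (x : Γ(L, V)) :
    ∑ i, coord hs V h x i • res L h (s i) = x :=
  ((hs V h).2 x).choose_spec

theorem coord_eq {n : ℕ} {L : X.Modules} {U : X.Opens} {s : Fin n → Γ(L, U)}
    (hs : Basis' L U s) (V : X.Opens) (h : V ≤ U) (x : Γ(L, V)) (r : Fin n → Γ(X, V))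
    (hr : ∑ i, r i • res L h (s i) = x) : coord hs V h x = r :=
  (hs V h).1 ((coord_spec hs V h x).trans hr.symm)

/-- The family with prescribed values on a basis. -/
noncomputable def famOfBasis {n : ℕ} {L M : X.Modules} {U : X.Opens} {s : Fin n → Γ(L, U)}
    (hs : Basis' L U s) (t : Fin n → Γ(M, U)) : Fam L M U where
  f V h x := ∑ i, coord hs V h x i • res M h (t i)
  add V h x y := by
    rw [coord_eq hs V h (x + y) (coord hs V h x + coord hs V h y)
      (by simp [add_smul, Finset.sum_add_distrib, coord_spec])]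
    simp [add_smul, Finset.sum_add_distrib]
  smul V h r x := by
    rw [coord_eq hs V h (r • x) (fun i => r * coord hs V h x i)
      (by simp [mul_smul, ← Finset.smul_sum, coord_spec])]
    simp [mul_smul, ← Finset.smul_sum]
  res {V W} h h' x := by
    rw [coord_eq hs W (h'.trans h) (Groth.PicAux.res L h' x)
      (fun i => resX X h' (coord hs V h x i)) ?_]
    · simp [res_sum', res_smul]
    · conv_rhs => rw [← coord_spec hs V h x]
      simp [res_sum', res_smul]

theorem famOfBasis_apply {n : ℕ} {L M : X.Modules} {U : X.Opens} {s : Fin n → Γ(L, U)}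
    (hs : Basis' L U s) (t : Fin n → Γ(M, U)) (V : X.Opens) (h : V ≤ U) (i : Fin n) :
    (famOfBasis hs t).f V h (res L h (s i)) = res M h (t i) := by
  change ∑ j, coord hs V h _ j • res M h (t j) = _
  rw [coord_eq hs V h (res L h (s i)) (fun j => if j = i then 1 else 0) (by simp [ite_smul])]
  simp [ite_smul]

/-- Multiples of a family. -/
noncomputable def Fam.scale {L M : X.Modules} {U : X.Opens} (c : Fam L M U) (g : Γ(X, ⊤)) :
    Fam L M U where
  f V h x := resX X (le_top : V ≤ ⊤) g • c.f V h x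
  add V h x y := by rw [c.add, smul_add]
  smul V h r x := by rw [c.smul, smul_comm]
  res {V W} h h' x := by rw [res_smul, c.res, resX_resX]

theorem Fam.scale_f {L M : X.Modules} {U : X.Opens} (c : Fam L M U) (g : Γ(X, ⊤)) (V : X.Opens)
    (h : V ≤ U) (x : Γ(L, V)) : (c.scale g).f V h x = resX X (le_top : V ≤ ⊤) g • c.f V h x := rfl

/-- The family of a morphism. -/
noncomputable def famOfHom {L M : X.Modules} (φ : L ⟶ M) (U : X.Opens) : Fam L M U where
  f V _ x := φ.app V x
  add V _ x y := map_add (φ.app V).hom x y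
  smul V _ r x := φ.app_smul r x
  res {V W} _ h' x := (app_res φ h' x).symm

/-- Two families agreeing on a basis agree. -/
theorem Fam.eq_of_basis {n : ℕ} {L M : X.Modules} {U U₁ U₂ : X.Opens} {s : Fin n → Γ(L, U)}
    (hs : Basis' L U s) (a : Fam L M U₁) (b : Fam L M U₂) (h₁ : U ≤ U₁) (h₂ : U ≤ U₂)
    (h : ∀ i, a.f U h₁ (s i) = b.f U h₂ (s i)) (V : X.Opens) (hV : V ≤ U) (x : Γ(L, V)) :
    a.f V (hV.trans h₁) x = b.f V (hV.trans h₂) x := by
  rw [← coord_spec hs V hV x, a.map_sum, b.map_sum]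
  refine Finset.sum_congr rfl fun i _ => ?_
  rw [a.smul, b.smul, ← a.res h₁ hV, ← b.res h₂ hV, h i]

variable {ι : Type*} [Finite ι] {V : ι → X.Opens}

/-- Two global-on-`W` families agreeing over `W ⊓ D(g)` agree after a power of `g`. -/
theorem exists_pow_eq {n : ℕ} {L M : X.Modules} [M.IsQuasicoherent] (g : Γ(X, ⊤)) {W : X.Opens}
    (hW : IsAffineOpen W) {s : Fin n → Γ(L, W)} (hs : Basis' L W s) (a b : Fam L M W)
    (h : ∀ (V : X.Opens) (hV : V ≤ W ⊓ X.basicOpen g) (x : Γ(L, V)),
      a.f V (hV.trans inf_le_left) x = b.f V (hV.trans inf_le_left) x) :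
    ∃ N : ℕ, ∀ N' ≥ N, ∀ (V : X.Opens) (hV : V ≤ W) (x : Γ(L, V)),
      resX X (le_top : V ≤ ⊤) g ^ N' • a.f V hV x = resX X (le_top : V ≤ ⊤) g ^ N' • b.f V hV x := by
  have hk : ∀ i, ∃ N : ℕ, resX X (le_top : W ≤ ⊤) g ^ N • (a.f W le_rfl (s i) - b.f W le_rfl (s i)) = 0 := by
    intro i
    refine exists_kill hW g _ ?_
    have e : ∀ y z : Γ(M, W), res M (inf_le_left : W ⊓ X.basicOpen g ≤ W) (y - z) =
        res M inf_le_left y - res M inf_le_left z := fun y z => map_sub (M.presheaf.map _).hom y z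
    rw [e, a.res, b.res, h _ le_rfl, sub_self]
  choose N hN using hk
  refine ⟨∑ i, N i, fun N' hN' V hV x => ?_⟩
  have key := Fam.eq_of_basis hs (a.scale (g ^ N')) (b.scale (g ^ N')) le_rfl le_rfl (fun i => by
    rw [Fam.scale_f, Fam.scale_f, ← sub_eq_zero, ← smul_sub, map_pow,
      ← Nat.sub_add_cancel (le_trans (Finset.single_le_sum (fun j _ => Nat.zero_le (N j))
        (Finset.mem_univ i)) hN'), pow_add, mul_smul, hN i, smul_zero]) V hV x
  simpa [Fam.scale_f, map_pow] using key

/-- A morphism given over `D(g)` extends to everything after multiplication by a power of `g`. -/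
theorem exists_hom_extend {L M : X.Modules} [M.IsQuasicoherent] (g : Γ(X, ⊤))
    (hV : ∀ j, IsAffineOpen (V j)) (hVV : ∀ j k, IsAffineOpen (V j ⊓ V k)) (hcov : iSup V = ⊤)
    {n : ι → ℕ} (e : ∀ j, Fin (n j) → Γ(L, V j)) (he : ∀ j, Basis' L (V j) (e j))
    (c : Fam L M (X.basicOpen g)) :
    ∃ (N : ℕ) (φ : L ⟶ M), ∀ (W : X.Opens) (h : W ≤ X.basicOpen g) (x : Γ(L, W)),
      φ.app W x = resX X (le_top : W ≤ ⊤) g ^ N • c.f W h x := by
  have := Fintype.ofFinite ι
  have h1 : ∀ (j : ι) (k : Fin (n j)), ∃ (N : ℕ) (t : Γ(M, V j)), res M inf_le_left t =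
      resX X (le_top : V j ⊓ X.basicOpen g ≤ ⊤) g ^ N •
        c.f (V j ⊓ X.basicOpen g) inf_le_right (res L inf_le_left (e j k)) :=
    fun j k => exists_ext (hV j) g _
  choose N t ht using h1
  let N₀ : ℕ := ∑ j, ∑ k, N j k
  have hN₀ : ∀ j k, N j k ≤ N₀ := fun j k =>
    (Finset.single_le_sum (fun k _ => Nat.zero_le (N j k)) (Finset.mem_univ k)).trans
      (Finset.single_le_sum (fun j _ => Nat.zero_le (∑ k, N j k)) (Finset.mem_univ j))
  let A : ∀ j, Fam L M (V j) := fun j =>
    famOfBasis (he j) (fun k => resX X (le_top : V j ≤ ⊤) g ^ (N₀ - N j k) • t j k)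
  have hA : ∀ (j : ι) (W : X.Opens) (h : W ≤ V j ⊓ X.basicOpen g) (x : Γ(L, W)),
      (A j).f W (h.trans inf_le_left) x =
        resX X (le_top : W ≤ ⊤) g ^ N₀ • c.f W (h.trans inf_le_right) x := by
    intro j W h x
    have key := Fam.eq_of_basis ((he j).res' (inf_le_left : V j ⊓ X.basicOpen g ≤ V j)) (A j)
      (c.scale (g ^ N₀)) inf_le_left inf_le_right (fun k => by
        change (famOfBasis (he j) _).f _ inf_le_left _ = _
        rw [famOfBasis_apply, res_smul, ht, Fam.scale_f, ← mul_smul, map_pow, resX_resX, ← pow_add,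
          Nat.sub_add_cancel (hN₀ j k), map_pow]) W h x
    rw [key, Fam.scale_f, map_pow]
  have h2 : ∀ j j' : ι, ∃ K : ℕ, ∀ K' ≥ K, ∀ (W : X.Opens) (h : W ≤ V j ⊓ V j') (x : Γ(L, W)),
      resX X (le_top : W ≤ ⊤) g ^ K' • (A j).f W (h.trans inf_le_left) x =
        resX X (le_top : W ≤ ⊤) g ^ K' • (A j').f W (h.trans inf_le_right) x := fun j j' =>
    exists_pow_eq g (hVV j j') ((he j).res' inf_le_left)
      ⟨fun W h => (A j).f W (h.trans inf_le_left), fun W h => (A j).add W _,
        fun W h => (A j).smul W _, fun h h' => (A j).res _ h'⟩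
      ⟨fun W h => (A j').f W (h.trans inf_le_right), fun W h => (A j').add W _,
        fun W h => (A j').smul W _, fun h h' => (A j').res _ h'⟩
      (fun W h x => (hA j W (h.trans (inf_le_inf_right _ inf_le_left)) x).trans
        (hA j' W (h.trans (inf_le_inf_right _ inf_le_right)) x).symm)
  choose K hK using h2
  let K₀ : ℕ := ∑ j, ∑ j', K j j'
  have hK₀ : ∀ j j', K j j' ≤ K₀ := fun j j' =>
    (Finset.single_le_sum (fun k _ => Nat.zero_le (K j k)) (Finset.mem_univ j')).trans
      (Finset.single_le_sum (fun i _ => Nat.zero_le (∑ k, K i k)) (Finset.mem_univ j))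
  obtain ⟨φ, hφ⟩ := exists_hom_of_cover hcov
    (fun j W h x => ((A j).scale (g ^ K₀)).f W h x)
    (fun j W h => ((A j).scale (g ^ K₀)).add W h) (fun j W h => ((A j).scale (g ^ K₀)).smul W h)
    (fun j W W' h h' => ((A j).scale (g ^ K₀)).res h h')
    (fun j j' W hi hj x => by
      rw [Fam.scale_f, Fam.scale_f, map_pow]
      exact hK j j' K₀ (hK₀ j j') W (le_inf hi hj) x)
  refine ⟨K₀ + N₀, φ, fun W h x => res_ext (fun j => W ⊓ V j) (fun _ => inf_le_left)
    (le_iSup_inf hcov W) fun j => ?_⟩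
  rw [← app_res, hφ j _ inf_le_right, Fam.scale_f,
    hA j _ (le_inf inf_le_right (inf_le_left.trans h)), res_smul, c.res, map_pow, ← mul_smul,
    ← pow_add, map_pow, resX_resX]

/-- Up to a power of `g`, the identity factors through the free module given by a basis on `D(g)`. -/
theorem exists_factor {M : X.Modules} [M.IsQuasicoherent] (g : Γ(X, ⊤))
    (hV : ∀ j, IsAffineOpen (V j)) (hVV : ∀ j k, IsAffineOpen (V j ⊓ V k)) (hcov : iSup V = ⊤)
    {n : ι → ℕ} (e : ∀ j, Fin (n j) → Γ(M, V j)) (he : ∀ j, Basis' M (V j) (e j))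
    {r : ℕ} (s : Fin r → Γ(M, X.basicOpen g)) (hs : Basis' M (X.basicOpen g) s) :
    ∃ (N : ℕ) (ψ : Fin r → (M ⟶ Coh.structureModule X)) (φ : Fin r → (Coh.structureModule X ⟶ M)),
      ∀ (W : X.Opens) (x : Γ(M, W)),
        (∑ i, ψ i ≫ φ i).app W x = resX X (le_top : W ≤ ⊤) g ^ N • x := by
  have := Fintype.ofFinite ι
  have := Groth.PicAux.isQCoh_structureModule X
  have hO : ∀ W : X.Opens, Basis' (Coh.structureModule X) W (fun _ : Fin 1 => oneSec X W) := by
    intro W U h
    have := gen_oneSec (X := X) W U h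
    constructor
    · intro a b hab
      funext i
      rw [Subsingleton.elim i 0]
      exact this.1 (by simpa [Fin.sum_univ_one] using hab)
    · intro x
      obtain ⟨a, ha⟩ := this.2 x
      exact ⟨fun _ => a, by simpa [Fin.sum_univ_one] using ha⟩
  choose N₁ ψ hψ using fun i : Fin r => exists_hom_extend g hV hVV hcov e he
    (famOfBasis hs (fun k => if k = i then oneSec X (X.basicOpen g) else 0))
  choose N₂ φ hφ using fun i : Fin r => exists_hom_extend g hV hVV hcov
    (fun j (_ : Fin 1) => oneSec X (V j)) (fun j => hO (V j))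
    (famOfBasis (hO (X.basicOpen g)) (fun _ => s i))
  let N : ℕ := ∑ i, (N₁ i + N₂ i)
  have hN : ∀ i, N₁ i + N₂ i ≤ N := fun i =>
    Finset.single_le_sum (fun j _ => Nat.zero_le (N₁ j + N₂ j)) (Finset.mem_univ i)
  -- rescale the second maps
  choose m hm using fun i => Nat.le.dest (hN i)
  let φ' : Fin r → (Coh.structureModule X ⟶ M) := fun i =>
    homOfSection (g ^ m i • (φ i).app ⊤ (oneSec X ⊤))
  have hφ' : ∀ i (W : X.Opens) (z : Γ(Coh.structureModule X, W)),
      (φ' i).app W z = resX X (le_top : W ≤ ⊤) g ^ m i • (φ i).app W z := by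
    intro i W z
    rw [hom_structure_apply, hom_structure_apply (φ i), homOfSection_one, res_smul, smul_comm,
      map_pow]
  have hD : ∀ (W : X.Opens), W ≤ X.basicOpen g → ∀ x : Γ(M, W),
      (∑ i, ψ i ≫ φ' i).app W x = resX X (le_top : W ≤ ⊤) g ^ N • x := by
    intro W h x
    rw [sum_app]
    conv_rhs => rw [← coord_spec hs W h x, Finset.smul_sum]
    refine Finset.sum_congr rfl fun i _ => ?_
    change (φ' i).app W ((ψ i).app W x) = _
    rw [hφ', hψ i W h, Scheme.Modules.Hom.app_smul, hφ i W h, ← mul_smul, ← mul_smul]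
    have e1 : (famOfBasis hs (fun k => if k = i then oneSec X (X.basicOpen g) else 0)).f W h x =
        coord hs W h x i • res _ le_rfl (oneSec X W) := by
      change ∑ k, coord hs W h x k • res _ h (if k = i then oneSec X (X.basicOpen g) else 0) = _
      rw [Finset.sum_eq_single i (fun k _ hk => by rw [if_neg hk, res_zero, smul_zero])
        (fun hi => absurd (Finset.mem_univ i) hi), if_pos rfl, res_oneSec, res_oneSec]
    rw [e1, (famOfBasis (hO (X.basicOpen g)) (fun _ => s i)).smul]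
    have e2 : (famOfBasis (hO (X.basicOpen g)) (fun _ => s i)).f W h
        (res _ le_rfl (oneSec X W)) = res M h (s i) := by
      have := famOfBasis_apply (hO (X.basicOpen g)) (fun _ => s i) W h 0
      simpa using this
    rw [e2, ← mul_smul, ← mul_smul, ← pow_add, ← pow_add]
    congr 3
    have := hm i
    omega
  have h3 : ∀ j, ∃ K : ℕ, ∀ K' ≥ K, ∀ (W : X.Opens) (h : W ≤ V j) (x : Γ(M, W)),
      resX X (le_top : W ≤ ⊤) g ^ K' • (∑ i, ψ i ≫ φ' i).app W x =
        resX X (le_top : W ≤ ⊤) g ^ K' • (resX X (le_top : W ≤ ⊤) g ^ N • x) := fun j =>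
    exists_pow_eq g (hV j) (he j) (famOfHom (∑ i, ψ i ≫ φ' i) (V j))
      ((famOfHom (𝟙 M) (V j)).scale (g ^ N)) (fun W h x => by
        refine (hD W (h.trans inf_le_right) x).trans ?_
        rw [Fam.scale_f, map_pow]
        rfl) |>.imp fun K hK K' hK' W h x => by
          refine (hK K' hK' W h x).trans ?_
          rw [Fam.scale_f, map_pow]
          rfl
  choose K hK using h3
  let K₀ : ℕ := ∑ j, K j
  refine ⟨K₀ + N, ψ, fun i => homOfSection (g ^ K₀ • (φ' i).app ⊤ (oneSec X ⊤)), fun W x => ?_⟩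
  have hsc : ∀ (W : X.Opens) (x : Γ(M, W)),
      (∑ i, ψ i ≫ homOfSection (g ^ K₀ • (φ' i).app ⊤ (oneSec X ⊤))).app W x =
        resX X (le_top : W ≤ ⊤) g ^ K₀ • (∑ i, ψ i ≫ φ' i).app W x := by
    intro W x
    rw [sum_app, sum_app, Finset.smul_sum]
    refine Finset.sum_congr rfl fun i _ => ?_
    change (homOfSection _).app W ((ψ i).app W x) = _ • (φ' i).app W ((ψ i).app W x)
    conv_rhs => rw [hom_structure_apply (φ' i)]
    rw [hom_structure_apply, homOfSection_one, res_smul, smul_comm, map_pow]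
  rw [hsc, pow_add, mul_smul]
  refine res_ext (fun j => W ⊓ V j) (fun _ => inf_le_left) (le_iSup_inf hcov W) fun j => ?_
  simp only [res_smul, map_pow, resX_resX, ← app_res]
  exact hK j K₀ (Finset.single_le_sum (fun j _ => Nat.zero_le (K j)) (Finset.mem_univ j))
    (W ⊓ V j) inf_le_right _

end Groth.LocCohBase.HomExtend
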