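import Groth.Prelude.Def_CAlg
import Mathlib.RingTheory.Depth.Rees
import Mathlib.Algebra.Category.ModuleCat.Ext.HasExt
import Mathlib.Algebra.Homology.DerivedCategory.Ext.ExactSequences
import Mathlib.RingTheory.Nakayama

/-!
Depth via `Ext`: `le_idealDepth_iff` (no hypothesis `IM ≠ M`), `idealDepth_eq_iff`,
`idealDepth_shortExact`, `idealDepth_quotSMulTop_add_one`, monotonicity, radical invariance.
-/

set_option autoImplicit false

universe u

open CategoryTheory Limits RingTheory.Sequence Pointwise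

namespace Groth.LocCohBase

variable {R : Type u} [CommRing R]

/-- An element that kills `N` and is invertible on `M` kills all `Ext^i(N, M)`. -/
lemma ext_subsingleton_of_smul_eq_zero_of_smul_eq_self (N M : ModuleCat.{u} R) (r : R)
    (hN : ∀ x : N, r • x = 0) (hM : ∀ x : M, r • x = x) (i : ℕ) :
    Subsingleton (Abelian.Ext N M i) := by
  have hN' : r • 𝟙 N = 0 := by ext x; exact hN x
  have hM' : r • 𝟙 M = 𝟙 M := by ext x; exact hM x
  refine subsingleton_of_forall_eq 0 fun α => ?_
  have h1 : r • α = 0 := by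
    have : r • α = (Abelian.Ext.mk₀ (r • 𝟙 N)).comp α (zero_add i) := by
      simp [Abelian.Ext.mk₀_smul]
    rw [this, hN', Abelian.Ext.mk₀_zero, Abelian.Ext.zero_comp]
  have h2 : r • α = α := by
    rw [Abelian.Ext.smul_eq_comp_mk₀, hM', Abelian.Ext.comp_mk₀_id]
  rw [← h2, h1]

/-- A weakly regular sequence in elements having powers that kill `N` makes `Ext` vanish. -/
lemma ext_subsingleton_of_isWeaklyRegular (N : ModuleCat.{u} R) (M : ModuleCat.{u} R)
    (rs : List R) (hreg : IsWeaklyRegular M rs)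
    (hmem : ∀ r ∈ rs, ∃ k : ℕ, r ^ k ∈ Module.annihilator R N) :
    ∀ i < rs.length, Subsingleton (Abelian.Ext N M i) := by
  induction rs generalizing M with
  | nil => simp
  | cons a rs' ih =>
    intro i hi
    simp only [List.length_cons] at hi
    rw [isWeaklyRegular_cons_iff] at hreg
    simp only [List.mem_cons, forall_eq_or_imp] at hmem
    obtain ⟨⟨k, hk⟩, hmem'⟩ := hmem
    match i with
    | 0 =>
      have : Subsingleton (N →ₗ[R] M) := by
        refine subsingleton_of_forall_eq 0 fun f => LinearMap.ext fun x => ?_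
        apply hreg.1.pow k
        change a ^ k • f x = a ^ k • (0 : M)
        rw [smul_zero, ← map_smul, Module.mem_annihilator.1 hk, map_zero]
      exact (Abelian.Ext.addEquiv₀.trans ModuleCat.homAddEquiv).subsingleton
    | i + 1 =>
      have mono_g : Mono (AddCommGrpCat.ofHom
          ((Abelian.Ext.mk₀ (ModuleCat.smulShortComplex M a).f).postcomp N (add_zero (i + 1)))) := by
        apply (Abelian.Ext.covariant_sequence_exact₁' N hreg.1.smulShortComplex_shortExact i (i + 1)
          rfl).mono_g ((AddCommGrpCat.isZero_of_iff_subsingleton.mpr ?_).eq_zero_of_src _)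
        exact ih (ModuleCat.of R (QuotSMulTop a M)) hreg.2 hmem' i (by omega)
      have mono_gk : Mono (AddCommGrpCat.ofHom
          ((Abelian.Ext.mk₀ ((a ^ k) • 𝟙 M)).postcomp N (add_zero (i + 1)))) := by
        simp only [ModuleCat.smulShortComplex_f_eq_smul_id] at mono_g
        exact (Abelian.Ext.postcomp_smul_id_mono_iff (a ^ k) (i + 1)).mpr <|
          ((Abelian.Ext.postcomp_smul_id_mono_iff a (i + 1)).mp mono_g).pow k
      exact AddCommGrpCat.subsingleton_of_isZero (IsZero.of_mono_eq_zero _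
        (Abelian.Ext.postcomp_smul_id_eq_zero_of_mem_annihilator hk (i + 1)))

variable {I : Ideal R}

lemma exists_smul_eq_self_of_smul_top_eq_top {M : Type u} [AddCommGroup M] [Module R M]
    [Module.Finite R M] (h : I • (⊤ : Submodule R M) = ⊤) :
    ∃ r ∈ I, ∀ x : M, r • x = x := by
  obtain ⟨r, hr, hr'⟩ := Submodule.exists_mem_and_smul_eq_self_of_fg_of_le_smul I ⊤
    Module.Finite.fg_top (le_of_eq h.symm)
  exact ⟨r, hr, fun x => hr' x Submodule.mem_top⟩

lemma isRegular_of_isWeaklyRegular_of_mem {M : Type u} [AddCommGroup M] [Module R M]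
    (hIM : I • (⊤ : Submodule R M) ≠ ⊤) {rs : List R} (h : IsWeaklyRegular M rs)
    (hmem : ∀ r ∈ rs, r ∈ I) : IsRegular M rs where
  toIsWeaklyRegular := h
  top_ne_smul heq := hIM (top_unique (heq.le.trans
    (Submodule.smul_mono_left (Ideal.span_le.2 fun _ hr => hmem _ hr))))

omit [CommRing R] in
lemma le_iSup_length_iff {P : List R → Prop} (hP : ∀ rs k, P rs → P (rs.take k)) (hnil : P [])
    (n : ℕ) :
    (n : ℕ∞) ≤ ⨆ (rs : List R) (_ : P rs), (rs.length : ℕ∞) ↔
      ∃ rs : List R, rs.length = n ∧ P rs := by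
  constructor
  · intro h
    rcases n with _ | m
    · exact ⟨[], rfl, hnil⟩
    · have h' : (m : ℕ∞) < ⨆ (rs : List R) (_ : P rs), (rs.length : ℕ∞) :=
        lt_of_lt_of_le (by exact_mod_cast Nat.lt_succ_self m) h
      simp only [lt_iSup_iff, Nat.cast_lt] at h'
      obtain ⟨rs, hrs, hlen⟩ := h'
      exact ⟨rs.take (m + 1), by simp; omega, hP _ _ hrs⟩
  · rintro ⟨rs, rfl, hrs⟩
    exact le_iSup₂ (f := fun (rs : List R) (_ : P rs) => (rs.length : ℕ∞)) rs hrs

lemma smul_top_quotSMulTop_ne_top {M : Type u} [AddCommGroup M] [Module R M] {x : R} (hx : x ∈ I)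
    (hIM : I • (⊤ : Submodule R M) ≠ ⊤) : I • (⊤ : Submodule R (QuotSMulTop x M)) ≠ ⊤ := by
  intro heq
  apply hIM
  have h := congrArg (Submodule.comap (Submodule.mkQ (x • (⊤ : Submodule R M)))) heq
  rw [Submodule.comap_smul_top_of_surjective I _ (Submodule.mkQ_surjective _),
    Submodule.ker_mkQ, Submodule.comap_top, sup_eq_left.2] at h
  · exact h
  · rw [← Submodule.ideal_span_singleton_smul]
    exact Submodule.smul_mono_left ((Ideal.span_singleton_le_iff_mem I).2 hx)

variable (I) in
/-- `n ≤ depth_I M` means that some weakly regular sequence in `I` has length `n`. -/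
lemma le_idealDepth_iff_exists {M : Type u} [AddCommGroup M] [Module R M]
    (hIM : I • (⊤ : Submodule R M) ≠ ⊤) (n : ℕ) :
    (n : ℕ∞) ≤ LocCoh.idealDepth I M ↔
      ∃ rs : List R, rs.length = n ∧ IsWeaklyRegular M rs ∧ ∀ r ∈ rs, r ∈ I := by
  unfold LocCoh.idealDepth
  rw [if_neg hIM]
  refine le_iSup_length_iff (fun rs k h => ⟨?_, fun r hr => h.2 r (List.mem_of_mem_take hr)⟩)
    ⟨IsWeaklyRegular.nil R M, by simp⟩ n
  exact ((isWeaklyRegular_append_iff M _ (rs.drop k)).1 (by rw [List.take_append_drop]; exact h.1)).1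

lemma idealDepth_eq_top_of_smul_top_eq_top {M : Type u} [AddCommGroup M] [Module R M]
    (h : I • (⊤ : Submodule R M) = ⊤) : LocCoh.idealDepth I M = ⊤ := by
  unfold LocCoh.idealDepth
  rw [if_pos h]

lemma ext_subsingleton_of_le_idealDepth (M : ModuleCat.{u} R) [Module.Finite R M]
    (N : ModuleCat.{u} R) (hN : I ≤ (Module.annihilator R N).radical) {n : ℕ}
    (h : (n : ℕ∞) ≤ LocCoh.idealDepth I M) {i : ℕ} (hi : i < n) :
    Subsingleton (Abelian.Ext N M i) := by
  by_cases hIM : I • (⊤ : Submodule R M) = ⊤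
  · obtain ⟨r, hr, hr'⟩ := exists_smul_eq_self_of_smul_top_eq_top hIM
    obtain ⟨k, hk⟩ := hN hr
    refine ext_subsingleton_of_smul_eq_zero_of_smul_eq_self N M (r ^ k)
      (Module.mem_annihilator.1 hk) (fun x => ?_) i
    clear hk
    induction k with
    | zero => simp
    | succ k ih => rw [pow_succ, mul_smul, hr', ih]
  · obtain ⟨rs, rfl, hrs, hmem⟩ := (le_idealDepth_iff_exists I hIM n).1 h
    exact ext_subsingleton_of_isWeaklyRegular N M rs hrs (fun r hr => hN (hmem r hr)) i hi

variable [IsNoetherianRing R]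

lemma le_idealDepth_of_ext (M : ModuleCat.{u} R) [Module.Finite R M]
    (N : ModuleCat.{u} R) [Module.Finite R N]
    (hN : Module.support R N = PrimeSpectrum.zeroLocus (I : Set R)) {n : ℕ}
    (h : ∀ i < n, Subsingleton (Abelian.Ext N M i)) : (n : ℕ∞) ≤ LocCoh.idealDepth I M := by
  by_cases hIM : I • (⊤ : Submodule R M) = ⊤
  · rw [idealDepth_eq_top_of_smul_top_eq_top hIM]; exact le_top
  · obtain ⟨rs, hlen, hmem, hreg⟩ := ModuleCat.exists_isRegular_of_exists_subsingleton_ext I n M
      (Ne.lt_top hIM) N hN h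
    exact (le_idealDepth_iff_exists I hIM n).2 ⟨rs, hlen, hreg.toIsWeaklyRegular, hmem⟩

omit [IsNoetherianRing R] in
lemma support_quotient_eq (I : Ideal R) :
    Module.support R (R ⧸ I) = PrimeSpectrum.zeroLocus (I : Set R) := by
  rw [Module.support_eq_zeroLocus, Ideal.annihilator_quotient]

/-- Rees: `n ≤ depth_I M ↔ Ext^i(R/I, M) = 0` for all `i < n`; no hypothesis on `IM`. -/
lemma le_idealDepth_iff (I : Ideal R) (M : Type u) [AddCommGroup M] [Module R M]
    [Module.Finite R M] (n : ℕ) :
    (n : ℕ∞) ≤ LocCoh.idealDepth I M ↔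
      ∀ i < n, Subsingleton (Abelian.Ext (ModuleCat.of R (R ⧸ I)) (ModuleCat.of R M) i) := by
  refine ⟨fun h i hi => ext_subsingleton_of_le_idealDepth (I := I) (ModuleCat.of R M) _ ?_ h hi,
    fun h => le_idealDepth_of_ext (ModuleCat.of R M) (ModuleCat.of R (R ⧸ I))
      (support_quotient_eq I) h⟩
  exact (Ideal.annihilator_quotient (I := I)).symm ▸ Ideal.le_radical

omit [IsNoetherianRing R] in
lemma le_iff_forall_nat_le {a b : ℕ∞} : a ≤ b ↔ ∀ n : ℕ, (n : ℕ∞) ≤ a → (n : ℕ∞) ≤ b :=
  ⟨fun h _ hn => hn.trans h, fun h => ENat.forall_natCast_le_iff_le.1 h⟩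

omit [IsNoetherianRing R] in
lemma idealDepth_congr {M M' : Type u} [AddCommGroup M] [Module R M] [AddCommGroup M']
    [Module R M'] (e : M ≃ₗ[R] M') :
    LocCoh.idealDepth I M = LocCoh.idealDepth I M' := by
  have h : I • (⊤ : Submodule R M) = ⊤ ↔ I • (⊤ : Submodule R M') = ⊤ := by
    rw [← (Submodule.map_injective_of_injective e.injective).eq_iff, Submodule.map_smul'']
    simp [Submodule.map_top, LinearEquiv.range]
  unfold LocCoh.idealDepth
  simp only [h, e.isWeaklyRegular_congr]

section ShortExact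

variable {S : ShortComplex (ModuleCat.{u} R)} (hS : S.ShortExact) (X : ModuleCat.{u} R)
include hS

omit [IsNoetherianRing R] in
lemma ext_subsingleton_X₂ (i : ℕ) (h₁ : Subsingleton (Abelian.Ext X S.X₁ i))
    (h₃ : Subsingleton (Abelian.Ext X S.X₃ i)) : Subsingleton (Abelian.Ext X S.X₂ i) := by
  refine subsingleton_of_forall_eq 0 fun x => ?_
  obtain ⟨y, rfl⟩ := Abelian.Ext.covariant_sequence_exact₂ X hS x (Subsingleton.elim _ _)
  rw [Subsingleton.elim y 0, Abelian.Ext.zero_comp]

omit [IsNoetherianRing R] in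
lemma ext_subsingleton_X₃ (i : ℕ) (h₂ : Subsingleton (Abelian.Ext X S.X₂ i))
    (h₁ : Subsingleton (Abelian.Ext X S.X₁ (i + 1))) : Subsingleton (Abelian.Ext X S.X₃ i) := by
  refine subsingleton_of_forall_eq 0 fun x => ?_
  obtain ⟨y, rfl⟩ := Abelian.Ext.covariant_sequence_exact₃ X hS x rfl (Subsingleton.elim _ _)
  rw [Subsingleton.elim y 0, Abelian.Ext.zero_comp]

omit [IsNoetherianRing R] in
lemma ext_subsingleton_X₁_zero (h₂ : Subsingleton (Abelian.Ext X S.X₂ 0)) :
    Subsingleton (Abelian.Ext X S.X₁ 0) :=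
  (((Abelian.Ext.postcomp_mk₀_injective_of_mono X S.f (hf := hS.mono_f)))).subsingleton

omit [IsNoetherianRing R] in
lemma ext_subsingleton_X₁ (i : ℕ) (h₃ : Subsingleton (Abelian.Ext X S.X₃ i))
    (h₂ : Subsingleton (Abelian.Ext X S.X₂ (i + 1))) :
    Subsingleton (Abelian.Ext X S.X₁ (i + 1)) := by
  refine subsingleton_of_forall_eq 0 fun x => ?_
  obtain ⟨y, rfl⟩ := Abelian.Ext.covariant_sequence_exact₁ X hS x (Subsingleton.elim _ _) rfl
  rw [Subsingleton.elim y 0, Abelian.Ext.zero_comp]

end ShortExact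

lemma idealDepth_ne_top {M : Type u} [AddCommGroup M] [Module R M] [Module.Finite R M]
    (hIM : I • (⊤ : Submodule R M) ≠ ⊤) : LocCoh.idealDepth I M ≠ ⊤ := by
  suffices h : ∀ N : Submodule R M, LocCoh.idealDepth I (M ⧸ N) = ⊤ →
      I • (⊤ : Submodule R (M ⧸ N)) = ⊤ by
    intro htop
    have e : (M ⧸ (⊥ : Submodule R M)) ≃ₗ[R] M := Submodule.quotEquivOfEqBot ⊥ rfl
    have h' := congrArg (Submodule.map e.toLinearMap) (h ⊥ ((idealDepth_congr e).trans htop))
    rw [Submodule.map_smul'', Submodule.map_top, LinearEquiv.range] at h'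
    exact hIM h'
  intro N
  induction N using (wellFounded_gt (α := Submodule R M)).induction with
  | _ N ih =>
    intro htop
    by_contra hIM'
    obtain ⟨rs, hlen, hrs, hmem⟩ := (le_idealDepth_iff_exists I hIM' 1).1 (htop ▸ le_top)
    obtain ⟨x, rfl⟩ := List.length_eq_one_iff.1 hlen
    have hx : x ∈ I := hmem x (by simp)
    have hreg : IsSMulRegular (M ⧸ N) x := (isWeaklyRegular_singleton_iff _ _).1 hrs
    let g : M →ₗ[R] QuotSMulTop x (M ⧸ N) :=
      Submodule.mkQ (x • (⊤ : Submodule R (M ⧸ N))) ∘ₗ N.mkQ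
    have hg : Function.Surjective g :=
      (Submodule.mkQ_surjective _).comp (Submodule.mkQ_surjective _)
    let N' : Submodule R M := LinearMap.ker g
    have hle : N ≤ N' := fun y hy => by
      simp only [N', g, LinearMap.mem_ker, LinearMap.comp_apply, Submodule.mkQ_apply,
        (Submodule.Quotient.mk_eq_zero N).2 hy, Submodule.Quotient.mk_zero]
    have hlt : N < N' := by
      refine lt_of_le_of_ne hle fun heq => hIM' ?_
      have hz : ∀ y : M ⧸ N, x • y = 0 := by
        intro y
        obtain ⟨y, rfl⟩ := Submodule.Quotient.mk_surjective _ y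
        have : x • y ∈ N' := by
          simp only [N', g, LinearMap.mem_ker, LinearMap.comp_apply, map_smul, Submodule.mkQ_apply,
            ← Submodule.Quotient.mk_smul, Submodule.Quotient.mk_eq_zero]
          rw [Submodule.Quotient.mk_smul]
          exact Submodule.smul_mem_pointwise_smul _ _ _ Submodule.mem_top
        rw [← heq] at this
        rw [← Submodule.Quotient.mk_smul, Submodule.Quotient.mk_eq_zero]
        exact this
      exact top_unique fun y _ => by
        rw [hreg.right_eq_zero_of_smul (hz y)]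
        exact Submodule.zero_mem _
    let e : (M ⧸ N') ≃ₗ[R] QuotSMulTop x (M ⧸ N) := g.quotKerEquivOfSurjective hg
    have htop' : LocCoh.idealDepth I (M ⧸ N') = ⊤ := by
      rw [idealDepth_congr e]
      refine top_unique (le_iff_forall_nat_le.2 fun n _ => (le_idealDepth_iff I _ n).2 fun i _ => ?_)
      have h2 := (le_idealDepth_iff I (M ⧸ N) (i + 2)).1 (le_of_le_of_eq le_top htop.symm)
      exact ext_subsingleton_X₃ (S := ModuleCat.smulShortComplex (ModuleCat.of R (M ⧸ N)) x)
        (IsSMulRegular.smulShortComplex_shortExact (M := ModuleCat.of R (M ⧸ N)) hreg) _ i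
        (h2 i (by omega)) (h2 (i + 1) (by omega))
    have h1 := congrArg (Submodule.map e.toLinearMap) (ih N' hlt htop')
    rw [Submodule.map_smul'', Submodule.map_top, LinearEquiv.range] at h1
    have h2 := congrArg (Submodule.comap (Submodule.mkQ (x • (⊤ : Submodule R (M ⧸ N))))) h1
    rw [Submodule.comap_smul_top_of_surjective I _ (Submodule.mkQ_surjective _),
      Submodule.ker_mkQ, Submodule.comap_top, sup_eq_left.2] at h2
    · exact hIM' h2
    · rw [← Submodule.ideal_span_singleton_smul]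
      exact Submodule.smul_mono_left ((Ideal.span_singleton_le_iff_mem I).2 hx)

lemma idealDepth_eq_top_iff {M : Type u} [AddCommGroup M] [Module R M] [Module.Finite R M] :
    LocCoh.idealDepth I M = ⊤ ↔ I • (⊤ : Submodule R M) = ⊤ :=
  ⟨fun h => by_contra fun h' => idealDepth_ne_top h' h, idealDepth_eq_top_of_smul_top_eq_top⟩

omit [IsNoetherianRing R] in
lemma eq_coe_iff_of_le_iff {d : ℕ∞} {P : ℕ → Prop}
    (h : ∀ n : ℕ, (n : ℕ∞) ≤ d ↔ ∀ i < n, P i) (n : ℕ) :
    d = n ↔ (∀ i < n, P i) ∧ ¬ P n := by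
  constructor
  · rintro rfl
    refine ⟨(h n).1 le_rfl, fun hn => ?_⟩
    have : ((n + 1 : ℕ) : ℕ∞) ≤ n := (h (n + 1)).2 fun i hi => by
      rcases (Nat.lt_succ_iff.1 hi).lt_or_eq with h' | rfl
      exacts [(h n).1 le_rfl i h', hn]
    norm_cast at this
    omega
  · rintro ⟨h1, h2⟩
    refine le_antisymm ?_ ((h n).2 h1)
    by_contra hlt
    push Not at hlt
    have : ((n + 1 : ℕ) : ℕ∞) ≤ d := by
      rw [Nat.cast_succ]
      exact Order.add_one_le_of_lt hlt
    exact h2 ((h (n + 1)).1 this n (by omega))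

/-- The depth as the least degree with nonzero `Ext`. -/
lemma idealDepth_eq_iff (I : Ideal R) (M : Type u) [AddCommGroup M] [Module R M]
    [Module.Finite R M] (n : ℕ) :
    LocCoh.idealDepth I M = n ↔
      ((∀ i < n, Subsingleton (Abelian.Ext (ModuleCat.of R (R ⧸ I)) (ModuleCat.of R M) i)) ∧
        Nontrivial (Abelian.Ext (ModuleCat.of R (R ⧸ I)) (ModuleCat.of R M) n)) := by
  rw [eq_coe_iff_of_le_iff (le_idealDepth_iff I M) n, not_subsingleton_iff_nontrivial]

lemma idealDepth_mono {J : Ideal R} (hIJ : I ≤ J.radical) (M : Type u) [AddCommGroup M]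
    [Module R M] [Module.Finite R M] : LocCoh.idealDepth I M ≤ LocCoh.idealDepth J M := by
  refine le_iff_forall_nat_le.2 fun n hn => (le_idealDepth_iff J M n).2 fun i hi => ?_
  refine ext_subsingleton_of_le_idealDepth (I := I) (ModuleCat.of R M) _ ?_ hn hi
  exact (Ideal.annihilator_quotient (I := J)).symm ▸ hIJ

lemma idealDepth_eq_of_radical_eq {J : Ideal R} (h : I.radical = J.radical) (M : Type u)
    [AddCommGroup M] [Module R M] [Module.Finite R M] :
    LocCoh.idealDepth I M = LocCoh.idealDepth J M :=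
  le_antisymm (idealDepth_mono (Ideal.le_radical.trans h.le) M)
    (idealDepth_mono (Ideal.le_radical.trans h.ge) M)


/-- The depth lemma. -/
lemma idealDepth_shortExact (I : Ideal R) {N' N N'' : Type u} [AddCommGroup N'] [Module R N']
    [Module.Finite R N'] [AddCommGroup N] [Module R N] [Module.Finite R N] [AddCommGroup N'']
    [Module R N''] [Module.Finite R N''] (f : N' →ₗ[R] N) (g : N →ₗ[R] N'')
    (hf : Function.Injective f) (hg : Function.Surjective g) (hfg : Function.Exact f g) :
    min (LocCoh.idealDepth I N') (LocCoh.idealDepth I N'') ≤ LocCoh.idealDepth I N ∧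
    min (LocCoh.idealDepth I N) (LocCoh.idealDepth I N' - 1) ≤ LocCoh.idealDepth I N'' ∧
    min (LocCoh.idealDepth I N) (LocCoh.idealDepth I N'' + 1) ≤ LocCoh.idealDepth I N' := by
  let S : ShortComplex (ModuleCat.{u} R) :=
    ShortComplex.mk (ModuleCat.ofHom f) (ModuleCat.ofHom g) (by ext x; exact hfg.apply_apply_eq_zero x)
  have hS : S.ShortExact :=
    { exact := (ShortComplex.ShortExact.moduleCat_exact_iff_function_exact _).2 hfg
      mono_f := (ModuleCat.mono_iff_injective _).2 hf
      epi_g := (ModuleCat.epi_iff_surjective _).2 hg }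
  refine ⟨le_iff_forall_nat_le.2 fun n hn => ?_, le_iff_forall_nat_le.2 fun n hn => ?_,
    le_iff_forall_nat_le.2 fun n hn => ?_⟩
  · rw [le_min_iff, le_idealDepth_iff, le_idealDepth_iff] at hn
    exact (le_idealDepth_iff I N n).2 fun i hi =>
      ext_subsingleton_X₂ hS _ i (hn.1 i hi) (hn.2 i hi)
  · rw [le_min_iff, le_idealDepth_iff] at hn
    refine (le_idealDepth_iff I N'' n).2 fun i hi =>
      ext_subsingleton_X₃ hS _ i (hn.1 i hi) ?_
    have h' : ((i + 1 + 1 : ℕ) : ℕ∞) ≤ LocCoh.idealDepth I N' := by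
      have h1 : ((i + 1 : ℕ) : ℕ∞) ≤ LocCoh.idealDepth I N' - 1 :=
        le_trans (by exact_mod_cast hi) hn.2
      revert h1
      cases LocCoh.idealDepth I N' with
      | top => simp
      | coe a => intro h1; norm_cast at h1 ⊢; omega
    exact (le_idealDepth_iff I N' _).1 h' (i + 1) (by omega)
  · rw [le_min_iff, le_idealDepth_iff] at hn
    refine (le_idealDepth_iff I N' n).2 fun i hi => ?_
    rcases i with _ | i
    · exact ext_subsingleton_X₁_zero hS _ (hn.1 0 hi)
    · refine ext_subsingleton_X₁ hS _ i ?_ (hn.1 (i + 1) hi)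
      have h' : ((i + 1 : ℕ) : ℕ∞) ≤ LocCoh.idealDepth I N'' := by
        have h1 : ((i + 2 : ℕ) : ℕ∞) ≤ LocCoh.idealDepth I N'' + 1 :=
          le_trans (by exact_mod_cast hi) hn.2
        revert h1
        cases LocCoh.idealDepth I N'' with
        | top => simp
        | coe a => intro h1; norm_cast at h1 ⊢; omega
      exact (le_idealDepth_iff I N'' _).1 h' i (by omega)

/-- Depth drops by one modulo a regular element. -/
lemma idealDepth_quotSMulTop_add_one (I : Ideal R) (M : Type u) [AddCommGroup M] [Module R M]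
    [Module.Finite R M] (hIM : I • (⊤ : Submodule R M) ≠ ⊤) {x : R} (hx : x ∈ I)
    (hreg : IsSMulRegular M x) :
    LocCoh.idealDepth I (QuotSMulTop x M) + 1 = LocCoh.idealDepth I M := by
  have hle : LocCoh.idealDepth I (QuotSMulTop x M) + 1 ≤ LocCoh.idealDepth I M := by
    refine le_iff_forall_nat_le.2 fun n hn => ?_
    rcases n with _ | m
    · exact zero_le
    have hm : (m : ℕ∞) ≤ LocCoh.idealDepth I (QuotSMulTop x M) := by
      revert hn
      cases LocCoh.idealDepth I (QuotSMulTop x M) with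
      | top => simp
      | coe a => intro h1; norm_cast at h1 ⊢; omega
    have hq := smul_top_quotSMulTop_ne_top hx hIM
    obtain ⟨rs, hlen, hrs, hmem⟩ := (le_idealDepth_iff_exists I hq m).1 hm
    refine (le_idealDepth_iff_exists I hIM (m + 1)).2 ⟨x :: rs, by simp [hlen], ?_, ?_⟩
    · exact IsWeaklyRegular.cons hreg hrs
    · simpa [hx] using hmem
  refine le_antisymm hle ?_
  let f : M →ₗ[R] M := LinearMap.lsmul R M x
  have hfg : Function.Exact f (Submodule.mkQ (x • (⊤ : Submodule R M))) := by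
    intro y
    simp only [Submodule.mkQ_apply, Submodule.Quotient.mk_eq_zero, Submodule.mem_smul_pointwise_iff_exists,
      Submodule.mem_top, true_and, Set.mem_range]
    rfl
  have h := (idealDepth_shortExact I f (Submodule.mkQ (x • (⊤ : Submodule R M)))
    hreg (Submodule.mkQ_surjective _) hfg).2.1
  obtain ⟨a, ha⟩ := ENat.ne_top_iff_exists.1 (idealDepth_ne_top hIM)
  rw [← ha] at h ⊢
  revert h
  change min (a : ℕ∞) ((a : ℕ∞) - 1) ≤ LocCoh.idealDepth I (QuotSMulTop x M) → _
  cases LocCoh.idealDepth I (QuotSMulTop x M) with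
  | top => simp
  | coe b =>
    intro h
    rw [← ENat.natCast_one, ← ENat.natCast_sub, min_eq_right (by norm_cast; omega)] at h
    rw [← ENat.natCast_one]
    norm_cast at h ⊢
    omega

end Groth.LocCohBase
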