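import Groth.Agent.LocCohBase.Basic
import Groth.Agent.LocCohBase.Depth
import Groth.Prelude.Def_Wider
import Groth.Prelude.Def_DRing3
import Mathlib.RingTheory.Filtration
import Mathlib.Algebra.Category.ModuleCat.EnoughInjectives
import Mathlib.Algebra.Module.Injective

/-!
`H^0_I(M)` is the torsion submodule; torsion of an injective is injective (Noetherian);
`H^{>0}_I` vanishes on torsion modules; depth via local cohomology.
-/

set_option autoImplicit false

universe u

open CategoryTheory Limits

namespace Groth.LocCohBase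

variable {R : Type u} [CommRing R]

lemma exists_h0Map (I : Ideal R) (M : ModuleCat.{u} R) :
    ∃ Φ : HH' I 0 M →ₗ[R] M, ∀ (n : ℕ) (f : quotPow I n ⟶ M),
      Φ (ι I 0 M n (Abelian.Ext.mk₀ f)) = f (Ideal.Quotient.mk (I ^ n) 1) := by
  let ev : ∀ n, (quotPow I n ⟶ M) →ₗ[R] M := fun n =>
    { toFun := fun f => f (Ideal.Quotient.mk (I ^ n) 1)
      map_add' := fun f g => rfl
      map_smul' := fun r f => rfl }
  obtain ⟨Φ, hΦ⟩ := exists_desc 0 M
    (fun n => ev n ∘ₗ (Abelian.Ext.linearEquiv₀ (R := R)).toLinearMap) (fun {n m} h α => by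
      obtain ⟨f, rfl⟩ := (Abelian.Ext.mk₀_bijective _ _).2 α
      rw [Abelian.Ext.mk₀_comp_mk₀]
      simp only [LinearMap.comp_apply, LinearEquiv.coe_coe]
      rw [← Abelian.Ext.linearEquiv₀_symm_apply (R := R), LinearEquiv.apply_symm_apply,
        ← Abelian.Ext.linearEquiv₀_symm_apply (R := R), LinearEquiv.apply_symm_apply]
      rfl)
  refine ⟨Φ, fun n f => ?_⟩
  rw [hΦ]
  simp only [LinearMap.comp_apply, LinearEquiv.coe_coe]
  rw [← Abelian.Ext.linearEquiv₀_symm_apply (R := R), LinearEquiv.apply_symm_apply]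
  rfl

/-- The natural map `H^0_I(M) → M`. -/
noncomputable def h0Map (I : Ideal R) (M : ModuleCat.{u} R) : HH' I 0 M →ₗ[R] M :=
  (exists_h0Map I M).choose

lemma h0Map_ι (I : Ideal R) (M : ModuleCat.{u} R) (n : ℕ) (f : quotPow I n ⟶ M) :
    h0Map I M (ι I 0 M n (Abelian.Ext.mk₀ f)) = f (Ideal.Quotient.mk (I ^ n) 1) :=
  (exists_h0Map I M).choose_spec n f

lemma h0Map_natural (I : Ideal R) {M N : ModuleCat.{u} R} (g : M ⟶ N) (x : HH' I 0 M) :
    h0Map I N ((localCohomology I 0).map g x) = g (h0Map I M x) := by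
  obtain ⟨n, α, rfl⟩ := exists_rep 0 M x
  obtain ⟨f, rfl⟩ := (Abelian.Ext.mk₀_bijective _ _).2 α
  rw [ι_naturality, Abelian.Ext.mk₀_comp_mk₀, h0Map_ι, h0Map_ι]
  rfl

lemma h0Map_injective (I : Ideal R) (M : ModuleCat.{u} R) : Function.Injective (h0Map I M) := by
  rw [injective_iff_map_eq_zero]
  intro x hx
  obtain ⟨n, α, rfl⟩ := exists_rep 0 M x
  obtain ⟨f, rfl⟩ := (Abelian.Ext.mk₀_bijective _ _).2 α
  rw [h0Map_ι] at hx
  have : f = 0 := by
    ext1
    refine LinearMap.ext fun y => ?_
    obtain ⟨r, rfl⟩ := Ideal.Quotient.mk_surjective y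
    have hr : Ideal.Quotient.mk (I ^ n) r = r • Ideal.Quotient.mk (I ^ n) 1 := by
      rw [Algebra.smul_def, map_one, mul_one]; rfl
    change f (Ideal.Quotient.mk (I ^ n) r) = 0
    rw [hr]
    exact (map_smul f.hom r _).trans (by rw [show f.hom _ = 0 from hx, smul_zero])
  rw [this, Abelian.Ext.mk₀_zero, map_zero]

lemma range_h0Map (I : Ideal R) (M : ModuleCat.{u} R) :
    LinearMap.range (h0Map I M) = DRing.torsionSub I M := by
  ext m
  constructor
  · rintro ⟨x, rfl⟩
    obtain ⟨n, hn⟩ := exists_pow_smul_eq_zero 0 M x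
    exact ⟨n, fun a ha => by rw [← map_smul, hn a ha, map_zero]⟩
  · rintro ⟨n, hn⟩
    refine ⟨ι I 0 M n (Abelian.Ext.mk₀ (ModuleCat.ofHom (Submodule.liftQ (I ^ n)
      (LinearMap.toSpanSingleton R M m) (fun a ha => hn a ha)))), ?_⟩
    rw [h0Map_ι]
    exact one_smul R m

/-- `H^0_I(M) ≅ Γ_I(M)`. -/
noncomputable def h0Equiv (I : Ideal R) (M : Type u) [AddCommGroup M] [Module R M] :
    LocCoh.H I 0 M ≃ₗ[R] DRing.torsionSub I M :=
  (LinearEquiv.ofInjective _ (h0Map_injective I (ModuleCat.of R M))).trans
    (LinearEquiv.ofEq _ _ (range_h0Map I (ModuleCat.of R M)))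

lemma torsionSub_eq_top {I : Ideal R} {M : Type u} [AddCommGroup M] [Module R M]
    (h : LocCoh.IsPowerTorsion I M) : DRing.torsionSub I M = ⊤ :=
  top_unique fun m _ => h m

lemma subsingleton_H_zero_iff (I : Ideal R) (M : Type u) [AddCommGroup M] [Module R M] :
    Subsingleton (LocCoh.H I 0 M) ↔ DRing.torsionSub I M = ⊥ := by
  rw [(h0Equiv I M).toEquiv.subsingleton_congr, ← Submodule.subsingleton_iff_eq_bot]

lemma torsionSub_quotient_eq_bot {I : Ideal R} (hI : I.FG) (M : Type u) [AddCommGroup M]
    [Module R M] : DRing.torsionSub I (M ⧸ DRing.torsionSub I M) = ⊥ := by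
  refine le_bot_iff.1 fun x hx => ?_
  obtain ⟨m, rfl⟩ := Submodule.Quotient.mk_surjective _ x
  obtain ⟨n, hn⟩ := hx
  rw [Submodule.mem_bot, Submodule.Quotient.mk_eq_zero]
  have hn' : ∀ a ∈ I ^ n, a • m ∈ DRing.torsionSub I M := fun a ha => by
    rw [← Submodule.Quotient.mk_eq_zero (p := DRing.torsionSub I M), Submodule.Quotient.mk_smul]
    exact hn a ha
  obtain ⟨s, hs⟩ := hI.pow (n := n)
  have : ∀ t : Finset R, (∀ a ∈ t, a • m ∈ DRing.torsionSub I M) →
      ∃ k, ∀ b ∈ I ^ k, ∀ a ∈ t, b • a • m = 0 := by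
    classical
    intro t
    induction t using Finset.induction with
    | empty => exact fun _ => ⟨0, by simp⟩
    | @insert a t _ ih =>
      intro ht
      simp only [Finset.mem_insert, forall_eq_or_imp] at ht
      obtain ⟨k, hk⟩ := ih ht.2
      obtain ⟨l, hl⟩ := ht.1
      refine ⟨k + l, fun b hb a' ha' => ?_⟩
      rcases Finset.mem_insert.1 ha' with rfl | h'
      · exact hl b (Ideal.pow_le_pow_right (Nat.le_add_left l k) hb)
      · exact hk b (Ideal.pow_le_pow_right (Nat.le_add_right k l) hb) a' h'
  obtain ⟨k, hk⟩ := this s fun a ha => hn' a (hs ▸ Ideal.subset_span ha)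
  refine ⟨k + n, fun c hc => ?_⟩
  rw [pow_add] at hc
  refine Submodule.mul_induction_on hc (fun b hb a ha => ?_)
    (fun x y hx hy => by rw [add_smul, hx, hy, add_zero])
  rw [mul_smul]
  rw [← hs] at ha
  induction ha using Submodule.span_induction with
  | mem a ha => exact hk b hb a ha
  | zero => simp
  | add x y _ _ hx hy => rw [add_smul, smul_add, hx, hy, add_zero]
  | smul r x _ hx => rw [smul_eq_mul, mul_smul, smul_comm b r, hx, smul_zero]

section Noetherian

variable [IsNoetherianRing R]

/-- Over a Noetherian ring, the torsion part of an injective module is injective. -/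
lemma injective_torsionSub (I : Ideal R) (E : Type u) [AddCommGroup E] [Module R E]
    [hE : Module.Injective R E] : Module.Injective R (DRing.torsionSub I E) := by
  apply Module.Baer.injective
  intro a f
  obtain ⟨n, hn⟩ : ∃ n, ∀ x : a, ∀ b ∈ I ^ n, b • f x = 0 := by
    obtain ⟨s, hs⟩ := (IsNoetherian.noetherian (⊤ : Submodule R a) : _)
    have : ∀ t : Finset a, ∃ n, ∀ x ∈ Submodule.span R (t : Set a), ∀ b ∈ I ^ n, b • f x = 0 := by
      classical
      intro t
      induction t using Finset.induction with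
      | empty => exact ⟨0, by simp⟩
      | @insert x t _ ih =>
        obtain ⟨k, hk⟩ := ih
        obtain ⟨l, hl⟩ := (f x).2
        refine ⟨k + l, fun y hy b hb => ?_⟩
        rw [Finset.coe_insert, Submodule.mem_span_insert] at hy
        obtain ⟨r, z, hz, rfl⟩ := hy
        rw [map_add, map_smul, smul_add, smul_comm,
          hk z hz b (Ideal.pow_le_pow_right (Nat.le_add_right k l) hb)]
        have : b • f x = 0 := Subtype.ext (hl b (Ideal.pow_le_pow_right (Nat.le_add_left l k) hb))
        rw [this, smul_zero, add_zero]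
    obtain ⟨n, hn⟩ := this s
    exact ⟨n, fun x => hn x (hs ▸ Submodule.mem_top)⟩
  obtain ⟨k, hk⟩ := I.exists_pow_inf_eq_pow_smul (a : Submodule R R)
  -- `f` vanishes on `a ∩ I^(n+k)`, hence extends over `R/I^(n+k)`
  set m := n + k with hm
  have hker : ∀ x : a, (x : R) ∈ I ^ m → f x = 0 := by
    intro x hx
    have h' : (x : R) ∈ (I ^ n • (a : Submodule R R)) := by
      have h1 : (x : R) ∈ I ^ (m - k) • (I ^ k • ⊤ ⊓ (a : Submodule R R)) := by
        rw [← hk m (by omega)]
        exact ⟨by simpa using hx, x.2⟩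
      have : m - k = n := by omega
      rw [this] at h1
      exact Submodule.smul_mono le_rfl inf_le_right h1
    have h'' : x ∈ (I ^ n • (⊤ : Submodule R a)) := by
      have : (x : R) ∈ (I ^ n • (⊤ : Submodule R a)).map (Submodule.subtype a) := by
        rw [Submodule.map_smul'', Submodule.map_top, Submodule.range_subtype]
        exact h'
      obtain ⟨y, hy, hy'⟩ := this
      rwa [← Subtype.ext hy']
    refine Submodule.smul_induction_on h'' (fun b hb y _ => ?_)
      (fun y z hy hz => by rw [map_add, hy, hz, add_zero])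
    rw [map_smul, hn y b hb]
  let π : R →ₗ[R] R ⧸ I ^ m := Submodule.mkQ (I ^ m)
  let q : a →ₗ[R] R ⧸ I ^ m := π ∘ₗ Submodule.subtype a
  have hle : LinearMap.ker q ≤ LinearMap.ker f := fun x hx =>
    hker x ((Submodule.Quotient.mk_eq_zero _).1 hx)
  let g : LinearMap.range q →ₗ[R] E := (DRing.torsionSub I E).subtype ∘ₗ
    (Submodule.liftQ (LinearMap.ker q) f hle) ∘ₗ q.quotKerEquivRange.symm.toLinearMap
  obtain ⟨h, hh⟩ := hE.out (LinearMap.range q).subtype Subtype.val_injective g
  refine ⟨LinearMap.codRestrict (DRing.torsionSub I E) (h ∘ₗ π) (fun r => ⟨m, fun b hb => ?_⟩),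
    fun r hr => ?_⟩
  · have hz : π (b • r) = 0 :=
      (Submodule.Quotient.mk_eq_zero _).2 (Ideal.mul_mem_right _ _ hb)
    rw [LinearMap.comp_apply, ← map_smul, ← map_smul, hz, map_zero]
  · apply Subtype.ext
    have := hh ⟨q ⟨r, hr⟩, LinearMap.mem_range_self _ _⟩
    refine Eq.trans this ?_
    simp only [g, LinearMap.comp_apply, LinearEquiv.coe_coe, Submodule.subtype_apply]
    have h2 : q.quotKerEquivRange.symm ⟨q ⟨r, hr⟩, LinearMap.mem_range_self _ _⟩ =
        Submodule.Quotient.mk ⟨r, hr⟩ := by
      rw [LinearEquiv.symm_apply_eq]; rfl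
    rw [h2, Submodule.liftQ_apply]

/-- A short exact sequence from a submodule. -/
noncomputable abbrev subSeq {M : Type u} [AddCommGroup M] [Module R M] (N : Submodule R M) :
    ShortComplex (ModuleCat.{u} R) :=
  ShortComplex.mk (ModuleCat.ofHom N.subtype) (ModuleCat.ofHom N.mkQ) (by ext x; simp)

omit [IsNoetherianRing R] in
lemma subSeq_shortExact {M : Type u} [AddCommGroup M] [Module R M] (N : Submodule R M) :
    (subSeq N).ShortExact where
  exact := (ShortComplex.ShortExact.moduleCat_exact_iff_function_exact _).2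
    (LinearMap.exact_subtype_mkQ N)
  mono_f := (ModuleCat.mono_iff_injective _).2 Subtype.val_injective
  epi_g := (ModuleCat.epi_iff_surjective _).2 (Submodule.mkQ_surjective _)

omit [IsNoetherianRing R] in
lemma isPowerTorsion_quotient {I : Ideal R} {M : Type u} [AddCommGroup M] [Module R M]
    (h : LocCoh.IsPowerTorsion I M) (N : Submodule R M) : LocCoh.IsPowerTorsion I (M ⧸ N) := by
  intro x
  obtain ⟨m, rfl⟩ := Submodule.Quotient.mk_surjective _ x
  obtain ⟨n, hn⟩ := h m
  exact ⟨n, fun a ha => by rw [← Submodule.Quotient.mk_smul, hn a ha, Submodule.Quotient.mk_zero]⟩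

/-- A torsion module embeds in an injective torsion module. -/
lemma exists_injective_torsion_embedding {I : Ideal R} (M : Type u) [AddCommGroup M] [Module R M]
    (h : LocCoh.IsPowerTorsion I M) :
    ∃ (E : ModuleCat.{u} R) (f : M →ₗ[R] E), Function.Injective f ∧
      LocCoh.IsPowerTorsion I E ∧ Injective E := by
  let J : ModuleCat.{u} R := Injective.under (ModuleCat.of R M)
  have : Module.Injective R J := Module.injective_module_of_injective_object (inj := inferInstanceAs (Injective J)) R J
  have : Module.Injective R (DRing.torsionSub I J) := injective_torsionSub I J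
  refine ⟨ModuleCat.of R (DRing.torsionSub I J),
    LinearMap.codRestrict _ (Injective.ι (ModuleCat.of R M)).hom (fun m => ?_), ?_, fun x => ?_,
    Module.injective_object_of_injective_module R _⟩
  · exact DRing.map_mem_torsionSub I _ (h m)
  · intro x y hxy
    exact (ModuleCat.mono_iff_injective _).1 inferInstance (congrArg Subtype.val hxy)
  · obtain ⟨n, hn⟩ := x.2
    exact ⟨n, fun a ha => Subtype.ext (hn a ha)⟩

/-- Torsion modules have no higher local cohomology. -/
lemma subsingleton_succ_of_isPowerTorsion (I : Ideal R) (i : ℕ) :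
    ∀ (M : Type u) [AddCommGroup M] [Module R M], LocCoh.IsPowerTorsion I M →
      Subsingleton (LocCoh.H I (i + 1) M) := by
  induction i with
  | zero =>
    intro M _ _ h
    obtain ⟨E, f, hf, hE, hinj⟩ := exists_injective_torsion_embedding (I := I) M h
    have hS := subSeq_shortExact (LinearMap.range f)
    have e : M ≃ₗ[R] LinearMap.range f := LinearEquiv.ofInjective f hf
    suffices Subsingleton (HH' I 1 (ModuleCat.of R (LinearMap.range f))) from
      (((localCohomology I 1).mapIso e.toModuleIso).toLinearEquiv).toEquiv.subsingleton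
    refine subsingleton_of_forall_eq 0 fun x => ?_
    have h2 : Subsingleton (HH' I 1 (subSeq (LinearMap.range f)).X₂) :=
      subsingleton_succ_of_injective 0 E
    obtain ⟨y, rfl⟩ := (exact₁ hS 0 x).1 (Subsingleton.elim _ _)
    obtain ⟨z, hz⟩ := Submodule.mkQ_surjective _ (h0Map I _ y)
    obtain ⟨w, hw⟩ : z ∈ LinearMap.range (h0Map I E) := by
      rw [range_h0Map, torsionSub_eq_top hE]; trivial
    have : y = (localCohomology I 0).map (subSeq (LinearMap.range f)).g w := by
      apply h0Map_injective
      refine Eq.trans ?_ (h0Map_natural I _ w).symm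
      rw [hw]
      exact hz.symm
    rw [this]
    exact (exact₃ hS 0 _).2 ⟨w, rfl⟩
  | succ i ih =>
    intro M _ _ h
    obtain ⟨E, f, hf, hE, hinj⟩ := exists_injective_torsion_embedding (I := I) M h
    have hS := subSeq_shortExact (LinearMap.range f)
    have e : M ≃ₗ[R] LinearMap.range f := LinearEquiv.ofInjective f hf
    suffices Subsingleton (HH' I (i + 2) (ModuleCat.of R (LinearMap.range f))) from
      (((localCohomology I (i + 2)).mapIso e.toModuleIso).toLinearEquiv).toEquiv.subsingleton
    exact subsingleton_X₁ hS (i + 1) (ih _ (isPowerTorsion_quotient hE _))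
      (subsingleton_succ_of_injective (i + 1) E)

omit [IsNoetherianRing R] in
lemma isPowerTorsion_torsionSub (I : Ideal R) (M : Type u) [AddCommGroup M] [Module R M] :
    LocCoh.IsPowerTorsion I (DRing.torsionSub I M) := fun x => by
  obtain ⟨n, hn⟩ := x.2
  exact ⟨n, fun a ha => Subtype.ext (hn a ha)⟩

/-- In positive degrees one can divide out the torsion. -/
lemma map_mkQ_torsion_bijective (I : Ideal R) (i : ℕ) (M : Type u) [AddCommGroup M] [Module R M] :
    Function.Bijective ((localCohomology I (i + 1)).map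
      (ModuleCat.ofHom (DRing.torsionSub I M).mkQ)) := by
  have hS := subSeq_shortExact (DRing.torsionSub I M)
  have h : ∀ j, Subsingleton (HH' I (j + 1) (subSeq (DRing.torsionSub I M)).X₁) := fun j =>
    subsingleton_succ_of_isPowerTorsion I j _ (isPowerTorsion_torsionSub I M)
  constructor
  · change Function.Injective ((localCohomology I (i + 1)).map (subSeq (DRing.torsionSub I M)).g)
    rw [injective_iff_map_eq_zero]
    intro x hx
    obtain ⟨y, rfl⟩ := (exact₂ hS (i + 1) x).1 hx
    rw [Subsingleton.elim y 0, map_zero]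
  · intro x
    exact (exact₃ hS (i + 1) x).1 (Subsingleton.elim _ _)

/-- `H^i_I(M) = 0` for `i < n` if and only if `n ≤ depth_I M`. -/
lemma le_idealDepth_iff_localCohomology (I : Ideal R) (n : ℕ) :
    ∀ (M : Type u) [AddCommGroup M] [Module R M] [Module.Finite R M],
      ((n : ℕ∞) ≤ LocCoh.idealDepth I M ↔ ∀ i < n, Subsingleton (LocCoh.H I i M)) := by
  induction n with
  | zero => intro M _ _ _; simp
  | succ n ih =>
    intro M _ _ _
    constructor
    · intro h i hi
      refine subsingleton_of_forall_eq 0 fun x => ?_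
      obtain ⟨k, α, rfl⟩ := exists_rep (I := I) i (ModuleCat.of R M) x
      have : Subsingleton (Abelian.Ext (quotPow I k) (ModuleCat.of R M) i) := by
        refine ext_subsingleton_of_le_idealDepth (I := I) (ModuleCat.of R M) _ ?_ h hi
        intro a ha
        refine ⟨k, ?_⟩
        change a ^ k ∈ Module.annihilator R (R ⧸ I ^ k)
        rw [Ideal.annihilator_quotient]
        exact Ideal.pow_mem_pow ha k
      rw [Subsingleton.elim α 0, map_zero]
    · intro h
      by_cases hIM : I • (⊤ : Submodule R M) = ⊤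
      · rw [idealDepth_eq_top_of_smul_top_eq_top hIM]; exact le_top
      have h0 : DRing.torsionSub I M = ⊥ :=
        (subsingleton_H_zero_iff I M).1 (h 0 (Nat.succ_pos n))
      have h1 : ((1 : ℕ) : ℕ∞) ≤ LocCoh.idealDepth I M := by
        rw [le_idealDepth_iff]
        intro i hi
        obtain rfl : i = 0 := by omega
        have : Subsingleton (ModuleCat.of R (R ⧸ I) ⟶ ModuleCat.of R M) := by
          refine subsingleton_of_forall_eq 0 fun f => ?_
          ext1
          refine LinearMap.ext fun y => ?_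
          have hy : f.hom y ∈ DRing.torsionSub I M := ⟨1, fun a ha => by
            rw [← map_smul]
            obtain ⟨r, rfl⟩ := Submodule.Quotient.mk_surjective _ y
            rw [← Submodule.Quotient.mk_smul, smul_eq_mul, (Submodule.Quotient.mk_eq_zero I).2
              (Ideal.mul_mem_right _ _ (pow_one I ▸ ha)), map_zero]⟩
          rw [h0] at hy
          exact hy
        exact (Abelian.Ext.addEquiv₀ (C := ModuleCat.{u} R)).toEquiv.subsingleton
      obtain ⟨rs, hlen, hrs, hmem⟩ := (le_idealDepth_iff_exists I hIM 1).1 h1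
      obtain ⟨x, rfl⟩ := List.length_eq_one_iff.1 hlen
      have hx : x ∈ I := hmem x (by simp)
      have hreg : IsSMulRegular M x :=
        (RingTheory.Sequence.isWeaklyRegular_singleton_iff _ _).1 hrs
      rw [← idealDepth_quotSMulTop_add_one I M hIM hx hreg, Nat.cast_succ]
      gcongr
      refine (ih (QuotSMulTop x M)).2 fun i hi => ?_
      exact subsingleton_X₃ (S := ModuleCat.smulShortComplex (ModuleCat.of R M) x)
        (IsSMulRegular.smulShortComplex_shortExact (M := ModuleCat.of R M) hreg) i
        (h i (by omega)) (h (i + 1) (by omega))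

end Noetherian

end Groth.LocCohBase
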