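import Groth.Agent.LocCohBase.Torsion
import Groth.Agent.Matlis.Hull
import Mathlib.Algebra.Category.ModuleCat.Ext.DimensionShifting

/-!
Cohomological dimension of an ideal in a Noetherian ring: vanishing from an element acting
bijectively, `cdLE_sup`, `cdLE_span`, reduction to finite modules and to the ring.
-/

set_option autoImplicit false

universe u

open CategoryTheory Limits

namespace Groth.LocCohBase

variable {R : Type u} [CommRing R]

lemma isIso_smul_id {M : ModuleCat.{u} R} {r : R} (h : Function.Bijective (fun x : M => r • x)) :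
    IsIso (r • 𝟙 M) :=
  (ConcreteCategory.isIso_iff_bijective _).2 h

lemma ext_subsingleton_of_smul_bijective (X : ModuleCat.{u} R) {M : ModuleCat.{u} R} {r : R}
    (hX : ∀ x : X, r • x = 0) (h : Function.Bijective (fun x : M => r • x)) (i : ℕ) :
    Subsingleton (Abelian.Ext X M i) := by
  have := isIso_smul_id h
  have hX' : r • 𝟙 X = 0 := by ext1; exact LinearMap.ext hX
  refine subsingleton_of_forall_eq 0 fun α => ?_
  have h1 : r • α = 0 := by
    have : r • α = (Abelian.Ext.mk₀ (r • 𝟙 X)).comp α (zero_add i) := by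
      simp [Abelian.Ext.mk₀_smul]
    rw [this, hX', Abelian.Ext.mk₀_zero, Abelian.Ext.zero_comp]
  calc α = (α.comp (Abelian.Ext.mk₀ (r • 𝟙 M)) (add_zero i)).comp
        (Abelian.Ext.mk₀ (inv (r • 𝟙 M))) (add_zero i) := by
          rw [Abelian.Ext.comp_assoc_of_second_deg_zero, Abelian.Ext.mk₀_comp_mk₀, IsIso.hom_inv_id,
            Abelian.Ext.comp_mk₀_id]
    _ = 0 := by rw [← Abelian.Ext.smul_eq_comp_mk₀, h1, Abelian.Ext.zero_comp]

lemma pow_smul_bijective {M : Type u} [AddCommGroup M] [Module R M] {r : R}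
    (h : Function.Bijective (fun x : M => r • x)) (n : ℕ) :
    Function.Bijective (fun x : M => r ^ n • x) := by
  induction n with
  | zero => simp only [pow_zero, one_smul]; exact Function.bijective_id
  | succ n ih =>
    convert ih.comp h using 1
    funext x
    simp [pow_succ, mul_smul]

/-- Local cohomology vanishes on modules on which an element of `I` is invertible. -/
lemma subsingleton_H_of_smul_bijective (I : Ideal R) (M : Type u) [AddCommGroup M] [Module R M]
    {r : R} (hr : r ∈ I) (h : Function.Bijective (fun x : M => r • x)) (i : ℕ) :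
    Subsingleton (LocCoh.H I i M) := by
  refine subsingleton_of_forall_eq 0 fun x => ?_
  obtain ⟨n, α, rfl⟩ := exists_rep (I := I) i (ModuleCat.of R M) x
  have : Subsingleton (Abelian.Ext (quotPow I n) (ModuleCat.of R M) i) := by
    refine ext_subsingleton_of_smul_bijective _ (r := r ^ n) (fun y => ?_)
      (pow_smul_bijective h n) i
    obtain ⟨s, rfl⟩ := Submodule.Quotient.mk_surjective _ y
    rw [← Submodule.Quotient.mk_smul, smul_eq_mul, Submodule.Quotient.mk_eq_zero]
    exact Ideal.mul_mem_right _ _ (Ideal.pow_mem_pow hr n)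
  rw [Subsingleton.elim α 0, map_zero]

lemma subsingleton_H_congr (I : Ideal R) (i : ℕ) {M N : Type u} [AddCommGroup M] [Module R M]
    [AddCommGroup N] [Module R N] (e : M ≃ₗ[R] N) :
    Subsingleton (LocCoh.H I i M) ↔ Subsingleton (LocCoh.H I i N) :=
  (((localCohomology I i).mapIso e.toModuleIso).toLinearEquiv).toEquiv.subsingleton_congr

lemma torsionSub_mono {I J : Ideal R} (h : I ≤ J) (M : Type u) [AddCommGroup M] [Module R M] :
    DRing.torsionSub J M ≤ DRing.torsionSub I M := by
  rintro m ⟨n, hn⟩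
  exact ⟨n, fun a ha => hn a (Ideal.pow_right_mono h n ha)⟩

lemma isPowerTorsion_sup {I J : Ideal R} {M : Type u} [AddCommGroup M] [Module R M]
    (hI : LocCoh.IsPowerTorsion I M) :
    DRing.torsionSub (I ⊔ J) M = DRing.torsionSub J M := by
  refine le_antisymm (torsionSub_mono le_sup_right M) ?_
  rintro m ⟨l, hl⟩
  obtain ⟨k, hk⟩ := hI m
  refine ⟨k + l, fun a ha => ?_⟩
  have h' := Ideal.sup_pow_add_le_pow_sup_pow (I := I) (J := J) (n := k) (m := l) ha
  obtain ⟨b, hb, c, hc, rfl⟩ := Submodule.mem_sup.1 h'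
  rw [add_smul, hk b hb, hl c hc, add_zero]

section Noetherian

variable [IsNoetherianRing R]

/-- A torsion-free module embeds in a torsion-free injective. -/
lemma exists_injective_torsionFree_embedding (I : Ideal R) (M : Type u) [AddCommGroup M]
    [Module R M] (h : DRing.torsionSub I M = ⊥) :
    ∃ (E : ModuleCat.{u} R) (f : M →ₗ[R] E), Function.Injective f ∧
      DRing.torsionSub I E = ⊥ ∧ Injective E := by
  obtain ⟨J, _, _, i, hi, hJ⟩ := GrothMatlis.exists_embedding R M
  have hT := injective_torsionSub I J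
  obtain ⟨C, hC⟩ := GrothMatlis.exists_isCompl_of_injective_submodule hT
  have hCinj := GrothMatlis.injective_of_isCompl hJ hC.symm
  refine ⟨ModuleCat.of R C, Submodule.projectionOnto C (DRing.torsionSub I J) hC.symm ∘ₗ i,
    ?_, ?_, Module.injective_object_of_injective_module R C⟩
  · rw [← LinearMap.ker_eq_bot, Submodule.eq_bot_iff]
    intro m hm
    rw [LinearMap.mem_ker, LinearMap.comp_apply, Submodule.projectionOnto_apply_eq_zero_iff] at hm
    obtain ⟨n, hn⟩ := hm
    have : m ∈ DRing.torsionSub I M :=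
      ⟨n, fun a ha => hi (by rw [map_smul, hn a ha, map_zero])⟩
    rwa [h, Submodule.mem_bot] at this
  · refine le_bot_iff.1 fun x hx => ?_
    have h1 : (x : J) ∈ DRing.torsionSub I J := DRing.map_mem_torsionSub I C.subtype hx
    have h2 : (x : J) ∈ DRing.torsionSub I J ⊓ C := ⟨h1, x.2⟩
    rw [hC.inf_eq_bot, Submodule.mem_bot] at h2
    exact Subtype.ext h2

/-- If `H^*_I(M) = 0` and `I ≤ I'` then `H^*_{I'}(M) = 0`. -/
lemma subsingleton_H_of_le {I I' : Ideal R} (h : I ≤ I') (i : ℕ) :
    ∀ (M : Type u) [AddCommGroup M] [Module R M], (∀ q, Subsingleton (LocCoh.H I q M)) →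
      Subsingleton (LocCoh.H I' i M) := by
  induction i with
  | zero =>
    intro M _ _ hM
    rw [subsingleton_H_zero_iff, ← le_bot_iff, ← (subsingleton_H_zero_iff I M).1 (hM 0)]
    exact torsionSub_mono h M
  | succ i ih =>
    intro M _ _ hM
    obtain ⟨E, f, hf, hE, hinj⟩ := exists_injective_torsionFree_embedding I M
      ((subsingleton_H_zero_iff I M).1 (hM 0))
    have hS := subSeq_shortExact (LinearMap.range f)
    have e : M ≃ₗ[R] LinearMap.range f := LinearEquiv.ofInjective f hf
    rw [subsingleton_H_congr I' (i + 1) e]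
    refine subsingleton_X₁ hS i (ih _ fun q => ?_) (subsingleton_succ_of_injective i E)
    refine subsingleton_X₃ hS q ?_ ((subsingleton_H_congr I (q + 1) e).1 (hM (q + 1)))
    rcases q with _ | q
    · exact (subsingleton_H_zero_iff I E).2 hE
    · exact subsingleton_succ_of_injective q E

/-- On `I`-torsion modules `H_{I+J}` and `H_J` vanish together. -/
lemma subsingleton_H_sup_iff_of_isPowerTorsion (I J : Ideal R) (i : ℕ) :
    ∀ (N : Type u) [AddCommGroup N] [Module R N], LocCoh.IsPowerTorsion I N →
      (Subsingleton (LocCoh.H (I ⊔ J) i N) ↔ Subsingleton (LocCoh.H J i N)) := by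
  have main : ∀ (K : Ideal R) (N : Type u) [AddCommGroup N] [Module R N] (E : ModuleCat.{u} R)
      (f : N →ₗ[R] E), Function.Injective f → Injective E →
      (Subsingleton (LocCoh.H K 1 N) ↔
        (DRing.torsionSub K (E ⧸ LinearMap.range f) ≤
          (DRing.torsionSub K E).map (LinearMap.range f).mkQ)) ∧
      (∀ q, Subsingleton (LocCoh.H K (q + 2) N) ↔
        Subsingleton (LocCoh.H K (q + 1) (E ⧸ LinearMap.range f))) := by
    intro K N _ _ E f hf hinj
    have hS := subSeq_shortExact (LinearMap.range f)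
    have e : N ≃ₗ[R] LinearMap.range f := LinearEquiv.ofInjective f hf
    refine ⟨?_, fun q => ?_⟩
    · rw [subsingleton_H_congr K 1 e]
      have h2 : Subsingleton (HH' K 1 (subSeq (LinearMap.range f)).X₂) :=
        subsingleton_succ_of_injective 0 E
      constructor
      · intro h1 z hz
        obtain ⟨y, hy⟩ : z ∈ LinearMap.range (h0Map K (subSeq (LinearMap.range f)).X₃) := by
          rw [range_h0Map]; exact hz
        obtain ⟨w, rfl⟩ := (exact₃ hS 0 y).1 (h1.elim _ _)
        rw [h0Map_natural] at hy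
        have hw : h0Map K (subSeq (LinearMap.range f)).X₂ w ∈
            DRing.torsionSub K (subSeq (LinearMap.range f)).X₂ := by
          rw [← range_h0Map]; exact LinearMap.mem_range_self _ _
        exact ⟨_, hw, hy⟩
      · intro hle
        refine subsingleton_of_forall_eq 0 fun x => ?_
        obtain ⟨y, rfl⟩ := (exact₁ hS 0 x).1 (h2.elim _ _)
        have hy : h0Map K (subSeq (LinearMap.range f)).X₃ y ∈
            DRing.torsionSub K (E ⧸ LinearMap.range f) := by
          have := LinearMap.mem_range_self (h0Map K (subSeq (LinearMap.range f)).X₃) y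
          rwa [range_h0Map] at this
        obtain ⟨z, hz, hz'⟩ := hle hy
        obtain ⟨w, hw⟩ : z ∈ LinearMap.range (h0Map K E) := by rw [range_h0Map]; exact hz
        have : y = (localCohomology K 0).map (subSeq (LinearMap.range f)).g w := by
          apply h0Map_injective
          refine Eq.trans ?_ (h0Map_natural K _ w).symm
          rw [hw]
          exact hz'.symm
        rw [this]
        exact (exact₃ hS 0 _).2 ⟨w, rfl⟩
    · rw [subsingleton_H_congr K (q + 2) e]
      exact ⟨fun h => subsingleton_X₃ hS (q + 1) (subsingleton_succ_of_injective q E) h,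
        fun h => subsingleton_X₁ hS (q + 1) h (subsingleton_succ_of_injective (q + 1) E)⟩
  induction i with
  | zero =>
    intro N _ _ hN
    rw [subsingleton_H_zero_iff, subsingleton_H_zero_iff, isPowerTorsion_sup hN]
  | succ i ih =>
    intro N _ _ hN
    obtain ⟨E, f, hf, hE, hinj⟩ := exists_injective_torsion_embedding (I := I) N hN
    have hQ := isPowerTorsion_quotient hE (LinearMap.range f)
    rcases i with _ | q
    · rw [(main _ N E f hf hinj).1, (main _ N E f hf hinj).1, isPowerTorsion_sup hE,
        isPowerTorsion_sup hQ]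
    · rw [(main _ N E f hf hinj).2 q, (main _ N E f hf hinj).2 q]
      exact ih _ hQ

lemma subsingleton_H_sup_of_forall_le (I J : Ideal R) (b : ℕ) (hJ : LocCoh.CdLE R J b) (a : ℕ) :
    ∀ (M : Type u) [AddCommGroup M] [Module R M],
      (∀ q, a < q → Subsingleton (LocCoh.H I q M)) →
      ∀ i, a + b < i → Subsingleton (LocCoh.H (I ⊔ J) i M) := by
  have red : ∀ (M : Type u) [AddCommGroup M] [Module R M] (i : ℕ), b < i →
      Subsingleton (LocCoh.H (I ⊔ J) i (M ⧸ DRing.torsionSub I M)) →
      Subsingleton (LocCoh.H (I ⊔ J) i M) := by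
    intro M _ _ i hi h
    exact subsingleton_X₂ (subSeq_shortExact (DRing.torsionSub I M)) i
      ((subsingleton_H_sup_iff_of_isPowerTorsion I J i _ (isPowerTorsion_torsionSub I M)).2
        (hJ _ i hi)) h
  have hpos : ∀ (M : Type u) [AddCommGroup M] [Module R M] (q : ℕ),
      Subsingleton (LocCoh.H I (q + 1) M) →
      Subsingleton (LocCoh.H I (q + 1) (M ⧸ DRing.torsionSub I M)) := fun M _ _ q h =>
    (Equiv.ofBijective _ (map_mkQ_torsion_bijective I q M)).symm.subsingleton
  induction a with
  | zero =>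
    intro M _ _ hM i hi
    refine red M i (by omega) (subsingleton_H_of_le le_sup_left i _ fun q => ?_)
    rcases q with _ | q
    · exact (subsingleton_H_zero_iff I _).2
        (torsionSub_quotient_eq_bot (IsNoetherian.noetherian I) M)
    · exact hpos M q (hM (q + 1) q.succ_pos)
  | succ a ih =>
    intro M _ _ hM i hi
    refine red M i (by omega) ?_
    obtain ⟨E, f, hf, hE, hinj⟩ := exists_injective_torsionFree_embedding I
      (M ⧸ DRing.torsionSub I M) (torsionSub_quotient_eq_bot (IsNoetherian.noetherian I) M)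
    have hS := subSeq_shortExact (LinearMap.range f)
    have e := LinearEquiv.ofInjective f hf
    obtain ⟨j, rfl⟩ : ∃ j, i = j + 1 := ⟨i - 1, by omega⟩
    rw [subsingleton_H_congr (I ⊔ J) (j + 1) e]
    refine subsingleton_X₁ hS j (ih _ (fun q hq => ?_) j (by omega))
      (subsingleton_succ_of_injective j E)
    obtain ⟨q', rfl⟩ : ∃ q', q = q' + 1 := ⟨q - 1, by omega⟩
    exact subsingleton_X₃ hS (q' + 1) (subsingleton_succ_of_injective q' E)
      ((subsingleton_H_congr I (q' + 2) e).1 (hpos M (q' + 1) (hM (q' + 2) (by omega))))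

lemma cdLE_sup (I J : Ideal R) {a b : ℕ} (hI : LocCoh.CdLE R I a) (hJ : LocCoh.CdLE R J b) :
    LocCoh.CdLE R (I ⊔ J) (a + b) := fun M _ _ i hi =>
  subsingleton_H_sup_of_forall_le I J b hJ a M (fun q hq => hI M q hq) i hi

lemma cdLE_bot : LocCoh.CdLE R (⊥ : Ideal R) 0 := fun M _ _ i hi => by
  obtain ⟨q, rfl⟩ : ∃ q, i = q + 1 := ⟨i - 1, by omega⟩
  exact subsingleton_succ_of_isPowerTorsion _ q M fun m => ⟨1, fun a ha => by
    rw [pow_one, Submodule.mem_bot] at ha
    rw [ha, zero_smul]⟩

lemma cdLE_span_singleton (f : R) : LocCoh.CdLE R (Ideal.span {f}) 1 := fun M _ _ i hi => by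
  obtain ⟨q, rfl⟩ : ∃ q, i = q + 2 := ⟨i - 2, by omega⟩
  set I := Ideal.span {f} with hI
  let M' := M ⧸ DRing.torsionSub I M
  let L := LocalizedModule (Submonoid.powers f) M'
  let g : M' →ₗ[R] L := LocalizedModule.mkLinearMap (Submonoid.powers f) M'
  have hg : Function.Injective g := by
    rw [injective_iff_map_eq_zero]
    intro m hm
    rw [LocalizedModule.mkLinearMap_apply, ← LocalizedModule.zero_mk 1, LocalizedModule.mk_eq] at hm
    obtain ⟨⟨c, k, rfl⟩, hc⟩ := hm
    have hm' : m ∈ DRing.torsionSub I M' := by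
      refine ⟨k, fun a ha => ?_⟩
      rw [hI, Ideal.span_singleton_pow, Ideal.mem_span_singleton'] at ha
      obtain ⟨d, rfl⟩ := ha
      have hk : f ^ k • m = 0 := by simpa [Submonoid.smul_def] using hc
      rw [mul_smul, hk, smul_zero]
    rwa [torsionSub_quotient_eq_bot (IsNoetherian.noetherian I) M, Submodule.mem_bot] at hm'
  have hQ : LocCoh.IsPowerTorsion I (L ⧸ LinearMap.range g) := by
    intro x
    obtain ⟨y, rfl⟩ := Submodule.Quotient.mk_surjective _ x
    obtain ⟨⟨m, ⟨c, k, rfl⟩⟩, hy⟩ :=
      IsLocalizedModule.surj (Submonoid.powers f) (LocalizedModule.mkLinearMap _ M') y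
    refine ⟨k, fun a ha => ?_⟩
    rw [hI, Ideal.span_singleton_pow, Ideal.mem_span_singleton'] at ha
    obtain ⟨d, rfl⟩ := ha
    rw [← Submodule.Quotient.mk_smul, Submodule.Quotient.mk_eq_zero, mul_smul]
    refine Submodule.smul_mem _ _ ⟨m, ?_⟩
    simp only [Submonoid.smul_def] at hy
    exact hy.symm
  have hL : ∀ j, Subsingleton (LocCoh.H I j L) := fun j =>
    subsingleton_H_of_smul_bijective I L (Ideal.mem_span_singleton_self f)
      ((Module.End.isUnit_iff _).1 (IsLocalizedModule.map_units (S := Submonoid.powers f)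
        (LocalizedModule.mkLinearMap (Submonoid.powers f) M') ⟨f, Submonoid.mem_powers f⟩)) j
  have hS := subSeq_shortExact (LinearMap.range g)
  have h' : Subsingleton (LocCoh.H I (q + 2) M') :=
    (subsingleton_H_congr I (q + 2) (LinearEquiv.ofInjective g hg)).2
      (subsingleton_X₁ hS (q + 1) (subsingleton_succ_of_isPowerTorsion I q _ hQ) (hL (q + 2)))
  exact (Equiv.ofBijective _ (map_mkQ_torsion_bijective I (q + 1) M)).subsingleton

omit [IsNoetherianRing R] in
lemma cdLE_mono {I : Ideal R} {a b : ℕ} (hab : a ≤ b) (h : LocCoh.CdLE R I a) :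
    LocCoh.CdLE R I b := fun M _ _ i hi => h M i (by omega)

lemma cdLE_span_finset (s : Finset R) : LocCoh.CdLE R (Ideal.span (s : Set R)) s.card := by
  classical
  induction s using Finset.induction with
  | empty => simpa using cdLE_bot
  | @insert f t hf ih =>
    rw [Finset.coe_insert, Ideal.span_insert, Finset.card_insert_of_notMem hf, sup_comm]
    exact cdLE_sup _ _ ih (cdLE_span_singleton f)

lemma exists_cdLE (I : Ideal R) : ∃ n, LocCoh.CdLE R I n := by
  obtain ⟨s, rfl⟩ := (IsNoetherian.noetherian I : I.FG)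
  exact ⟨s.card, cdLE_span_finset s⟩

/-- Each class in `Ext^i(X, M)`, `X` finite, comes from a finitely generated submodule. -/
lemma exists_fg_ext (i : ℕ) : ∀ (X : ModuleCat.{u} R) [Module.Finite R X] (M : ModuleCat.{u} R)
    (α : Abelian.Ext X M i), ∃ (N : Submodule R M), N.FG ∧
      ∃ β : Abelian.Ext X (ModuleCat.of R N) i,
        β.comp (Abelian.Ext.mk₀ (ModuleCat.ofHom N.subtype)) (add_zero i) = α := by
  induction i with
  | zero =>
    intro X _ M α
    obtain ⟨f, rfl⟩ := (Abelian.Ext.mk₀_bijective _ _).2 α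
    refine ⟨LinearMap.range f.hom, Module.Finite.iff_fg.1 inferInstance,
      Abelian.Ext.mk₀ (ModuleCat.ofHom f.hom.rangeRestrict), ?_⟩
    rw [Abelian.Ext.mk₀_comp_mk₀]
    rfl
  | succ i ih =>
    intro X _ M α
    obtain ⟨n, p, hp⟩ := Module.Finite.exists_fin' R X
    let S : ShortComplex (ModuleCat.{u} R) := LinearMap.shortComplexKer p
    have hS : S.ShortExact := LinearMap.shortExact_shortComplexKer hp
    have : Projective S.X₂ := ModuleCat.projective_of_free (Pi.basisFun R (Fin n))
    have : Module.Finite R S.X₁ := Module.Finite.iff_fg.2 (IsNoetherian.noetherian _)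
    obtain ⟨γ, rfl⟩ := Abelian.Ext.contravariant_sequence_exact₃ hS M α
      (Abelian.Ext.eq_zero_of_projective _) (add_comm 1 i)
    obtain ⟨N, hN, β, rfl⟩ := ih S.X₁ M γ
    exact ⟨N, hN, hS.extClass.comp β (add_comm 1 i),
      Abelian.Ext.comp_assoc _ _ _ (add_comm 1 i) (add_zero i) (by omega)⟩

/-- Each local cohomology class comes from a finitely generated submodule. -/
lemma exists_fg_H (I : Ideal R) (i : ℕ) (M : ModuleCat.{u} R) (x : HH' I i M) :
    ∃ N : Submodule R M, N.FG ∧
      x ∈ Set.range ((localCohomology I i).map (ModuleCat.ofHom N.subtype)) := by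
  obtain ⟨n, α, rfl⟩ := exists_rep i M x
  obtain ⟨N, hN, β, rfl⟩ := exists_fg_ext i (quotPow I n) M α
  exact ⟨N, hN, ι I i _ n β, ι_naturality i _ β⟩

lemma cdLE_of_finite (I : Ideal R) (d : ℕ)
    (h : ∀ (M : Type u) [AddCommGroup M] [Module R M], Module.Finite R M →
      ∀ i, d < i → Subsingleton (LocCoh.H I i M)) : LocCoh.CdLE R I d := fun M _ _ i hi => by
  refine subsingleton_of_forall_eq 0 fun x => ?_
  obtain ⟨N, hN, y, rfl⟩ := exists_fg_H I i (ModuleCat.of R M) x
  have := h N (Module.Finite.iff_fg.2 hN) i hi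
  rw [Subsingleton.elim y 0, map_zero]

omit [IsNoetherianRing R] in
lemma subsingleton_H_pi (I : Ideal R) (i : ℕ) (h : Subsingleton (LocCoh.H I i R)) (n : ℕ) :
    Subsingleton (LocCoh.H I i (Fin n → R)) := by
  induction n with
  | zero =>
    refine subsingleton_of_forall_eq 0 fun x => ?_
    have h1 : (𝟙 (ModuleCat.of R (Fin 0 → R))) = 0 := by ext x j; exact j.elim0
    obtain ⟨k, α, rfl⟩ := exists_rep (I := I) i _ x
    rw [← Abelian.Ext.comp_mk₀_id α, h1, Abelian.Ext.mk₀_zero, Abelian.Ext.comp_zero, map_zero]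
  | succ n ih =>
    let e : (R × (Fin n → R)) ≃ₗ[R] (Fin (n + 1) → R) := Fin.consLinearEquiv R (fun _ => R)
    rw [← subsingleton_H_congr I i e]
    let S : ShortComplex (ModuleCat.{u} R) := ShortComplex.mk
      (ModuleCat.ofHom (LinearMap.inl R R (Fin n → R)))
      (ModuleCat.ofHom (LinearMap.snd R R (Fin n → R))) (by ext; rfl)
    have hS : S.ShortExact :=
      { exact := (ShortComplex.ShortExact.moduleCat_exact_iff_function_exact _).2
          Function.Exact.inl_snd
        mono_f := (ModuleCat.mono_iff_injective _).2 LinearMap.inl_injective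
        epi_g := (ModuleCat.epi_iff_surjective _).2 LinearMap.snd_surjective }
    exact subsingleton_X₂ hS i h ih

lemma cdLE_of_ring (I : Ideal R) (d : ℕ) (h : ∀ i, d < i → Subsingleton (LocCoh.H I i R)) :
    LocCoh.CdLE R I d := by
  obtain ⟨t, ht⟩ := exists_cdLE I
  suffices ∀ k, LocCoh.CdLE R I (d + k) → LocCoh.CdLE R I d from this t (cdLE_mono (by omega) ht)
  intro k
  induction k with
  | zero => exact fun h' => h'
  | succ k ih =>
    intro h'
    refine ih (cdLE_of_finite I _ fun M _ _ hM i hi => ?_)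
    obtain ⟨n, p, hp⟩ := Module.Finite.exists_fin' R M
    exact subsingleton_X₃ (LinearMap.shortExact_shortComplexKer hp) i
      (subsingleton_H_pi I i (h i (by omega)) n) (h' _ (i + 1) (by omega))

end Noetherian

end Groth.LocCohBase
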