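import Groth.Agent.LocCohBase.Torsion
import Groth.Agent.LocCohTransform.HMap
import Mathlib.RingTheory.LocalProperties.Injective
import Mathlib.Algebra.Module.LocalizedModule.Exact
import Mathlib.RingTheory.LocalProperties.Exactness
import Mathlib.RingTheory.Localization.AtPrime.Basic

/-!
The comparison maps `H^i_{I'}(M) → H^i_I(M)` via local cohomology at the primes of `V(I) \ V(I')`.
-/

set_option autoImplicit false

universe u

open CategoryTheory

namespace Groth.LocCohBase

open Groth.LocCohTransform (hmap hmap_ι hmap_naturality hmap_δ)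

variable {A : Type u} [CommRing A]

lemma h0Map_hmap {I I' : Ideal A} (hle : I ≤ I') (M : ModuleCat.{u} A) (x : HH' I' 0 M) :
    h0Map I M (hmap hle 0 M x) = h0Map I' M x := by
  obtain ⟨n, α, rfl⟩ := exists_rep 0 M x
  obtain ⟨f, rfl⟩ := (Abelian.Ext.mk₀_bijective _ _).2 α
  rw [hmap_ι, Abelian.Ext.mk₀_comp_mk₀, h0Map_ι, h0Map_ι]
  rfl

lemma exists_h0Map_eq (I : Ideal A) (M : ModuleCat.{u} A) {m : M} (hm : m ∈ DRing.torsionSub I M) :
    ∃ x : HH' I 0 M, h0Map I M x = m := by
  rw [← range_h0Map] at hm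
  exact hm

lemma h0Map_mem (I : Ideal A) (M : ModuleCat.{u} A) (x : HH' I 0 M) :
    h0Map I M x ∈ DRing.torsionSub I M := by
  rw [← range_h0Map]
  exact LinearMap.mem_range_self _ _

lemma exists_shortExact_injective (M : ModuleCat.{u} A) :
    ∃ (E Q : ModuleCat.{u} A) (f : M ⟶ E) (g : E ⟶ Q) (w : f ≫ g = 0),
      (ShortComplex.mk f g w).ShortExact ∧ Injective E := by
  refine ⟨_, _, Injective.ι M,
    ModuleCat.ofHom (LinearMap.range (Injective.ι M).hom).mkQ,
    (by ext x; exact (Submodule.Quotient.mk_eq_zero _).2 ⟨x, rfl⟩), ?_, ?_⟩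
  · exact
      { exact := (ShortComplex.moduleCat_exact_iff _).2 fun x hx =>
          (Submodule.Quotient.mk_eq_zero _).1 hx
        mono_f := inferInstanceAs (Mono (Injective.ι M))
        epi_g := (ModuleCat.epi_iff_surjective _).2 (Submodule.mkQ_surjective _) }
  · exact inferInstanceAs (Injective (Injective.under M))

variable [IsNoetherianRing A]

omit [IsNoetherianRing A] in
lemma localizedModule_mk_eq_zero_iff {M : Type u} [AddCommGroup M] [Module A M] {S : Submonoid A}
    {m : M} {s : S} : LocalizedModule.mk m s = 0 ↔ ∃ t ∈ S, t • m = 0 := by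
  rw [← LocalizedModule.zero_mk (1 : S), LocalizedModule.mk_eq]
  constructor
  · rintro ⟨t, ht⟩
    refine ⟨t, t.2, ?_⟩
    simpa [Submonoid.smul_def] using ht
  · rintro ⟨t, ht, h⟩
    exact ⟨⟨t, ht⟩, by simpa [Submonoid.smul_def] using h⟩

/-- An element of a localization of an injective module killed by an ideal lifts to an element of
the module killed by that ideal. -/
lemma exists_torsion_lift (E : Type u) [AddCommGroup E] [Module A E] [Module.Injective A E]
    (S : Submonoid A) (J : Ideal A) (z : LocalizedModule S E) (hz : ∀ a ∈ J, a • z = 0) :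
    ∃ e : E, (∀ a ∈ J, a • e = 0) ∧ LocalizedModule.mk e 1 = z := by
  induction z using LocalizedModule.induction_on with
  | h m s =>
    classical
    obtain ⟨F, rfl⟩ := IsNoetherian.noetherian J
    have hex : ∀ a ∈ F, ∃ t ∈ S, t • a • m = 0 := by
      intro a ha
      have h1 := hz a (Submodule.subset_span ha)
      rw [LocalizedModule.smul'_mk, localizedModule_mk_eq_zero_iff] at h1
      obtain ⟨t, ht, h2⟩ := h1
      exact ⟨t, ht, h2⟩
    choose t htS htm using hex
    set T : A := ∏ a ∈ F.attach, t a.1 a.2 with hTdef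
    have hTS : T ∈ S := S.prod_mem fun a _ => htS a.1 a.2
    set m' : E := T • m with hm'
    have hkill : ∀ b ∈ Submodule.span A (F : Set A), b • m' = 0 := by
      intro b hb
      induction hb using Submodule.span_induction with
      | mem a ha =>
        obtain ⟨c, hc⟩ := Finset.dvd_prod_of_mem (fun a : F => t a.1 a.2) (Finset.mem_attach F ⟨a, ha⟩)
        rw [hm', hTdef, hc, mul_comm, mul_smul, smul_comm a c, smul_comm a, htm a ha, smul_zero]
      | zero => rw [zero_smul]
      | add x y _ _ hx hy => rw [add_smul, hx, hy, add_zero]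
      | smul r x _ hx => rw [smul_eq_mul, mul_smul, hx, smul_zero]
    set J : Ideal A := Submodule.span A (F : Set A) with hJ
    set u : A := T * s with hu
    have huS : u ∈ S := S.mul_mem hTS s.2
    let f : ℕ →o Ideal A :=
      ⟨fun k => Submodule.comap (LinearMap.mulRight A (u ^ k)) J, monotone_nat_of_le_succ fun k x hx => by
        simp only [Submodule.mem_comap, LinearMap.mulRight_apply] at hx ⊢
        rw [pow_succ, ← mul_assoc]
        exact J.mul_mem_right _ hx⟩
    obtain ⟨n, hn⟩ := monotone_stabilizes_iff_noetherian.mpr (inferInstance : IsNoetherian A A) f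
    have hf1 : ∀ (k : ℕ) (a : A), a ∈ f k ↔ a * u ^ k ∈ J := fun k a => Iff.rfl
    let φ : A ⧸ (f (n + 1)) →ₗ[A] A ⧸ J := Submodule.mapQ _ _ (LinearMap.mulRight A (u ^ (n + 1)))
      le_rfl
    have hφ : Function.Injective φ := by
      rw [injective_iff_map_eq_zero]
      intro a ha
      obtain ⟨a, rfl⟩ := Submodule.Quotient.mk_surjective _ a
      rw [Submodule.mapQ_apply, Submodule.Quotient.mk_eq_zero] at ha
      rw [Submodule.Quotient.mk_eq_zero]
      exact ha
    let ψ : A ⧸ (f (n + 1)) →ₗ[A] E := Submodule.liftQ _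
      (LinearMap.toSpanSingleton A E (u ^ n • m')) (fun a ha => by
        rw [← hn (n + 1) (Nat.le_succ n), hf1] at ha
        rw [LinearMap.mem_ker, LinearMap.toSpanSingleton_apply, ← mul_smul]
        exact hkill _ ha)
    obtain ⟨h, hh⟩ := Module.Injective.out φ hφ ψ
    refine ⟨h (Submodule.Quotient.mk 1), fun a ha => ?_, ?_⟩
    · rw [← map_smul, ← Submodule.Quotient.mk_smul, smul_eq_mul, mul_one,
        (Submodule.Quotient.mk_eq_zero J).2 ha, map_zero]
    · have h2 : u ^ (n + 1) • h (Submodule.Quotient.mk 1) = u ^ n • m' := by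
        have h3 := hh (Submodule.Quotient.mk 1)
        rw [Submodule.mapQ_apply, LinearMap.mulRight_apply, one_mul, Submodule.liftQ_apply,
          LinearMap.toSpanSingleton_apply, one_smul] at h3
        rw [← map_smul, ← Submodule.Quotient.mk_smul, smul_eq_mul, mul_one]
        exact h3
      rw [LocalizedModule.mk_eq]
      refine ⟨⟨u ^ n * T, S.mul_mem (S.pow_mem huS n) hTS⟩, ?_⟩
      rw [one_smul, Submonoid.smul_def, Submonoid.smul_def, Submonoid.smul_def]
      change (u ^ n * T) • ((s : A) • h _) = (u ^ n * T) • m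
      rw [← mul_smul, mul_assoc, ← hu, ← pow_succ, h2, hm', ← mul_smul]

/-- The core of the comparison: subtract an image of a torsion element of an injective module. -/
lemma exists_sub_mem_torsion {I I' : Ideal A} (E : Type u) [AddCommGroup E] [Module A E]
    [Module.Injective A E] {X : Type u} [AddCommGroup X] [Module A X] (f : E →ₗ[A] X)
    (Y : Submodule A X) (hfY : ∀ e, f e ∈ Y)
    (hloc : ∀ p : PrimeSpectrum A, I ≤ p.asIdeal → ¬ I' ≤ p.asIdeal → ∀ y ∈ Y,
      (∃ t ∉ p.asIdeal, ∃ k : ℕ, ∀ a ∈ p.asIdeal ^ k, a • t • y = 0) →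
      ∃ e : E, (∃ k : ℕ, ∀ a ∈ p.asIdeal ^ k, a • e = 0) ∧ ∃ s ∉ p.asIdeal, s • (y - f e) = 0) :
    ∀ x : X, x ∈ DRing.torsionSub I X →
      (∀ p : PrimeSpectrum A, I ≤ p.asIdeal → ¬ I' ≤ p.asIdeal → ∃ t ∉ p.asIdeal, t • x ∈ Y) →
      ∃ e ∈ DRing.torsionSub I E, x - f e ∈ DRing.torsionSub I' X := by
  classical
  suffices H : ∀ (J : Ideal A) (x : X), Ideal.radical (LinearMap.ker (LinearMap.toSpanSingleton A X x)) = J →
      x ∈ DRing.torsionSub I X →
      (∀ p : PrimeSpectrum A, I ≤ p.asIdeal → ¬ I' ≤ p.asIdeal → ∃ t ∉ p.asIdeal, t • x ∈ Y) →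
      ∃ e ∈ DRing.torsionSub I E, x - f e ∈ DRing.torsionSub I' X from fun x => H _ x rfl
  intro J
  induction J using WellFoundedGT.induction with
  | _ J ih =>
  intro x hJ hxI hxY
  set ann : Ideal A := LinearMap.ker (LinearMap.toSpanSingleton A X x) with hann
  have hmem : ∀ a : A, a ∈ ann ↔ a • x = 0 := fun a => Iff.rfl
  by_cases hI' : I' ≤ ann.radical
  · obtain ⟨m, hm⟩ :=
      Ideal.exists_pow_le_of_le_radical_of_fg hI' (IsNoetherian.noetherian I')
    refine ⟨0, Submodule.zero_mem _, m, fun a ha => ?_⟩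
    rw [map_zero, sub_zero]
    exact (hmem a).1 (hm ha)
  · rw [Ideal.radical_eq_sInf, le_sInf_iff] at hI'
    push Not at hI'
    obtain ⟨q, ⟨hq, hqp⟩, hqI⟩ := hI'
    obtain ⟨p, hp, hpq⟩ := Ideal.exists_minimalPrimes_le hq
    have := hp.isPrime
    obtain ⟨n, hn⟩ := hxI
    have hIp : I ≤ p := Ideal.IsPrime.le_of_pow_le
      (le_trans (fun a ha => (hmem a).2 (hn a ha)) hp.le)
    have hI'p : ¬ I' ≤ p := fun h => hqI (h.trans hpq)
    -- an element outside `p` in all the other minimal primes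
    have hfin := ann.finite_minimalPrimes_of_isNoetherianRing
    obtain ⟨t', ht'p, ht'⟩ : ∃ t' ∉ p, ∀ r ∈ ann.minimalPrimes, r ≠ p → t' ∈ r := by
      have hex : ∀ r ∈ hfin.toFinset.erase p, ∃ c ∈ r, c ∉ p := by
        intro r hr
        obtain ⟨hne, hr⟩ := Finset.mem_erase.1 hr
        rw [Set.Finite.mem_toFinset] at hr
        exact SetLike.not_le_iff_exists.1 fun hle =>
          hne (le_antisymm hle (hp.2 hr.1 hle))
      choose c hcr hcp using hex
      refine ⟨∏ r ∈ (hfin.toFinset.erase p).attach, c r.1 r.2, fun hmem' => ?_, fun r hr hne => ?_⟩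
      · obtain ⟨r, -, hr⟩ := (Ideal.IsPrime.prod_mem_iff).1 hmem'
        exact hcp r.1 r.2 hr
      · have hr' : r ∈ hfin.toFinset.erase p :=
          Finset.mem_erase.2 ⟨hne, hfin.mem_toFinset.2 hr⟩
        exact Ideal.mem_of_dvd _
          (Finset.dvd_prod_of_mem (fun r : (hfin.toFinset.erase p : Finset (Ideal A)) => c r.1 r.2)
            (Finset.mem_attach _ ⟨r, hr'⟩)) (hcr r hr')
    have hprod : Ideal.span {t'} * p ≤ ann.radical := by
      rw [← Ideal.sInf_minimalPrimes]
      refine le_sInf fun r hr => ?_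
      by_cases hne : r = p
      · subst hne; exact Ideal.mul_le_right
      · exact Ideal.mul_le.2 fun a ha b _ =>
          r.mul_mem_right b ((Ideal.span_singleton_le_iff_mem r).2 (ht' r hr hne) ha)
    obtain ⟨k, hk⟩ :=
      Ideal.exists_pow_le_of_le_radical_of_fg hprod (IsNoetherian.noetherian _)
    obtain ⟨t, htp, htY⟩ := hxY ⟨p, inferInstance⟩ hIp hI'p
    obtain ⟨e, ⟨k', hek⟩, s, hsp, hse⟩ := hloc ⟨p, inferInstance⟩ hIp hI'p _ htY
      ⟨t' ^ k, fun h => ht'p (Ideal.IsPrime.mem_of_pow_mem inferInstance k h), k, fun a ha => by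
        rw [← mul_smul, mul_comm a, smul_comm, show (t' ^ k * a) • x = 0 from (hmem _).1 (hk (by
          rw [mul_pow, Ideal.span_singleton_pow]
          exact Ideal.mul_mem_mul (Ideal.mem_span_singleton_self _) ha)), smul_zero]⟩
    obtain ⟨e₁, he₁k, he₁⟩ := exists_torsion_lift E p.primeCompl (p ^ k')
      (LocalizedModule.mk e ⟨t, htp⟩) (fun a ha => by
        rw [LocalizedModule.smul'_mk, hek a ha, LocalizedModule.zero_mk])
    rw [LocalizedModule.mk_eq] at he₁
    obtain ⟨⟨s', hs'p⟩, hs'⟩ := he₁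
    simp only [Submonoid.smul_def, one_smul] at hs'
    have he₁I : e₁ ∈ DRing.torsionSub I E :=
      ⟨k', fun a ha => he₁k a (Ideal.pow_right_mono hIp k' ha)⟩
    set x₁ : X := x - f e₁ with hx₁
    have hkill : (s' * s * t) • x₁ = 0 := by
      have h1 : s • (t • x) = s • f e := by
        rw [smul_sub, sub_eq_zero] at hse
        exact hse
      have h2 : (s' * s * t) • e₁ = (s' * s) • e := by
        rw [show s' * s * t = s * (s' * t) by ring, mul_smul, mul_smul, hs', ← mul_smul, mul_comm]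
      rw [hx₁, smul_sub, sub_eq_zero, ← map_smul, h2, map_smul, mul_smul (s' * s), mul_smul, h1,
        ← mul_smul]
    have hle : ann.radical ≤ Ideal.radical (LinearMap.ker (LinearMap.toSpanSingleton A X x₁)) := by
      refine Ideal.radical_le_radical_iff.2 fun a ha => ⟨k' + 1, ?_⟩
      show a ^ (k' + 1) • x₁ = 0
      rw [hx₁, smul_sub, pow_succ, mul_smul, (hmem a).1 ha, smul_zero, zero_sub, neg_eq_zero,
        ← map_smul, mul_comm, mul_smul, he₁k _ (Ideal.pow_mem_pow (hp.le ha) k'), smul_zero,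
        map_zero]
    have hlt : J < Ideal.radical (LinearMap.ker (LinearMap.toSpanSingleton A X x₁)) := by
      refine hJ ▸ lt_of_le_of_ne hle fun h => ?_
      have hmem' : s' * s * t ∈ ann.radical := by
        rw [h]
        exact Ideal.le_radical hkill
      have h2 : s' * s * t ∈ p := Ideal.IsPrime.radical_le_iff inferInstance |>.2 hp.le hmem'
      rcases Ideal.IsPrime.mem_or_mem inferInstance h2 with h3 | h3
      · rcases Ideal.IsPrime.mem_or_mem inferInstance h3 with h4 | h4
        · exact hs'p h4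
        · exact hsp h4
      · exact htp h3
    obtain ⟨e₂, he₂, he₂'⟩ := ih _ hlt x₁ rfl
      (Submodule.sub_mem _ ⟨n, hn⟩ (DRing.map_mem_torsionSub I f he₁I)) (fun r hrI hrI' => by
        obtain ⟨t₂, ht₂, ht₂Y⟩ := hxY r hrI hrI'
        exact ⟨t₂, ht₂, by rw [hx₁, smul_sub]; exact Y.sub_mem ht₂Y (Y.smul_mem _ (hfY _))⟩)
    refine ⟨e₁ + e₂, Submodule.add_mem _ he₁I he₂, ?_⟩
    rw [map_add, ← sub_sub]
    exact he₂'

/-- The vanishing of the punctual local cohomology of degree `i` along `V(I) \ V(I')`. -/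
def LocVan (I I' : Ideal A) (i : ℕ) (M : ModuleCat.{u} A) : Prop :=
  ∀ p : PrimeSpectrum A, I ≤ p.asIdeal → ¬ I' ≤ p.asIdeal →
    Subsingleton (LocCoh.H (IsLocalRing.maximalIdeal (Localization.AtPrime p.asIdeal)) i
      (LocalizedModule p.asIdeal.primeCompl M))

/-- The localization of a short exact sequence at a prime. -/
noncomputable def locSeq (S : ShortComplex (ModuleCat.{u} A)) (p : PrimeSpectrum A) :
    ShortComplex (ModuleCat.{u} (Localization.AtPrime p.asIdeal)) :=
  ShortComplex.mk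
    (ModuleCat.ofHom (LocalizedModule.map p.asIdeal.primeCompl S.f.hom))
    (ModuleCat.ofHom (LocalizedModule.map p.asIdeal.primeCompl S.g.hom))
    (by
      ext x
      induction x using LocalizedModule.induction_on with
      | h m s =>
        change (LocalizedModule.map _ S.g.hom) ((LocalizedModule.map _ S.f.hom) _) = 0
        rw [LocalizedModule.map_mk, LocalizedModule.map_mk,
          show S.g.hom (S.f.hom m) = 0 from
            LinearMap.congr_fun (congrArg ModuleCat.Hom.hom S.zero) m, LocalizedModule.zero_mk])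

omit [IsNoetherianRing A] in
lemma locSeq_shortExact {S : ShortComplex (ModuleCat.{u} A)} (hS : S.ShortExact)
    (p : PrimeSpectrum A) : (locSeq S p).ShortExact where
  exact := (ShortComplex.moduleCat_exact_iff _).2 fun x hx =>
    (LocalizedModule.map_exact p.asIdeal.primeCompl S.f.hom S.g.hom
      ((ShortComplex.ShortExact.moduleCat_exact_iff_function_exact S).1 hS.exact) x).1 hx
  mono_f := (ModuleCat.mono_iff_injective _).2
    (LocalizedModule.map_injective _ _ ((ModuleCat.mono_iff_injective _).1 hS.mono_f))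
  epi_g := (ModuleCat.epi_iff_surjective _).2
    (LocalizedModule.map_surjective _ _ ((ModuleCat.epi_iff_surjective _).1 hS.epi_g))

lemma injective_locSeq {S : ShortComplex (ModuleCat.{u} A)} (p : PrimeSpectrum A)
    [Injective S.X₂] : Injective (locSeq S p).X₂ := by
  have : Module.Injective A S.X₂ :=
    Module.injective_module_of_injective_object (inj := inferInstanceAs (Injective S.X₂)) A S.X₂
  have := Module.injective_of_isLocalizedModule p.asIdeal.primeCompl
    (Rₛ := Localization.AtPrime p.asIdeal) (LocalizedModule.mkLinearMap p.asIdeal.primeCompl S.X₂)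
  exact Module.injective_object_of_injective_module (Localization.AtPrime p.asIdeal)
    (LocalizedModule p.asIdeal.primeCompl S.X₂)

lemma locVan_X₃ {I I' : Ideal A} {S : ShortComplex (ModuleCat.{u} A)} (hS : S.ShortExact)
    [Injective S.X₂] {i : ℕ} (h : LocVan I I' (i + 2) S.X₁) : LocVan I I' (i + 1) S.X₃ := by
  intro p hI hI'
  have := injective_locSeq (S := S) p
  exact subsingleton_X₃ (locSeq_shortExact hS p) (i + 1)
    (subsingleton_succ_of_injective i (locSeq S p).X₂) (h p hI hI')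

/-- Vanishing of `H^1` lets one lift local torsion elements of the cokernel. -/
lemma exists_local_lift {I I' : Ideal A} {S : ShortComplex (ModuleCat.{u} A)} (hS : S.ShortExact)
    [Injective S.X₂] (h : LocVan I I' 1 S.X₁) (p : PrimeSpectrum A) (hI : I ≤ p.asIdeal)
    (hI' : ¬ I' ≤ p.asIdeal) (y : S.X₃)
    (hy : ∃ t ∉ p.asIdeal, ∃ k : ℕ, ∀ a ∈ p.asIdeal ^ k, a • t • y = 0) :
    ∃ e : S.X₂, (∃ k : ℕ, ∀ a ∈ p.asIdeal ^ k, a • e = 0) ∧
      ∃ s ∉ p.asIdeal, s • (y - S.g.hom e) = 0 := by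
  have hE : Module.Injective A S.X₂ :=
    Module.injective_module_of_injective_object (inj := inferInstanceAs (Injective S.X₂)) A S.X₂
  set Ap := Localization.AtPrime p.asIdeal
  set m := IsLocalRing.maximalIdeal Ap
  have hpow : ∀ k : ℕ, m ^ k = (p.asIdeal ^ k).map (algebraMap A Ap) := fun k => by
    rw [Ideal.map_pow, Localization.AtPrime.map_eq_maximalIdeal]
  obtain ⟨t, ht, k, hk⟩ := hy
  have hz : LocalizedModule.mk y (1 : p.asIdeal.primeCompl) ∈
      DRing.torsionSub m (locSeq S p).X₃ := by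
    refine ⟨k, fun b hb => ?_⟩
    rw [hpow] at hb
    refine Submodule.span_induction (p := fun b _ => b • LocalizedModule.mk y (1 : p.asIdeal.primeCompl) = 0)
      ?_ ?_ ?_ ?_ hb
    · rintro _ ⟨a, ha, rfl⟩
      rw [algebraMap_smul, LocalizedModule.smul'_mk, localizedModule_mk_eq_zero_iff]
      exact ⟨t, ht, by rw [smul_comm]; exact hk a ha⟩
    · exact zero_smul _ _
    · intro a b _ _ ha hb; rw [add_smul, ha, hb, add_zero]
    · intro r a _ ha; rw [smul_eq_mul, mul_smul, ha, smul_zero]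
  obtain ⟨w, hw⟩ := exists_h0Map_eq m _ hz
  obtain ⟨v, hv⟩ := (exact₃ (I := m) (locSeq_shortExact hS p) 0 w).1 ((h p hI hI').elim _ _)
  obtain ⟨k', hk'⟩ := h0Map_mem m (locSeq S p).X₂ v
  obtain ⟨e, hek, he⟩ := exists_torsion_lift S.X₂ p.asIdeal.primeCompl (p.asIdeal ^ k')
    (h0Map m (locSeq S p).X₂ v) (fun a ha => by
      have := hk' _ (hpow k' ▸ Ideal.mem_map_of_mem _ ha)
      exact (algebraMap_smul Ap a
        (show LocalizedModule p.asIdeal.primeCompl S.X₂ from h0Map m (locSeq S p).X₂ v)).symm.trans this)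
  refine ⟨e, ⟨k', hek⟩, ?_⟩
  have h1 : h0Map m (locSeq S p).X₃ ((localCohomology m 0).map (locSeq S p).g v) =
      (locSeq S p).g (h0Map m (locSeq S p).X₂ v) := h0Map_natural m _ v
  rw [hv, hw, ← he] at h1
  have h2 : (LocalizedModule.map p.asIdeal.primeCompl S.g.hom)
      (LocalizedModule.mk e 1) = LocalizedModule.mk y 1 := h1.symm
  rw [LocalizedModule.map_mk, LocalizedModule.mk_eq] at h2
  obtain ⟨⟨s, hs⟩, hse⟩ := h2
  rw [one_smul, one_smul, Submonoid.smul_def, Submonoid.smul_def] at hse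
  exact ⟨s, hs, by rw [smul_sub, sub_eq_zero]; exact hse.symm⟩

variable {I I' : Ideal A} (hle : I ≤ I')

lemma torsionSub_le_of_locVan_zero {M : ModuleCat.{u} A} (h : LocVan I I' 0 M) :
    DRing.torsionSub I M ≤ DRing.torsionSub I' M := by
  intro x hx
  obtain ⟨E, -, -, -, -, -, hEinj⟩ := exists_shortExact_injective M
  have hE : Module.Injective A E :=
    Module.injective_module_of_injective_object (inj := inferInstanceAs (Injective E)) A E
  have hloc : ∀ p : PrimeSpectrum A, I ≤ p.asIdeal → ¬ I' ≤ p.asIdeal → ∀ y ∈ (⊤ : Submodule A M),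
      (∃ t ∉ p.asIdeal, ∃ k : ℕ, ∀ a ∈ p.asIdeal ^ k, a • t • y = 0) →
      ∃ e : E, (∃ k : ℕ, ∀ a ∈ p.asIdeal ^ k, a • e = 0) ∧
        ∃ s ∉ p.asIdeal, s • (y - (0 : E →ₗ[A] M) e) = 0 := by
    intro p hpI hpI' y _ hy
    refine ⟨0, ⟨0, fun a _ => smul_zero a⟩, ?_⟩
    simp only [map_zero, sub_zero]
    obtain ⟨t, ht, k, hk⟩ := hy
    set Ap := Localization.AtPrime p.asIdeal
    have hz : LocalizedModule.mk y (1 : p.asIdeal.primeCompl) ∈
        DRing.torsionSub (IsLocalRing.maximalIdeal Ap) (LocalizedModule p.asIdeal.primeCompl M) := by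
      refine ⟨k, fun b hb => ?_⟩
      rw [← Localization.AtPrime.map_eq_maximalIdeal, ← Ideal.map_pow] at hb
      refine Submodule.span_induction
        (p := fun b _ => b • LocalizedModule.mk y (1 : p.asIdeal.primeCompl) = 0) ?_ ?_ ?_ ?_ hb
      · rintro _ ⟨a, ha, rfl⟩
        rw [algebraMap_smul, LocalizedModule.smul'_mk, localizedModule_mk_eq_zero_iff]
        exact ⟨t, ht, by rw [smul_comm]; exact hk a ha⟩
      · exact zero_smul _ _
      · intro a b _ _ ha hb; rw [add_smul, ha, hb, add_zero]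
      · intro r a _ ha; rw [smul_eq_mul, mul_smul, ha, smul_zero]
    obtain ⟨w, hw⟩ := exists_h0Map_eq _ (ModuleCat.of Ap (LocalizedModule p.asIdeal.primeCompl M)) hz
    rw [(h p hpI hpI').elim w 0, map_zero] at hw
    obtain ⟨s, hs, hsy⟩ := localizedModule_mk_eq_zero_iff.1 hw.symm
    exact ⟨s, hs, hsy⟩
  obtain ⟨e, -, he⟩ := exists_sub_mem_torsion (I := I) (I' := I') E (0 : E →ₗ[A] M) ⊤
    (fun _ => trivial) hloc x hx
    (fun p _ _ => ⟨1, fun h1 => p.2.ne_top ((Ideal.eq_top_iff_one _).2 h1), trivial⟩)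
  simpa using he

lemma hmap_surjective_zero {M : ModuleCat.{u} A} (h : LocVan I I' 0 M) :
    Function.Surjective (hmap hle 0 M) := by
  intro x
  obtain ⟨x', hx'⟩ := exists_h0Map_eq I' M (torsionSub_le_of_locVan_zero h (h0Map_mem I M x))
  exact ⟨x', h0Map_injective I M ((h0Map_hmap hle M x').trans hx')⟩

variable {S : ShortComplex (ModuleCat.{u} A)} (hS : S.ShortExact) [Injective S.X₂]

omit [IsNoetherianRing A] in
include hS in
lemma δ_surjective (K : Ideal A) (i : ℕ) : Function.Surjective (δ (I := K) hS i) := fun x =>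
  (exact₁ (I := K) hS i x).1 ((subsingleton_succ_of_injective (I := K) i S.X₂).elim _ _)

include hS in
lemma hmap_injective_one (h : LocVan I I' 0 S.X₁) : Function.Injective (hmap hle 1 S.X₁) := by
  refine (injective_iff_map_eq_zero _).2 fun x hx => ?_
  obtain ⟨z, rfl⟩ := δ_surjective hS I' 0 x
  rw [hmap_δ hle hS] at hx
  obtain ⟨w, hw⟩ := (exact₃ (I := I) hS 0 _).1 hx
  refine (exact₃ (I := I') hS 0 z).2 ?_
  have he : S.g (h0Map I S.X₂ w) = h0Map I' S.X₃ z := by
    rw [← h0Map_natural, hw, h0Map_hmap]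
  obtain ⟨k, hk⟩ := h0Map_mem I' S.X₃ z
  obtain ⟨n, hn⟩ := h0Map_mem I S.X₂ w
  set e := h0Map I S.X₂ w
  have he' : e ∈ DRing.torsionSub I' S.X₂ := by
    have hbot := torsionSub_quotient_eq_bot (IsNoetherian.noetherian I') S.X₂
    have : (Submodule.Quotient.mk e : S.X₂ ⧸ DRing.torsionSub I' S.X₂) ∈
        DRing.torsionSub I' (S.X₂ ⧸ DRing.torsionSub I' S.X₂) := by
      refine ⟨k, fun a ha => ?_⟩
      rw [← Submodule.Quotient.mk_smul, Submodule.Quotient.mk_eq_zero]
      have h0 : S.g.hom (a • e) = 0 := by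
        rw [map_smul, show S.g.hom e = _ from he, hk a ha]
      obtain ⟨m, hm⟩ := (ShortComplex.moduleCat_exact_iff _).1 hS.exact _ h0
      have hmI : m ∈ DRing.torsionSub I S.X₁ := ⟨n, fun b hb => by
        apply (ModuleCat.mono_iff_injective _).1 hS.mono_f
        rw [map_smul, map_zero, show S.f.hom m = _ from hm, smul_comm, hn b hb, smul_zero]⟩
      rw [← hm]
      exact DRing.map_mem_torsionSub I' S.f.hom (torsionSub_le_of_locVan_zero h hmI)
    rw [hbot, Submodule.mem_bot, Submodule.Quotient.mk_eq_zero] at this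
    exact this
  obtain ⟨w', hw'⟩ := exists_h0Map_eq I' S.X₂ he'
  exact ⟨w', h0Map_injective I' _ (by rw [h0Map_natural, hw']; exact he)⟩

include hS in
lemma hmap_surjective_one (h : LocVan I I' 1 S.X₁) : Function.Surjective (hmap hle 1 S.X₁) := by
  intro x
  obtain ⟨z, rfl⟩ := δ_surjective hS I 0 x
  have hE : Module.Injective A S.X₂ :=
    Module.injective_module_of_injective_object (inj := inferInstanceAs (Injective S.X₂)) A S.X₂
  obtain ⟨e, he, he'⟩ := exists_sub_mem_torsion (I := I) (I' := I') S.X₂ S.g.hom ⊤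
    (fun _ => trivial) (fun p hpI hpI' y _ hy => exists_local_lift hS h p hpI hpI' y hy)
    (h0Map I S.X₃ z) (h0Map_mem _ _ _)
    (fun p _ _ => ⟨1, fun h1 => p.2.ne_top ((Ideal.eq_top_iff_one _).2 h1), trivial⟩)
  obtain ⟨w, hw⟩ := exists_h0Map_eq I S.X₂ he
  obtain ⟨z', hz'⟩ := exists_h0Map_eq I' S.X₃ he'
  refine ⟨δ hS 0 z', ?_⟩
  rw [hmap_δ hle hS]
  have : hmap hle 0 S.X₃ z' = z - (localCohomology I 0).map S.g w := by
    apply h0Map_injective
    rw [h0Map_hmap, map_sub, h0Map_natural, hw, hz']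
  rw [this, map_sub]
  exact sub_eq_self.2 ((exact₃ (I := I) hS 0 _).2 ⟨w, rfl⟩)

include hS in
lemma hmap_injective_two (h : LocVan I I' 1 S.X₁) : Function.Injective (hmap hle 2 S.X₁) := by
  refine (injective_iff_map_eq_zero _).2 fun x hx => ?_
  obtain ⟨z, rfl⟩ := δ_surjective hS I' 1 x
  rw [hmap_δ hle hS] at hx
  obtain ⟨w, hw⟩ := (exact₃ (I := I) hS 1 _).1 hx
  rw [(subsingleton_succ_of_injective (I := I) 0 S.X₂).elim w 0, map_zero] at hw
  suffices z = 0 by rw [this, map_zero]
  obtain ⟨X₂, X₃, f, g, hfg, hT, hTinj⟩ := exists_shortExact_injective S.X₃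
  have : Injective (ShortComplex.mk f g hfg).X₂ := hTinj
  obtain ⟨z₂, rfl⟩ := δ_surjective hT I' 0 z
  rw [hmap_δ hle hT] at hw
  obtain ⟨v, hv⟩ := (exact₃ (I := I) hT 0 _).1 hw.symm
  have hg : ∀ e : X₂, g.hom e = 0 → ∃ y : S.X₃, f.hom y = e :=
    fun e he => (ShortComplex.moduleCat_exact_iff _).1 hT.exact e he
  have hf : Function.Injective f.hom := (ModuleCat.mono_iff_injective _).1 hT.mono_f
  have hgsurj : Function.Surjective S.g.hom := (ModuleCat.epi_iff_surjective _).1 hS.epi_g
  have hE : Module.Injective A S.X₂ :=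
    Module.injective_module_of_injective_object (inj := inferInstanceAs (Injective S.X₂)) A S.X₂
  obtain ⟨e₀, he₀, he₀'⟩ := exists_sub_mem_torsion (I := I) (I' := I') S.X₂ (f.hom ∘ₗ S.g.hom)
    (LinearMap.range f.hom) (fun e => ⟨_, rfl⟩)
    (fun p hpI hpI' y hy hy' => by
      obtain ⟨y, rfl⟩ := hy
      obtain ⟨t, ht, k, hk⟩ := hy'
      obtain ⟨e, hek, s, hs, hse⟩ := exists_local_lift hS h p hpI hpI' y ⟨t, ht, k, fun a ha =>
        hf (by rw [map_smul, map_smul, map_zero]; exact hk a ha)⟩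
      exact ⟨e, hek, s, hs, by rw [LinearMap.comp_apply, ← map_sub, ← map_smul, hse, map_zero]⟩)
    (h0Map I X₂ v) (h0Map_mem _ _ _)
    (fun p _ hpI' => by
      obtain ⟨k, hk⟩ := h0Map_mem I' X₃ z₂
      obtain ⟨t, htI, ht⟩ := SetLike.not_le_iff_exists.1
        (fun hle' => hpI' (Ideal.IsPrime.le_of_pow_le (P := p.asIdeal) (n := k) hle'))
      refine ⟨t, ht, hg _ ?_⟩
      rw [map_smul, show g.hom (h0Map I X₂ v) = h0Map I' X₃ z₂ from ?_]
      · exact hk t htI
      · exact (h0Map_natural I g v).symm.trans (by rw [hv, h0Map_hmap]))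
  obtain ⟨v', hv'⟩ := exists_h0Map_eq I' X₂ he₀'
  refine (exact₃ (I := I') hT 0 z₂).2 ⟨v', h0Map_injective I' _ ?_⟩
  have hzero : g.hom (f.hom (S.g.hom e₀)) = 0 :=
    LinearMap.congr_fun (congrArg ModuleCat.Hom.hom hfg) _
  rw [h0Map_natural, hv']
  refine (map_sub g.hom _ _).trans ?_
  rw [LinearMap.comp_apply, hzero, sub_zero]
  exact (h0Map_natural I g v).symm.trans (by rw [hv, h0Map_hmap])

omit S hS in
/-- Punctual vanishing in degree `i` gives surjectivity in degree `i` and injectivity in degree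
`i + 1`. -/
theorem hmap_surjective_injective (i : ℕ) :
    ∀ M : ModuleCat.{u} A, LocVan I I' i M →
      Function.Surjective (hmap hle i M) ∧ Function.Injective (hmap hle (i + 1) M) := by
  induction i with
  | zero =>
    intro M h
    obtain ⟨E, Q, f, g, w, hT, hTinj⟩ := exists_shortExact_injective M
    have : Injective (ShortComplex.mk f g w).X₂ := hTinj
    exact ⟨hmap_surjective_zero hle h, hmap_injective_one hle hT h⟩
  | succ i ih =>
    intro M h
    obtain ⟨E, Q, f, g, w, hT, hTinj⟩ := exists_shortExact_injective M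
    have : Injective (ShortComplex.mk f g w).X₂ := hTinj
    set T := ShortComplex.mk f g w
    rcases i with _ | i
    · exact ⟨hmap_surjective_one hle hT h, hmap_injective_two hle hT h⟩
    obtain ⟨hs, hi⟩ := ih T.X₃ (locVan_X₃ hT h)
    refine ⟨fun x => ?_, (injective_iff_map_eq_zero _).2 fun x hx => ?_⟩
    · obtain ⟨z, rfl⟩ := δ_surjective hT I (i + 1) x
      obtain ⟨z', rfl⟩ := hs z
      exact ⟨δ hT (i + 1) z', hmap_δ hle hT _ z'⟩
    · obtain ⟨z, rfl⟩ := δ_surjective hT I' (i + 2) x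
      rw [hmap_δ hle hT] at hx
      obtain ⟨w, hw⟩ := (exact₃ (I := I) hT (i + 2) _).1 hx
      rw [(subsingleton_succ_of_injective (I := I) (i + 1) T.X₂).elim w 0, map_zero] at hw
      rw [hi (hw.symm.trans (map_zero (hmap hle (i + 2) T.X₃)).symm), map_zero]

end Groth.LocCohBase
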