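import Groth.Agent.LocCohBase.Cd
import Groth.Agent.LocCohBase.Comparison
import Groth.Agent.LocCohTransform.BaseChange
import Groth.Agent.LocCohTransform.Independence
import Groth.Agent.LocCohDim.Avoid
import Mathlib.RingTheory.Flat.FaithfullyFlat.Basic
import Mathlib.RingTheory.TensorProduct.Basic

/-!
Cohomological dimension: radical invariance, ring maps, localization, the bound `cd ≤ dim`.
-/

set_option autoImplicit false

universe u

open CategoryTheory TensorProduct

namespace Groth.LocCohBase

variable {A : Type u} [CommRing A] [IsNoetherianRing A]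

/-- If `J ≤ I` have the same zero locus then they have the same local cohomology. -/
theorem hmap_bijective_of_forall {I J : Ideal A} (hle : J ≤ I)
    (h : ∀ p : PrimeSpectrum A, J ≤ p.asIdeal → I ≤ p.asIdeal) (i : ℕ) (M : ModuleCat.{u} A) :
    Function.Bijective (Groth.LocCohTransform.hmap hle i M) := by
  have hv : ∀ j, LocVan J I j M := fun j p hp hp' => absurd (h p hp) hp'
  refine ⟨?_, (hmap_surjective_injective hle i M (hv i)).1⟩
  rcases i with _ | i
  · exact Groth.LocCohTransform.hmap_zero_injective hle M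
  · exact (hmap_surjective_injective hle i M (hv i)).2

theorem cdLE_congr_of_le {I J : Ideal A} (hle : J ≤ I)
    (h : ∀ p : PrimeSpectrum A, J ≤ p.asIdeal → I ≤ p.asIdeal) (d : ℕ) :
    LocCoh.CdLE A I d ↔ LocCoh.CdLE A J d := by
  constructor
  · intro hI M _ _ i hi
    have : Subsingleton (HH' I i (ModuleCat.of A M)) := hI M i hi
    exact (hmap_bijective_of_forall hle h i (ModuleCat.of A M)).2.subsingleton
  · intro hJ M _ _ i hi
    have : Subsingleton (HH' J i (ModuleCat.of A M)) := hJ M i hi
    exact (hmap_bijective_of_forall hle h i (ModuleCat.of A M)).1.subsingleton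

omit [IsNoetherianRing A] in
lemma subsingleton_H_top (i : ℕ) (M : Type u) [AddCommGroup M] [Module A M] :
    Subsingleton (LocCoh.H (⊤ : Ideal A) i M) := by
  refine subsingleton_of_forall_eq 0 fun x => ?_
  obtain ⟨n, hn⟩ := exists_pow_smul_eq_zero (I := (⊤ : Ideal A)) i (ModuleCat.of A M) x
  have := hn 1 (by rw [Ideal.top_pow]; trivial)
  rwa [one_smul] at this

variable (B : Type u) [CommRing B] [IsNoetherianRing B] [Algebra A B]

/-- `cd` does not grow along ring maps. -/
theorem cdLE_map {I : Ideal A} {d : ℕ} (h : LocCoh.CdLE A I d) :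
    LocCoh.CdLE B (I.map (algebraMap A B)) d := by
  intro M _ _ i hi
  let : Module A M := Module.compHom M (algebraMap A B)
  have : IsScalarTower A B M := IsScalarTower.of_algebraMap_smul fun _ _ => rfl
  obtain ⟨φ, -⟩ := Groth.LocCohTransform.exists_restrict_addEquiv (R' := B) I M i
  have := h M i hi
  exact φ.toEquiv.subsingleton

theorem subsingleton_tensor_H_of_cdLE [Module.Flat A B] {I : Ideal A} {d : ℕ}
    (h : LocCoh.CdLE B (I.map (algebraMap A B)) d) (M : Type u) [AddCommGroup M] [Module A M]
    {i : ℕ} (hi : d < i) : Subsingleton (B ⊗[A] LocCoh.H I i M) := by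
  obtain ⟨e⟩ := Groth.LocCohTransform.nonempty_baseChange_equiv B I M i
  have := h (B ⊗[A] M) i hi
  exact e.toEquiv.subsingleton

/-- Descent of `cd` along faithfully flat maps. -/
theorem cdLE_of_faithfullyFlat [Module.FaithfullyFlat A B] {I : Ideal A} {d : ℕ}
    (h : LocCoh.CdLE B (I.map (algebraMap A B)) d) : LocCoh.CdLE A I d := by
  intro M _ _ i hi
  by_contra hne
  rw [not_subsingleton_iff_nontrivial] at hne
  have h1 := subsingleton_tensor_H_of_cdLE B h M hi
  exact not_subsingleton (B ⊗[A] LocCoh.H I i M) h1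

/-- `cd` is checked at primes. -/
theorem cdLE_of_localized {I : Ideal A} {d : ℕ}
    (h : ∀ (p : Ideal A) [p.IsPrime],
      LocCoh.CdLE (Localization.AtPrime p) (I.map (algebraMap A (Localization.AtPrime p))) d) :
    LocCoh.CdLE A I d := by
  intro M _ _ i hi
  refine (Module.support_eq_empty_iff (R := A)).1 (Set.eq_empty_iff_forall_notMem.2 fun p hp => ?_)
  have h1 := subsingleton_tensor_H_of_cdLE (Localization.AtPrime p.asIdeal) (h p.asIdeal) M hi
  have h2 : Subsingleton (LocalizedModule p.asIdeal.primeCompl (LocCoh.H I i M)) :=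
    (LocalizedModule.equivTensorProduct p.asIdeal.primeCompl (LocCoh.H I i M)).toEquiv.subsingleton
  rw [Module.mem_support_iff] at hp
  exact not_subsingleton (LocalizedModule p.asIdeal.primeCompl (LocCoh.H I i M)) h2

/-- In a local ring of dimension at most `d` every ideal has `cd ≤ d`. -/
theorem cdLE_of_dim_le_local [IsLocalRing A] (I : Ideal A) (d : ℕ) (hd : ringKrullDim A ≤ d) :
    LocCoh.CdLE A I d := by
  classical
  by_cases hI : I = ⊤
  · subst hI
    exact fun M _ _ i _ => subsingleton_H_top i M
  obtain ⟨f, hf, hmin⟩ := Groth.LocCohDim.exists_fin_height I d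
  have hle : Ideal.span ((Finset.univ.image f : Finset A) : Set A) ≤ I := by
    rw [Ideal.span_le]
    intro x hx
    obtain ⟨i, -, rfl⟩ := Finset.mem_image.1 hx
    exact hf i
  refine (cdLE_congr_of_le hle (fun p hp => ?_) d).2
    (cdLE_mono (Finset.card_image_le.trans (by simp)) (cdLE_span_finset _))
  by_contra hIp
  have h1 := hmin p.asIdeal (by simpa using hp) hIp
  refine hIp ((IsLocalRing.le_maximalIdeal hI).trans (le_of_eq ?_))
  refine (IsLocalRing.eq_maximalIdeal ?_).symm
  refine ⟨⟨p.2.ne_top, fun J hJ => ?_⟩⟩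
  by_contra hJtop
  obtain ⟨q, hq, hJq⟩ := Ideal.exists_le_maximal J hJtop
  have h2 := Ideal.height_add_one_le_of_lt_of_isPrime (hJ.trans_le hJq)
  have h3 := (Ideal.height_le_ringKrullDim_of_isPrime (I := q)).trans hd
  have h4 : q.height ≤ (d : ℕ∞) := WithBot.coe_le_coe.1 h3
  have h5 : ((d : ℕ) : ℕ∞) + 1 ≤ (d : ℕ∞) := ((add_le_add_left h1 1).trans h2).trans h4
  norm_cast at h5
  omega

theorem cdLE_of_dim_le (I : Ideal A) (d : ℕ) (hd : ringKrullDim A ≤ d) : LocCoh.CdLE A I d :=
  cdLE_of_localized fun p _ => by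
    refine cdLE_of_dim_le_local _ d ?_
    rw [IsLocalization.AtPrime.ringKrullDim_eq_height p]
    exact Ideal.height_le_ringKrullDim_of_isPrime.trans hd

end Groth.LocCohBase
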