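import Groth.Agent.LocCohBase.Depth
import Mathlib.RingTheory.Ideal.AssociatedPrime.Localization
import Mathlib.RingTheory.Ideal.AssociatedPrime.Finiteness
import Mathlib.RingTheory.Regular.Flat
import Mathlib.RingTheory.Localization.Finiteness
import Mathlib.Algebra.Module.LocalizedModule.Exact

/-!
Depth and localization: `one_le_idealDepth_iff`, `one_le_depth_localized_iff`,
`idealDepth_eq_iInf_depth`.
-/

set_option autoImplicit false

universe u

open CategoryTheory RingTheory.Sequence Pointwise

namespace Groth.LocCohBase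

variable {R : Type u} [CommRing R] [IsNoetherianRing R]

omit [IsNoetherianRing R] in
lemma comap_maximalIdeal_atPrime (p : Ideal R) [p.IsPrime] :
    Ideal.comap (algebraMap R (Localization.AtPrime p))
      (IsLocalRing.maximalIdeal (Localization.AtPrime p)) = p :=
  Localization.AtPrime.under_maximalIdeal

lemma one_le_idealDepth_iff (I : Ideal R) (M : Type u) [AddCommGroup M] [Module R M]
    [Module.Finite R M] :
    (1 : ℕ∞) ≤ LocCoh.idealDepth I M ↔ ∀ q ∈ associatedPrimes R M, ¬ I ≤ q := by
  by_cases hIM : I • (⊤ : Submodule R M) = ⊤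
  · refine ⟨fun _ q hq hle => ?_, fun _ => by rw [idealDepth_eq_top_of_smul_top_eq_top hIM]; exact le_top⟩
    obtain ⟨r, hr, hr'⟩ := exists_smul_eq_self_of_smul_top_eq_top hIM
    obtain ⟨hprime, x, hx⟩ := hq
    have hr2 : r ∈ ((⊥ : Submodule R M).colon {x}).radical := hx ▸ hle hr
    obtain ⟨k, hk⟩ := hr2
    rw [Submodule.mem_colon_singleton, Submodule.mem_bot] at hk
    have hpow : ∀ k : ℕ, r ^ k • x = x := fun k => by
      induction k with
      | zero => simp
      | succ k ih => rw [pow_succ, mul_smul, hr', ih]
    rw [hpow k] at hk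
    subst hk
    apply hprime.ne_top
    rw [hx, Ideal.eq_top_iff_one]
    exact Ideal.le_radical (by rw [Submodule.mem_colon_singleton, smul_zero]; exact Submodule.zero_mem _)
  · rw [show (1 : ℕ∞) = ((1 : ℕ) : ℕ∞) from rfl, le_idealDepth_iff_exists I hIM]
    constructor
    · rintro ⟨rs, hlen, hrs, hmem⟩ q hq hle
      obtain ⟨x, rfl⟩ := List.length_eq_one_iff.1 hlen
      have hx : x ∈ ⋃ p ∈ associatedPrimes R M, (p : Set R) :=
        Set.mem_biUnion hq (hle (hmem x (by simp)))
      rw [biUnion_associatedPrimes_eq_compl_regular] at hx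
      exact hx ((isWeaklyRegular_singleton_iff _ _).1 hrs)
    · intro h
      by_contra hno
      have hsub : (I : Set R) ⊆ ⋃ p ∈ associatedPrimes R M, (p : Set R) := by
        intro x hx
        rw [biUnion_associatedPrimes_eq_compl_regular]
        intro hreg
        exact hno ⟨[x], rfl, (isWeaklyRegular_singleton_iff _ _).2 hreg, by simpa using hx⟩
      obtain ⟨q, hq, hle⟩ := (I.subset_union_prime_finite (associatedPrimes.finite R M)
        (f := id) 0 0 fun _ h _ _ => h.isPrime).1 hsub
      exact h q hq hle

lemma one_le_depth_localized_iff (p : Ideal R) [p.IsPrime] (M : Type u) [AddCommGroup M]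
    [Module R M] [Module.Finite R M] :
    (1 : ℕ∞) ≤ LocCoh.depth (Localization.AtPrime p) (LocalizedModule p.primeCompl M) ↔
      p ∉ associatedPrimes R M := by
  have hiff := Module.associatedPrimes.preimage_comap_associatedPrimes_eq_associatedPrimes_of_isLocalizedModule
    p.primeCompl (Localization.AtPrime p) (LocalizedModule.mkLinearMap p.primeCompl M)
  rw [LocCoh.depth, one_le_idealDepth_iff]
  constructor
  · intro h hp
    refine h (IsLocalRing.maximalIdeal _) ?_ le_rfl
    rw [← hiff, Set.mem_preimage, comap_maximalIdeal_atPrime]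
    exact hp
  · intro h q hq hle
    have : q = IsLocalRing.maximalIdeal (Localization.AtPrime p) :=
      ((IsLocalRing.maximalIdeal.isMaximal _).eq_of_le hq.isPrime.ne_top hle).symm
    subst this
    rw [← hiff, Set.mem_preimage, comap_maximalIdeal_atPrime] at hq
    exact h hq

omit [IsNoetherianRing R] in
lemma idealDepth_le_idealDepth_localized (I : Ideal R) (p : Ideal R) [p.IsPrime] (M : Type u)
    [AddCommGroup M] [Module R M] [Module.Finite R M] :
    LocCoh.idealDepth I M ≤
      LocCoh.idealDepth (I.map (algebraMap R (Localization.AtPrime p)))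
        (LocalizedModule p.primeCompl M) := by
  by_cases hIM : I • (⊤ : Submodule R M) = ⊤
  · obtain ⟨r, hr, hr'⟩ := exists_smul_eq_self_of_smul_top_eq_top hIM
    refine le_of_le_of_eq le_top (idealDepth_eq_top_of_smul_top_eq_top ?_).symm
    refine top_unique fun x _ => ?_
    have h1 : x = algebraMap R (Localization.AtPrime p) r • x := by
      rw [algebraMap_smul]
      induction x using LocalizedModule.induction_on with
      | h m s => rw [LocalizedModule.smul'_mk, hr']
    rw [h1]
    exact Submodule.smul_mem_smul (Ideal.mem_map_of_mem _ hr) Submodule.mem_top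
  · refine le_iff_forall_nat_le.2 fun n hn => ?_
    obtain ⟨rs, hlen, hrs, hmem⟩ := (le_idealDepth_iff_exists I hIM n).1 hn
    have hw := RingTheory.Sequence.IsWeaklyRegular.of_isLocalizedModule (Localization.AtPrime p)
      p.primeCompl (LocalizedModule.mkLinearMap p.primeCompl M) hrs
    by_cases htop : I.map (algebraMap R (Localization.AtPrime p)) •
        (⊤ : Submodule (Localization.AtPrime p) (LocalizedModule p.primeCompl M)) = ⊤
    · rw [idealDepth_eq_top_of_smul_top_eq_top htop]; exact le_top
    · refine (le_idealDepth_iff_exists _ htop n).2 ⟨_, by simpa using hlen, hw, fun r hr => ?_⟩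
      obtain ⟨r', hr', rfl⟩ := List.mem_map.1 hr
      exact Ideal.mem_map_of_mem _ (hmem r' hr')

lemma idealDepth_le_depth_localized (I : Ideal R) (p : Ideal R) [p.IsPrime] (hIp : I ≤ p)
    (M : Type u) [AddCommGroup M] [Module R M] [Module.Finite R M] :
    LocCoh.idealDepth I M ≤
      LocCoh.depth (Localization.AtPrime p) (LocalizedModule p.primeCompl M) := by
  refine (idealDepth_le_idealDepth_localized I p M).trans (idealDepth_mono ?_ _)
  refine le_trans ?_ Ideal.le_radical
  rw [Ideal.map_le_iff_le_comap, comap_maximalIdeal_atPrime]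
  exact hIp

lemma le_idealDepth_of_forall_depth (I : Ideal R) (n : ℕ) :
    ∀ (M : Type u) [AddCommGroup M] [Module R M] [Module.Finite R M],
      (∀ (p : Ideal R) [p.IsPrime], I ≤ p →
        (n : ℕ∞) ≤ LocCoh.depth (Localization.AtPrime p) (LocalizedModule p.primeCompl M)) →
      (n : ℕ∞) ≤ LocCoh.idealDepth I M := by
  induction n with
  | zero => intro M _ _ _ _; simp
  | succ n ih =>
    intro M _ _ _ h
    by_cases hIM : I • (⊤ : Submodule R M) = ⊤
    · rw [idealDepth_eq_top_of_smul_top_eq_top hIM]; exact le_top
    have h1 : ((1 : ℕ) : ℕ∞) ≤ LocCoh.idealDepth I M := by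
      refine (one_le_idealDepth_iff I M).2 fun q hq hle => ?_
      have := hq.isPrime
      refine (one_le_depth_localized_iff q M).1 (le_trans ?_ (h q hle)) hq
      exact_mod_cast Nat.succ_pos n
    obtain ⟨rs, hlen, hrs, hmem⟩ := (le_idealDepth_iff_exists I hIM 1).1 h1
    obtain ⟨x, rfl⟩ := List.length_eq_one_iff.1 hlen
    have hx : x ∈ I := hmem x (by simp)
    have hreg : IsSMulRegular M x := (isWeaklyRegular_singleton_iff _ _).1 hrs
    rw [← idealDepth_quotSMulTop_add_one I M hIM hx hreg, Nat.cast_succ]
    gcongr
    refine ih (QuotSMulTop x M) fun p _ hp => ?_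
    let f : M →ₗ[R] M := LinearMap.lsmul R M x
    let g : M →ₗ[R] QuotSMulTop x M := Submodule.mkQ (x • (⊤ : Submodule R M))
    have hfg : Function.Exact f g := by
      intro y
      simp only [g, Submodule.mkQ_apply, Submodule.Quotient.mk_eq_zero,
        Submodule.mem_smul_pointwise_iff_exists, Submodule.mem_top, true_and, Set.mem_range]
      rfl
    have h2 := (idealDepth_shortExact (IsLocalRing.maximalIdeal (Localization.AtPrime p))
      (LocalizedModule.map p.primeCompl f) (LocalizedModule.map p.primeCompl g)
      (LocalizedModule.map_injective _ f hreg)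
      (LocalizedModule.map_surjective _ g (Submodule.mkQ_surjective _))
      (LocalizedModule.map_exact _ f g hfg)).2.1
    refine le_trans ?_ h2
    have h3 := h p hp
    rw [LocCoh.depth] at h3
    refine le_min (le_trans (by exact_mod_cast Nat.le_succ n) h3) ?_
    revert h3
    cases LocCoh.idealDepth (IsLocalRing.maximalIdeal (Localization.AtPrime p))
        (LocalizedModule p.primeCompl M) with
    | top => simp
    | coe a =>
      intro h3
      rw [← ENat.natCast_one, ← ENat.natCast_sub]
      norm_cast at h3 ⊢
      omega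

lemma idealDepth_eq_iInf_depth (I : Ideal R) (M : Type u) [AddCommGroup M] [Module R M]
    [Module.Finite R M] :
    LocCoh.idealDepth I M = ⨅ (p : PrimeSpectrum R) (_ : I ≤ p.asIdeal),
      LocCoh.depth (Localization.AtPrime p.asIdeal) (LocalizedModule p.asIdeal.primeCompl M) := by
  refine le_antisymm (le_iInf₂ fun p hp => idealDepth_le_depth_localized I p.asIdeal hp M) ?_
  refine le_iff_forall_nat_le.2 fun n hn => le_idealDepth_of_forall_depth I n M fun p hpr hp => ?_
  exact hn.trans (iInf₂_le (⟨p, hpr⟩ : PrimeSpectrum R) hp)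

end Groth.LocCohBase
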