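import Groth.Agent.LocCohBase.ExtBridge
import Mathlib.Algebra.Homology.LocalCohomology
import Mathlib.Algebra.Homology.DerivedCategory.Ext.ExactSequences
import Mathlib.Algebra.Homology.DerivedCategory.Ext.EnoughInjectives
import Mathlib.Algebra.Category.ModuleCat.FilteredColimits
import Mathlib.CategoryTheory.Limits.FunctorCategory.Basic
import Mathlib.CategoryTheory.Limits.ConcreteCategory.Basic

/-!
Mathlib's `localCohomology I i` as the directed union of the `Ext^i(R/I^n, M)`: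
`ι`, `exists_rep`, `ι_eq_zero_iff`, naturality, long exact sequence, vanishing on injectives,
torsion.
-/

set_option autoImplicit false

universe u

open CategoryTheory Limits Opposite

namespace Groth.LocCohBase

variable {R : Type u} [CommRing R] {I : Ideal R}

/-- `R/I^n`. -/
noncomputable abbrev quotPow (I : Ideal R) (n : ℕ) : ModuleCat.{u} R := ModuleCat.of R (R ⧸ I ^ n)

/-- The projection `R/I^m → R/I^n` for `n ≤ m`. -/
noncomputable def trans (I : Ideal R) {n m : ℕ} (h : n ≤ m) : quotPow I m ⟶ quotPow I n :=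
  ModuleCat.ofHom (Submodule.mapQ (I ^ m) (I ^ n) LinearMap.id (Ideal.pow_le_pow_right h))

lemma trans_apply_mk (I : Ideal R) {n m : ℕ} (h : n ≤ m) (r : R) :
    trans I h (Ideal.Quotient.mk (I ^ m) r) = Ideal.Quotient.mk (I ^ n) r := rfl

lemma trans_comp (I : Ideal R) {n m k : ℕ} (h : n ≤ m) (h' : m ≤ k) :
    trans I h' ≫ trans I h = trans I (h.trans h') := by
  ext
  rfl

lemma trans_refl (I : Ideal R) (n : ℕ) : trans I (le_refl n) = 𝟙 (quotPow I n) := by
  ext
  rfl

/-- Shorthand for local cohomology. -/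
noncomputable abbrev HH' (I : Ideal R) (i : ℕ) (M : ModuleCat.{u} R) : ModuleCat.{u} R :=
  (localCohomology I i).obj M

/-- The directed system computing local cohomology, evaluated at a module. -/
noncomputable abbrev sysFunctor (I : Ideal R) (i : ℕ) (M : ModuleCat.{u} R) :
    ℕᵒᵖᵒᵖ ⥤ ModuleCat.{u} R :=
  localCohomology.diagram (localCohomology.idealPowersDiagram I) i ⋙
    (evaluation (ModuleCat.{u} R) (ModuleCat.{u} R)).obj M

noncomputable def sysCocone (I : Ideal R) (i : ℕ) (M : ModuleCat.{u} R) :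
    Cocone (sysFunctor I i M) :=
  ((evaluation (ModuleCat.{u} R) (ModuleCat.{u} R)).obj M).mapCocone
    (colimit.cocone (localCohomology.diagram (localCohomology.idealPowersDiagram I) i))

noncomputable def sysIsColimit (I : Ideal R) (i : ℕ) (M : ModuleCat.{u} R) :
    IsColimit (sysCocone I i M) :=
  isColimitOfPreserves _ (colimit.isColimit _)

instance forget_preservesFilteredColimits_zero :
    PreservesFilteredColimitsOfSize.{0, 0} (forget (ModuleCat.{u} R)) :=
  preservesFilteredColimitsOfSize_shrink.{0, u, 0, u} _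

/-- The comparison at level `n`. -/
noncomputable def sysEquiv (I : Ideal R) (i : ℕ) (M : ModuleCat.{u} R) (n : ℕ) :
    Abelian.Ext (quotPow I n) M i ≃ₗ[R] (sysFunctor I i M).obj (op (op n)) :=
  (((extIso (R := R) i).app (op (quotPow I n))).app M).symm.toLinearEquiv

lemma sysEquiv_trans (i : ℕ) (M : ModuleCat.{u} R) {n m : ℕ} (h : n ≤ m)
    (w : (op (op n) : ℕᵒᵖᵒᵖ) ⟶ op (op m)) (α : Abelian.Ext (quotPow I n) M i) :
    (sysFunctor I i M).map w (sysEquiv I i M n α) =
      sysEquiv I i M m ((Abelian.Ext.mk₀ (trans I h)).comp α (zero_add i)) := by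
  have := ConcreteCategory.congr_hom
    (NatTrans.congr_app ((extIso (R := R) i).inv.naturality (trans I h).op) M) α
  exact this.symm

/-- The canonical map `Ext^i(R/I^n, M) → H^i_I(M)`. -/
noncomputable def ι (I : Ideal R) (i : ℕ) (M : ModuleCat.{u} R) (n : ℕ) :
    Abelian.Ext (quotPow I n) M i →ₗ[R] HH' I i M :=
  ((sysCocone I i M).ι.app (op (op n))).hom ∘ₗ (sysEquiv I i M n).toLinearMap

lemma exists_rep (i : ℕ) (M : ModuleCat.{u} R) (x : HH' I i M) :
    ∃ (n : ℕ) (α : Abelian.Ext (quotPow I n) M i), ι I i M n α = x := by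
  obtain ⟨j, y, hy⟩ := Concrete.isColimit_exists_rep _ (sysIsColimit I i M) x
  refine ⟨j.unop.unop, (sysEquiv I i M _).symm y, ?_⟩
  refine Eq.trans ?_ hy
  change (sysCocone I i M).ι.app j (sysEquiv I i M _ ((sysEquiv I i M _).symm y)) = _
  rw [LinearEquiv.apply_symm_apply]

lemma ι_trans (i : ℕ) (M : ModuleCat.{u} R) {n m : ℕ} (h : n ≤ m)
    (α : Abelian.Ext (quotPow I n) M i) :
    ι I i M m ((Abelian.Ext.mk₀ (trans I h)).comp α (zero_add i)) = ι I i M n α := by
  have h1 := ConcreteCategory.congr_hom ((sysCocone I i M).w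
    ((homOfLE h).op.op : (op (op n) : ℕᵒᵖᵒᵖ) ⟶ op (op m))) (sysEquiv I i M n α)
  have h2 := congrArg ((sysCocone I i M).ι.app (op (op m)))
    (sysEquiv_trans i M h ((homOfLE h).op.op) α)
  exact h2.symm.trans h1

lemma ι_eq_zero_iff (i : ℕ) (M : ModuleCat.{u} R) {n : ℕ}
    (α : Abelian.Ext (quotPow I n) M i) :
    ι I i M n α = 0 ↔
      ∃ (m : ℕ) (h : n ≤ m), (Abelian.Ext.mk₀ (trans I h)).comp α (zero_add i) = 0 := by
  constructor
  · intro h0
    have h1 : (sysCocone I i M).ι.app (op (op n)) (sysEquiv I i M n α) =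
        (sysCocone I i M).ι.app (op (op n)) 0 := h0.trans (map_zero _).symm
    obtain ⟨k, f, g, hfg⟩ := (Concrete.isColimit_rep_eq_iff_exists _ (sysIsColimit I i M) _ _).1 h1
    obtain ⟨⟨m⟩⟩ := k
    have hnm : n ≤ m := leOfHom f.unop.unop
    refine ⟨m, hnm, (sysEquiv I i M m).injective ?_⟩
    rw [← sysEquiv_trans i M hnm f, map_zero (sysEquiv I i M m)]
    exact hfg.trans (map_zero _)
  · rintro ⟨m, h, hz⟩
    rw [← ι_trans i M h, hz, map_zero]

lemma ι_naturality (i : ℕ) {M N : ModuleCat.{u} R} (g : M ⟶ N) {n : ℕ}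
    (α : Abelian.Ext (quotPow I n) M i) :
    (localCohomology I i).map g (ι I i M n α) =
      ι I i N n (α.comp (Abelian.Ext.mk₀ g) (add_zero i)) := by
  have h1 := ConcreteCategory.congr_hom
    (((extIso (R := R) i).inv.app (op (quotPow I n))).naturality g) α
  have h2 := ConcreteCategory.congr_hom
    (((colimit.cocone (localCohomology.diagram (localCohomology.idealPowersDiagram I) i)).ι.app
      (op (op n))).naturality g) (sysEquiv I i M n α)
  exact h2.symm.trans (congrArg _ h1.symm)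

/-- Descend a compatible family of linear maps to local cohomology. -/
lemma exists_desc (i : ℕ) (M : ModuleCat.{u} R) {T : Type u} [AddCommGroup T] [Module R T]
    (φ : ∀ n, Abelian.Ext (quotPow I n) M i →ₗ[R] T)
    (hφ : ∀ {n m : ℕ} (h : n ≤ m) (α : Abelian.Ext (quotPow I n) M i),
      φ m ((Abelian.Ext.mk₀ (trans I h)).comp α (zero_add i)) = φ n α) :
    ∃ Φ : HH' I i M →ₗ[R] T, ∀ n α, Φ (ι I i M n α) = φ n α := by
  let s : Cocone (sysFunctor I i M) :=
    { pt := ModuleCat.of R T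
      ι :=
        { app := fun j => ModuleCat.ofHom
            ((φ j.unop.unop) ∘ₗ (sysEquiv I i M j.unop.unop).symm.toLinearMap)
          naturality := fun j k w => by
            ext y
            obtain ⟨α, rfl⟩ := (sysEquiv I i M j.unop.unop).surjective y
            change φ k.unop.unop ((sysEquiv I i M _).symm ((sysFunctor I i M).map w _)) =
              φ j.unop.unop ((sysEquiv I i M _).symm (sysEquiv I i M _ α))
            rw [sysEquiv_trans i M (leOfHom w.unop.unop) w, LinearEquiv.symm_apply_apply,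
              LinearEquiv.symm_apply_apply]
            exact hφ _ α } }
  refine ⟨((sysIsColimit I i M).desc s).hom, fun n α => ?_⟩
  have := ConcreteCategory.congr_hom ((sysIsColimit I i M).fac s (op (op n)))
    (sysEquiv I i M n α)
  refine this.trans ?_
  change φ n ((sysEquiv I i M n).symm (sysEquiv I i M n α)) = _
  rw [LinearEquiv.symm_apply_apply]

section LES

variable {S : ShortComplex (ModuleCat.{u} R)} (hS : S.ShortExact)

lemma exists_δ (i : ℕ) :
    ∃ Φ : HH' I i S.X₃ →ₗ[R] HH' I (i + 1) S.X₁,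
      ∀ n α, Φ (ι I i S.X₃ n α) = ι I (i + 1) S.X₁ n (α.comp hS.extClass rfl) :=
  exists_desc i S.X₃
    (fun n => ι I (i + 1) S.X₁ n ∘ₗ hS.extClass.postcompOfLinear R (quotPow I n) rfl)
    (fun {n m} h α => by
      simp only [LinearMap.comp_apply, LinearMap.flip_apply,
        Abelian.Ext.bilinearCompOfLinear_apply_apply]
      rw [Abelian.Ext.comp_assoc (a₁₂ := i) (a₂₃ := i + 1) _ _ _ (zero_add i) rfl (by lia)]
      exact ι_trans (i + 1) S.X₁ h (α.comp hS.extClass rfl))

/-- The connecting homomorphism. -/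
noncomputable def δ (i : ℕ) : HH' I i S.X₃ →ₗ[R] HH' I (i + 1) S.X₁ :=
  (exists_δ hS i).choose

lemma δ_ι (i : ℕ) {n : ℕ} (α : Abelian.Ext (quotPow I n) S.X₃ i) :
    δ hS i (ι I i S.X₃ n α) = ι I (i + 1) S.X₁ n (α.comp hS.extClass rfl) :=
  (exists_δ hS i).choose_spec n α

include hS in
lemma exact₂ (i : ℕ) :
    Function.Exact ((localCohomology I i).map S.f) ((localCohomology I i).map S.g) := by
  intro x
  constructor
  · intro hx
    obtain ⟨n, α, rfl⟩ := exists_rep i S.X₂ x
    rw [ι_naturality, ι_eq_zero_iff] at hx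
    obtain ⟨m, h, hm⟩ := hx
    rw [← Abelian.Ext.comp_assoc _ _ _ (zero_add i) (add_zero i) (by lia)] at hm
    obtain ⟨β, hβ⟩ := Abelian.Ext.covariant_sequence_exact₂ _ hS _ hm
    refine ⟨ι I i S.X₁ m β, ?_⟩
    rw [ι_naturality, hβ, ι_trans]
  · rintro ⟨y, rfl⟩
    rw [← ConcreteCategory.comp_apply, ← Functor.map_comp, S.zero]
    obtain ⟨n, α, rfl⟩ := exists_rep i S.X₁ y
    rw [ι_naturality, Abelian.Ext.mk₀_zero, Abelian.Ext.comp_zero, map_zero]

lemma exact₃ (i : ℕ) : Function.Exact ((localCohomology I i).map S.g) (δ (I := I) hS i) := by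
  intro x
  constructor
  · intro hx
    obtain ⟨n, α, rfl⟩ := exists_rep i S.X₃ x
    rw [δ_ι, ι_eq_zero_iff] at hx
    obtain ⟨m, h, hm⟩ := hx
    rw [← Abelian.Ext.comp_assoc _ _ _ (zero_add i) rfl (by lia)] at hm
    obtain ⟨β, hβ⟩ := Abelian.Ext.covariant_sequence_exact₃ _ hS _ rfl hm
    refine ⟨ι I i S.X₂ m β, ?_⟩
    rw [ι_naturality, hβ, ι_trans]
  · rintro ⟨y, rfl⟩
    obtain ⟨n, α, rfl⟩ := exists_rep i S.X₂ y
    rw [ι_naturality, δ_ι, Abelian.Ext.comp_assoc_of_second_deg_zero, hS.comp_extClass,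
      Abelian.Ext.comp_zero, map_zero]

lemma exact₁ (i : ℕ) :
    Function.Exact (δ (I := I) hS i) ((localCohomology I (i + 1)).map S.f) := by
  intro x
  constructor
  · intro hx
    obtain ⟨n, α, rfl⟩ := exists_rep (i + 1) S.X₁ x
    rw [ι_naturality, ι_eq_zero_iff] at hx
    obtain ⟨m, h, hm⟩ := hx
    rw [← Abelian.Ext.comp_assoc _ _ _ (zero_add (i + 1)) (add_zero _) (by lia)] at hm
    obtain ⟨β, hβ⟩ := Abelian.Ext.covariant_sequence_exact₁ _ hS _ hm rfl
    refine ⟨ι I i S.X₃ m β, ?_⟩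
    rw [δ_ι, hβ, ι_trans]
  · rintro ⟨y, rfl⟩
    obtain ⟨n, α, rfl⟩ := exists_rep i S.X₃ y
    rw [δ_ι, ι_naturality, Abelian.Ext.comp_assoc_of_third_deg_zero, hS.extClass_comp,
      Abelian.Ext.comp_zero, map_zero]

include hS in
lemma map_f_injective_zero : Function.Injective ((localCohomology I 0).map S.f) := by
  have := hS.mono_f
  rw [injective_iff_map_eq_zero]
  intro x hx
  obtain ⟨n, α, rfl⟩ := exists_rep 0 S.X₁ x
  rw [ι_naturality, ι_eq_zero_iff] at hx
  obtain ⟨m, h, hm⟩ := hx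
  rw [← Abelian.Ext.comp_assoc _ _ _ (zero_add 0) (add_zero 0) (by lia)] at hm
  rw [← ι_trans 0 S.X₁ h]
  obtain ⟨f, hf⟩ := (Abelian.Ext.mk₀_bijective _ _).2
    ((Abelian.Ext.mk₀ (trans I h)).comp α (zero_add 0))
  rw [← hf, Abelian.Ext.mk₀_comp_mk₀, Abelian.Ext.mk₀_eq_zero_iff] at hm
  rw [← hf, Limits.zero_of_comp_mono _ hm, Abelian.Ext.mk₀_zero, map_zero]

include hS in
lemma subsingleton_X₂ (i : ℕ) (h₁ : Subsingleton (HH' I i S.X₁))
    (h₃ : Subsingleton (HH' I i S.X₃)) : Subsingleton (HH' I i S.X₂) := by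
  refine subsingleton_of_forall_eq 0 fun x => ?_
  obtain ⟨y, rfl⟩ := (exact₂ hS i x).1 (Subsingleton.elim _ _)
  rw [Subsingleton.elim y 0, map_zero]

include hS in
lemma subsingleton_X₃ (i : ℕ) (h₂ : Subsingleton (HH' I i S.X₂))
    (h₁ : Subsingleton (HH' I (i + 1) S.X₁)) : Subsingleton (HH' I i S.X₃) := by
  refine subsingleton_of_forall_eq 0 fun x => ?_
  obtain ⟨y, rfl⟩ := (exact₃ hS i x).1 (Subsingleton.elim _ _)
  rw [Subsingleton.elim y 0, map_zero]

include hS in
lemma subsingleton_X₁ (i : ℕ) (h₃ : Subsingleton (HH' I i S.X₃))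
    (h₂ : Subsingleton (HH' I (i + 1) S.X₂)) : Subsingleton (HH' I (i + 1) S.X₁) := by
  refine subsingleton_of_forall_eq 0 fun x => ?_
  obtain ⟨y, rfl⟩ := (exact₁ hS i x).1 (Subsingleton.elim _ _)
  rw [Subsingleton.elim y 0, map_zero]

include hS in
lemma subsingleton_X₁_zero (h₂ : Subsingleton (HH' I 0 S.X₂)) :
    Subsingleton (HH' I 0 S.X₁) :=
  (map_f_injective_zero hS).subsingleton

end LES

lemma subsingleton_succ_of_injective (i : ℕ) (M : ModuleCat.{u} R) [Injective M] :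
    Subsingleton (HH' I (i + 1) M) := by
  refine subsingleton_of_forall_eq 0 fun x => ?_
  obtain ⟨n, α, rfl⟩ := exists_rep (i + 1) M x
  rw [α.eq_zero_of_injective, map_zero]

lemma pow_smul_ι (i : ℕ) (M : ModuleCat.{u} R) {n : ℕ} (α : Abelian.Ext (quotPow I n) M i)
    (r : R) (hr : r ∈ I ^ n) : r • ι I i M n α = 0 := by
  have h : r • 𝟙 (quotPow I n) = 0 := by
    ext1
    refine LinearMap.ext fun x => ?_
    obtain ⟨y, rfl⟩ := Submodule.Quotient.mk_surjective _ x
    change r • (Submodule.Quotient.mk y : R ⧸ I ^ n) = 0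
    rw [← Submodule.Quotient.mk_smul, Submodule.Quotient.mk_eq_zero]
    exact Ideal.mul_mem_right _ _ hr
  rw [← map_smul]
  have : r • α = (Abelian.Ext.mk₀ (r • 𝟙 (quotPow I n))).comp α (zero_add i) := by
    simp [Abelian.Ext.mk₀_smul]
  rw [this, h, Abelian.Ext.mk₀_zero, Abelian.Ext.zero_comp, map_zero]

lemma exists_pow_smul_eq_zero (i : ℕ) (M : ModuleCat.{u} R) (x : HH' I i M) :
    ∃ n : ℕ, ∀ r ∈ I ^ n, r • x = 0 := by
  obtain ⟨n, α, rfl⟩ := exists_rep i M x
  exact ⟨n, pow_smul_ι i M α⟩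

lemma smul_eq_map (i : ℕ) (M : ModuleCat.{u} R) (r : R) (x : HH' I i M) :
    r • x = (localCohomology I i).map (r • 𝟙 M) x := by
  obtain ⟨n, α, rfl⟩ := exists_rep i M x
  rw [ι_naturality, ← map_smul, Abelian.Ext.smul_eq_comp_mk₀]

end Groth.LocCohBase
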