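import Groth.Agent.LocCohBase.CdLocal
import Groth.Agent.LocCohBase.CM
import Groth.Agent.Matlis.Duality
import Mathlib.RingTheory.Ideal.AssociatedPrime.Finiteness
import Mathlib.RingTheory.HopkinsLevitzki

/-!
Artinianness and Grothendieck's non-vanishing for local cohomology at the maximal ideal.
-/

set_option autoImplicit false

universe u

open CategoryTheory IsLocalRing Pointwise

namespace Groth.LocCohBase

variable {R : Type u} [CommRing R] [IsNoetherianRing R]

/-- Vanishing above the dimension of the support. -/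
theorem subsingleton_H_of_supportDim_lt (I : Ideal R) (M : Type u) [AddCommGroup M] [Module R M]
    [Module.Finite R M] {i : ℕ} (h : Module.supportDim R M < i) :
    Subsingleton (LocCoh.H I i M) := by
  by_cases hM : Subsingleton M
  · refine subsingleton_of_forall_eq 0 fun x => ?_
    have h1 : (𝟙 (ModuleCat.of R M)) = 0 := by
      ext m
      exact Subsingleton.elim _ _
    rw [← Groth.LocCohTransform.map_id' I i (ModuleCat.of R M) x, h1,
      Groth.LocCohTransform.map_zero']
  rw [not_subsingleton_iff_nontrivial] at hM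
  let : Module (R ⧸ Module.annihilator R M) M :=
    Module.IsTorsionBySet.module (fun m a => Module.mem_annihilator.1 a.2 m)
  have : IsScalarTower R (R ⧸ Module.annihilator R M) M :=
    Module.IsTorsionBySet.isScalarTower _
  obtain ⟨φ, -⟩ := Groth.LocCohTransform.exists_restrict_addEquiv
    (R' := R ⧸ Module.annihilator R M) I M i
  rw [Module.supportDim_eq_ringKrullDim_quotient_annihilator] at h
  obtain ⟨j, rfl⟩ : ∃ j, i = j + 1 := by
    refine ⟨i - 1, ?_⟩
    rcases i with _ | i
    · have : Nontrivial (R ⧸ Module.annihilator R M) := by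
        rw [Ideal.Quotient.nontrivial_iff]
        intro h1
        exact not_subsingleton M (Module.annihilator_eq_top_iff.1 h1)
      exact absurd h (not_lt.2 ringKrullDim_nonneg_of_nontrivial)
    · rfl
  have hle : ringKrullDim (R ⧸ Module.annihilator R M) ≤ (j : WithBot ℕ∞) := by
    revert h
    cases ringKrullDim (R ⧸ Module.annihilator R M) with
    | bot => exact fun _ => bot_le
    | coe d =>
      intro h
      have h' : d < ((j + 1 : ℕ) : ℕ∞) := WithBot.coe_lt_coe.1 h
      exact WithBot.coe_le_coe.2 (Order.le_of_lt_add_one (by simpa using h'))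
  have := cdLE_of_dim_le (I.map (algebraMap R (R ⧸ Module.annihilator R M))) j hle M (j + 1)
    (Nat.lt_succ_self j)
  exact φ.toEquiv.symm.subsingleton

variable [IsLocalRing R]

omit [IsNoetherianRing R] [IsLocalRing R] in
/-- Local cohomology at the maximal ideal consists of torsion elements. -/
theorem isPowerTorsion_H (I : Ideal R) (i : ℕ) (M : ModuleCat.{u} R) :
    LocCoh.IsPowerTorsion I (HH' I i M) := fun x => exists_pow_smul_eq_zero i M x

theorem isArtinian_of_exact {A B C : Type u} [AddCommGroup A] [Module R A] [AddCommGroup B]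
    [Module R B] [AddCommGroup C] [Module R C] (f : A →ₗ[R] B) (g : B →ₗ[R] C)
    (h : Function.Exact f g) [IsArtinian R A] [IsArtinian R C] : IsArtinian R B := by
  have h1 : IsArtinian R (LinearMap.range f) :=
    isArtinian_of_surjective _ f.rangeRestrict f.surjective_rangeRestrict
  have h2 : IsArtinian R (B ⧸ LinearMap.range f) := by
    refine isArtinian_of_injective ((LinearMap.range f).liftQ g ?_) ?_
    · exact fun x hx => (h x).2 hx
    · rw [← LinearMap.ker_eq_bot]
      exact Submodule.ker_liftQ_eq_bot _ _ _ fun x hx => (h x).1 hx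
  exact isArtinian_of_range_eq_ker (LinearMap.range f).subtype (LinearMap.range f).mkQ (by simp)

theorem isArtinianRing_quotient_pow (n : ℕ) : IsArtinianRing (R ⧸ maximalIdeal R ^ n) := by
  have : IsArtinian R (R ⧸ maximalIdeal R ^ n) :=
    (isFiniteLength_iff_isNoetherian_isArtinian.1 (GrothMatlis.isFiniteLength_quotient_pow n)).2
  exact isArtinian_of_tower R this

theorem isArtinian_residue_torsion {M : Type u} [AddCommGroup M] [Module R M] [Module.Finite R M]
    (h : LocCoh.IsPowerTorsion (maximalIdeal R) M) : IsArtinian R M := by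
  obtain ⟨s, hs⟩ := (Module.Finite.fg_top : (⊤ : Submodule R M).FG)
  classical
  choose n hn using fun m : M => h m
  have hker : ∀ m : M, ∀ a ∈ maximalIdeal R ^ (∑ x ∈ s, n x), a • m = 0 := by
    intro m a ha
    have hm : m ∈ Submodule.span R (s : Set M) := hs ▸ Submodule.mem_top
    induction hm using Submodule.span_induction with
    | mem x hx =>
      exact hn x a (Ideal.pow_le_pow_right (Finset.single_le_sum (fun y _ => Nat.zero_le (n y)) hx) ha)
    | zero => exact smul_zero a
    | add x y _ _ hx hy => rw [smul_add, hx, hy, add_zero]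
    | smul r x _ hx => rw [smul_comm, hx, smul_zero]
  set N := ∑ x ∈ s, n x
  let : Module (R ⧸ maximalIdeal R ^ N) M :=
    Module.IsTorsionBySet.module (fun m a => hker m a a.2)
  have : IsScalarTower R (R ⧸ maximalIdeal R ^ N) M := Module.IsTorsionBySet.isScalarTower _
  have := isArtinianRing_quotient_pow (R := R) N
  have : Module.Finite (R ⧸ maximalIdeal R ^ N) M := Module.Finite.of_restrictScalars_finite R _ M
  exact isArtinian_of_surjective_algebraMap (M := M) (R := R ⧸ maximalIdeal R ^ N) (S := R)
    Ideal.Quotient.mk_surjective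

theorem finite_of_artinian_of_killed {M : Type u} [AddCommGroup M] [Module R M] [IsArtinian R M]
    (N : ℕ) (h : ∀ m : M, ∀ a ∈ maximalIdeal R ^ N, a • m = 0) : Module.Finite R M := by
  let : Module (R ⧸ maximalIdeal R ^ N) M :=
    Module.IsTorsionBySet.module (fun m a => h m a a.2)
  have : IsScalarTower R (R ⧸ maximalIdeal R ^ N) M := Module.IsTorsionBySet.isScalarTower _
  have := isArtinianRing_quotient_pow (R := R) N
  have : IsArtinian (R ⧸ maximalIdeal R ^ N) M := isArtinian_of_tower R inferInstance
  have : IsNoetherian (R ⧸ maximalIdeal R ^ N) M :=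
    IsSemiprimaryRing.isNoetherian_iff_isArtinian.2 this
  exact Module.Finite.trans (R ⧸ maximalIdeal R ^ N) M

theorem isArtinian_H (M : Type u) [AddCommGroup M] [Module R M] [Module.Finite R M] (i : ℕ) :
    IsArtinian R (LocCoh.H (maximalIdeal R) i M) := by
  suffices H : ∀ (J : Ideal R) (i : ℕ) (M : Type u) [AddCommGroup M] [Module R M],
      Module.Finite R M → J ≤ Module.annihilator R M →
      IsArtinian R (LocCoh.H (maximalIdeal R) i M) from H ⊥ i M inferInstance bot_le
  intro J
  induction J using WellFoundedGT.induction with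
  | _ J ih =>
  intro i M _ _ hfin
  induction i using Nat.strong_induction_on generalizing M with
  | _ i ihi =>
  refine IsNoetherianRing.induction_on_isQuotientEquivQuotientPrime R hfin
    (motive := fun N _ _ _ => J ≤ Module.annihilator R N →
      IsArtinian R (LocCoh.H (maximalIdeal R) i N)) ?_ ?_ ?_
  · intro N _ _ _ _ _
    have : Module.supportDim R N < (i : WithBot ℕ∞) := by
      rw [(Module.supportDim_eq_bot_iff_subsingleton R N).2 ‹_›]
      exact WithBot.bot_lt_coe _
    have := subsingleton_H_of_supportDim_lt (maximalIdeal R) N this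
    infer_instance
  · intro N _ _ _ p e hJ
    have hJp : J ≤ p.asIdeal := by
      rw [e.annihilator_eq, Ideal.annihilator_quotient] at hJ
      exact hJ
    rcases hJp.lt_or_eq with hlt | heq
    · exact ih _ hlt i N inferInstance (by rw [e.annihilator_eq, Ideal.annihilator_quotient])
    by_cases hm : maximalIdeal R ≤ p.asIdeal
    · -- the residue field
      have htor : LocCoh.IsPowerTorsion (maximalIdeal R) N := fun x => ⟨1, fun a ha => by
        rw [pow_one] at ha
        have h2 : a ∈ Module.annihilator R N := by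
          rw [e.annihilator_eq, Ideal.annihilator_quotient]
          exact hm ha
        exact Module.mem_annihilator.1 h2 x⟩
      rcases i with _ | j
      · have := isArtinian_residue_torsion htor
        exact isArtinian_of_injective
          ((DRing.torsionSub _ N).subtype ∘ₗ (h0Equiv (maximalIdeal R) N).toLinearMap)
          ((Submodule.injective_subtype _).comp (h0Equiv (maximalIdeal R) N).injective)
      · have := subsingleton_succ_of_isPowerTorsion (maximalIdeal R) j N htor
        infer_instance
    · obtain ⟨x, hxm, hxp⟩ := SetLike.not_le_iff_exists.1 hm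
      have hreg : Function.Injective (LinearMap.lsmul R N x) := by
        rw [injective_iff_map_eq_zero]
        intro y hy
        obtain ⟨z, hz⟩ := Submodule.Quotient.mk_surjective _ (e y)
        have h1 : x • e y = 0 := by
          rw [← map_smul, show x • y = 0 from hy, map_zero]
        rw [← hz, ← Submodule.Quotient.mk_smul, Submodule.Quotient.mk_eq_zero, smul_eq_mul] at h1
        apply e.injective
        rw [map_zero, ← hz, Submodule.Quotient.mk_eq_zero]
        exact ((p.2.mem_or_mem h1).resolve_left hxp)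
      have hS := subSeq_shortExact (LinearMap.range (LinearMap.lsmul R N x))
      let eN := LinearEquiv.ofInjective _ hreg
      let EN : ∀ j, LocCoh.H (maximalIdeal R) j N ≃ₗ[R]
          LocCoh.H (maximalIdeal R) j (LinearMap.range (LinearMap.lsmul R N x)) := fun j =>
        ((localCohomology (maximalIdeal R) j).mapIso eN.toModuleIso).toLinearEquiv
      -- multiplication by `x`
      have hmap : ∀ (j : ℕ) (y : LocCoh.H (maximalIdeal R) j N),
          (localCohomology (maximalIdeal R) j).map
            (subSeq (LinearMap.range (LinearMap.lsmul R N x))).f (EN j y) = x • y := by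
        intro j y
        refine Eq.trans ?_ (smul_eq_map j (ModuleCat.of R N) x y).symm
        refine (Groth.LocCohTransform.map_comp' (maximalIdeal R) j eN.toModuleIso.hom
          (subSeq (LinearMap.range (LinearMap.lsmul R N x))).f y).symm.trans ?_
        rfl
      have hsocle : IsArtinian R (LocCoh.torsionBy (maximalIdeal R) (LocCoh.H (maximalIdeal R) i N)) := by
        rcases i with _ | j
        · have h1 : Subsingleton (LocCoh.H (maximalIdeal R) 0 N) := by
            rw [subsingleton_H_zero_iff, Submodule.eq_bot_iff]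
            rintro y ⟨k, hk⟩
            have h2 : ∀ (k : ℕ) (y : N), x ^ k • y = 0 → y = 0 := by
              intro k
              induction k with
              | zero => intro y hy; rwa [pow_zero, one_smul] at hy
              | succ k ihk =>
                intro y hy
                refine ihk y (hreg ?_)
                rw [map_zero]
                show x • x ^ k • y = 0
                rw [← mul_smul, ← pow_succ']
                exact hy
            exact h2 k y (hk _ (Ideal.pow_mem_pow hxm k))
          infer_instance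
        · have hQ : IsArtinian R (LocCoh.H (maximalIdeal R) j
              (N ⧸ LinearMap.range (LinearMap.lsmul R N x))) := by
            refine ih (J ⊔ Ideal.span {x}) (lt_of_le_of_ne le_sup_left fun h => hxp ?_) j _
              inferInstance ?_
            · rw [← heq, h]
              exact Ideal.mem_sup_right (Ideal.mem_span_singleton_self x)
            · refine sup_le (hJ.trans fun a ha => Module.mem_annihilator.2 fun y => ?_)
                ((Ideal.span_singleton_le_iff_mem _).2 (Module.mem_annihilator.2 fun y => ?_))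
              all_goals obtain ⟨y, rfl⟩ := Submodule.Quotient.mk_surjective _ y
              · rw [← Submodule.Quotient.mk_smul, Module.mem_annihilator.1 ha, Submodule.Quotient.mk_zero]
              · rw [← Submodule.Quotient.mk_smul, Submodule.Quotient.mk_eq_zero]
                exact ⟨y, rfl⟩
          let D : LocCoh.H (maximalIdeal R) j (N ⧸ LinearMap.range (LinearMap.lsmul R N x)) →ₗ[R]
              LocCoh.H (maximalIdeal R) (j + 1) N :=
            (EN (j + 1)).symm.toLinearMap ∘ₗ δ (I := maximalIdeal R) hS j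
          have : IsArtinian R (LinearMap.range D) :=
            isArtinian_of_surjective _ D.rangeRestrict D.surjective_rangeRestrict
          refine isArtinian_of_le (t := LinearMap.range D) fun y hy => ?_
          have h1 : x • y = 0 :=
            (Submodule.mem_torsionBySet_iff _ _).1 hy ⟨x, hxm⟩
          rw [← hmap] at h1
          obtain ⟨w, hw⟩ := (exact₁ (I := maximalIdeal R) hS j _).1 h1
          exact ⟨w, (EN (j + 1)).injective (by
            rw [show EN (j + 1) (D w) = δ (I := maximalIdeal R) hS j w from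
              (EN (j + 1)).apply_symm_apply _]
            exact hw)⟩
      have : Module.Finite (R ⧸ maximalIdeal R)
          ↥(LocCoh.torsionBy (maximalIdeal R) (LocCoh.H (maximalIdeal R) i N)) := by
        letI : Field (R ⧸ maximalIdeal R) := Ideal.Quotient.field (maximalIdeal R)
        haveI : IsArtinian (R ⧸ maximalIdeal R)
            ↥(LocCoh.torsionBy (maximalIdeal R) (LocCoh.H (maximalIdeal R) i N)) :=
          isArtinian_of_tower R hsocle
        exact ((IsSemisimpleModule.finite_tfae (R := R ⧸ maximalIdeal R)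
          (M := ↥(LocCoh.torsionBy (maximalIdeal R) (LocCoh.H (maximalIdeal R) i N)))).out 2 0).1 this
      obtain ⟨E, _, _, f, hf⟩ := GrothMatlis.exists_hull R (ResidueField R)
      exact GrothMatlis.isArtinian_of_socle hf _ (isPowerTorsion_H _ i (ModuleCat.of R N))
  · intro N₁ _ _ _ N₂ _ _ _ N₃ _ _ _ f g hf hg hfg h₁ h₃ hJ
    have hA₁ := h₁ (hJ.trans fun a ha => Module.mem_annihilator.2 fun y => hf (by
      rw [map_smul, Module.mem_annihilator.1 ha, map_zero]))
    have hA₃ := h₃ (hJ.trans fun a ha => Module.mem_annihilator.2 fun y => by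
      obtain ⟨z, rfl⟩ := hg y
      rw [← map_smul, Module.mem_annihilator.1 ha, map_zero])
    let S := ShortComplex.mk (ModuleCat.ofHom f) (ModuleCat.ofHom g)
      (by ext y; exact (hfg _).2 ⟨y, rfl⟩)
    have hS : S.ShortExact :=
      { exact := (ShortComplex.moduleCat_exact_iff _).2 fun y hy => (hfg y).1 hy
        mono_f := (ModuleCat.mono_iff_injective _).2 hf
        epi_g := (ModuleCat.epi_iff_surjective _).2 hg }
    have : IsArtinian R (HH' (maximalIdeal R) i S.X₁) := hA₁
    have : IsArtinian R (HH' (maximalIdeal R) i S.X₃) := hA₃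
    exact isArtinian_of_exact ((localCohomology (maximalIdeal R) i).map S.f).hom
      ((localCohomology (maximalIdeal R) i).map S.g).hom (exact₂ (I := maximalIdeal R) hS i)

/-- An Artinian module is, outside finitely many non-maximal primes, divisible up to a part killed
by a power of the maximal ideal. -/
theorem exists_avoid {H : Type u} [AddCommGroup H] [Module R H] [IsArtinian R H]
    (N : Submodule R H) :
    ∃ (S : Finset (Ideal R)) (N₁ N₂ : Submodule R H) (j : ℕ),
      (∀ p ∈ S, p.IsPrime ∧ p ≠ maximalIdeal R) ∧ N₁ ⊔ N₂ = N ∧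
      (∀ y ∈ N₂, ∀ a ∈ maximalIdeal R ^ j, a • y = 0) ∧
      ∀ x : R, (∀ p ∈ S, x ∉ p) → ∀ y ∈ N₁, ∃ z ∈ N₁, x • z = y := by
  classical
  induction N using WellFoundedLT.induction with
  | _ N ih =>
  by_cases hsplit : ∃ A B : Submodule R H, A < N ∧ B < N ∧ A ⊔ B = N
  · obtain ⟨A, B, hA, hB, rfl⟩ := hsplit
    obtain ⟨S, A₁, A₂, a, hS, hAe, hA₂, hA₁⟩ := ih A hA
    obtain ⟨T, B₁, B₂, b, hT, hBe, hB₂, hB₁⟩ := ih B hB
    refine ⟨S ∪ T, A₁ ⊔ B₁, A₂ ⊔ B₂, a + b, fun p hp => ?_, ?_, ?_, ?_⟩
    · rcases Finset.mem_union.1 hp with h | h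
      exacts [hS p h, hT p h]
    · rw [sup_sup_sup_comm, hAe, hBe]
    · intro y hy r hr
      obtain ⟨u, hu, v, hv, rfl⟩ := Submodule.mem_sup.1 hy
      rw [smul_add, hA₂ u hu r (Ideal.pow_le_pow_right (Nat.le_add_right a b) hr),
        hB₂ v hv r (Ideal.pow_le_pow_right (Nat.le_add_left b a) hr), add_zero]
    · intro x hx y hy
      obtain ⟨u, hu, v, hv, rfl⟩ := Submodule.mem_sup.1 hy
      obtain ⟨u', hu', rfl⟩ := hA₁ x (fun p hp => hx p (Finset.mem_union_left _ hp)) u hu
      obtain ⟨v', hv', rfl⟩ := hB₁ x (fun p hp => hx p (Finset.mem_union_right _ hp)) v hv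
      exact ⟨u' + v', Submodule.add_mem_sup hu' hv', smul_add x u' v'⟩
  · push Not at hsplit
    -- every element is surjective or nilpotent on `N`
    let nil : Ideal R :=
      { carrier := {x | ∃ k : ℕ, ∀ y ∈ N, x ^ k • y = 0}
        zero_mem' := ⟨1, fun y _ => by rw [pow_one, zero_smul]⟩
        add_mem' := by
          rintro a b ⟨k, hk⟩ ⟨l, hl⟩
          refine ⟨k + l, fun y hy => ?_⟩
          rw [add_pow, Finset.sum_smul]
          refine Finset.sum_eq_zero fun m _ => ?_
          rcases le_or_gt k m with h | h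
          · obtain ⟨c, rfl⟩ := Nat.le.dest h
            rw [pow_add, show a ^ k * a ^ c * b ^ (k + l - (k + c)) * (((k + l).choose (k + c) : ℕ) : R)
              = (a ^ c * b ^ (k + l - (k + c)) * (((k + l).choose (k + c) : ℕ) : R)) * a ^ k by ring,
              mul_smul, hk y hy, smul_zero]
          · obtain ⟨c, hc⟩ := Nat.le.dest (show l ≤ k + l - m by omega)
            rw [← hc, pow_add, show a ^ m * (b ^ l * b ^ c) * (((k + l).choose m : ℕ) : R)
              = (a ^ m * b ^ c * (((k + l).choose m : ℕ) : R)) * b ^ l by ring,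
              mul_smul, hl y hy, smul_zero]
        smul_mem' := by
          rintro c a ⟨k, hk⟩
          exact ⟨k, fun y hy => by rw [smul_eq_mul, mul_pow, mul_smul, hk y hy, smul_zero]⟩ }
    have hsurj : ∀ x : R, x ∉ nil → ∀ y ∈ N, ∃ z ∈ N, x • z = y := by
      intro x hx
      obtain ⟨k, hk⟩ := IsArtinian.monotone_stabilizes
        ⟨fun k => OrderDual.toDual (x ^ k • N), fun a b hab => by
          intro y hy
          obtain ⟨c, rfl⟩ := Nat.le.dest hab
          obtain ⟨z, hz, rfl⟩ := (Submodule.mem_smul_pointwise_iff_exists _ _ _).1 hy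
          exact (Submodule.mem_smul_pointwise_iff_exists _ _ _).2
            ⟨x ^ c • z, N.smul_mem _ hz, by rw [← mul_smul, pow_add]⟩⟩
      let K : Submodule R H := N ⊓ LinearMap.ker (LinearMap.lsmul R H (x ^ k))
      have hK : K ⊔ x ^ (k + 1) • N = N := by
        refine le_antisymm (sup_le inf_le_left ?_) fun y hy => ?_
        · intro y hy
          obtain ⟨z, hz, rfl⟩ := (Submodule.mem_smul_pointwise_iff_exists _ _ _).1 hy
          exact N.smul_mem _ hz
        · have h2 : x ^ k • N = x ^ (k + (k + 1)) • N := hk (k + (k + 1)) (Nat.le_add_right k _)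
          obtain ⟨z, hz, he⟩ := (Submodule.mem_smul_pointwise_iff_exists _ _ _).1
            (h2 ▸ Submodule.smul_mem_pointwise_smul y (x ^ k) N hy)
          refine Submodule.mem_sup.2 ⟨y - x ^ (k + 1) • z, ⟨N.sub_mem hy (N.smul_mem _ hz), ?_⟩,
            x ^ (k + 1) • z, Submodule.smul_mem_pointwise_smul z _ N hz, sub_add_cancel _ _⟩
          show x ^ k • (y - x ^ (k + 1) • z) = 0
          rw [smul_sub, ← mul_smul, ← pow_add, ← he, sub_self]
      intro y hy
      by_contra hne
      have hlt : x ^ (k + 1) • N < N := by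
        refine lt_of_le_of_ne (le_sup_right.trans hK.le) fun h => hne ?_
        obtain ⟨z, hz, rfl⟩ := (Submodule.mem_smul_pointwise_iff_exists _ _ _).1 (h.symm ▸ hy)
        exact ⟨x ^ k • z, N.smul_mem _ hz, by rw [← mul_smul, pow_succ']⟩
      have hKN : K = N := by
        by_contra hKne
        exact hsplit K _ (lt_of_le_of_ne inf_le_left hKne) hlt hK
      exact hx ⟨k, fun z hz => (hKN.symm ▸ hz : z ∈ K).2⟩
    by_cases hnil : maximalIdeal R ≤ nil
    · have : maximalIdeal R ≤ ((⊤ : Ideal R) ⊓ (N.annihilator)).radical := fun a ha => by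
        obtain ⟨k, hk⟩ := hnil ha
        exact ⟨k, trivial, Submodule.mem_annihilator.2 hk⟩
      obtain ⟨j, hj⟩ := Ideal.exists_pow_le_of_le_radical_of_fg this (IsNoetherian.noetherian _)
      exact ⟨∅, ⊥, N, j, by simp, bot_sup_eq N,
        fun y hy a ha => Submodule.mem_annihilator.1 (hj ha).2 y hy,
        fun x _ y hy => ⟨0, zero_mem _, by rw [smul_zero, (Submodule.mem_bot R).1 hy]⟩⟩
    · by_cases hN : N = ⊥
      · subst hN
        exact ⟨∅, ⊥, ⊥, 0, by simp, bot_sup_eq _,
          fun y hy a _ => by rw [(Submodule.mem_bot R).1 hy, smul_zero],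
          fun x _ y hy => ⟨0, zero_mem _, by rw [smul_zero, (Submodule.mem_bot R).1 hy]⟩⟩
      have hprime : nil.IsPrime := by
        refine ⟨fun h => hN ?_, fun {a b} hab => ?_⟩
        · obtain ⟨k, hk⟩ := (Ideal.eq_top_iff_one _).1 h
          exact (Submodule.eq_bot_iff _).2 fun y hy => by simpa using hk y hy
        · by_contra hcon
          push Not at hcon
          obtain ⟨k, hk⟩ := hab
          apply hN
          rw [Submodule.eq_bot_iff]
          intro y hy
          have hs : ∀ m : ℕ, ∀ y ∈ N, ∃ z ∈ N, (a * b) ^ m • z = y := by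
            intro m
            induction m with
            | zero => exact fun y hy => ⟨y, hy, by rw [pow_zero, one_smul]⟩
            | succ m ihm =>
              intro y hy
              obtain ⟨z₁, hz₁, rfl⟩ := ihm y hy
              obtain ⟨z₂, hz₂, rfl⟩ := hsurj a hcon.1 z₁ hz₁
              obtain ⟨z₃, hz₃, rfl⟩ := hsurj b hcon.2 z₂ hz₂
              exact ⟨z₃, hz₃, by simp only [← mul_smul]; congr 1; ring⟩
          obtain ⟨z, hz, rfl⟩ := hs k y hy
          exact hk z hz
      exact ⟨{nil}, N, ⊥, 0, fun p hp => by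
          rw [Finset.mem_singleton.1 hp]
          exact ⟨hprime, fun h => hnil h.ge⟩, sup_bot_eq N,
        fun y hy a _ => by rw [(Submodule.mem_bot R).1 hy, smul_zero],
        fun x hx => hsurj x (hx nil (Finset.mem_singleton_self _))⟩

omit [IsNoetherianRing R] in
theorem mk_mul_ne_zero_of_pow (p : Ideal R) [p.IsPrime] {x : R} (hxp : x ∉ p)
    (hxm : x ∈ maximalIdeal R) (k : ℕ) : x ^ k ∉ p ⊔ Ideal.span {x ^ (k + 1)} := by
  intro h
  obtain ⟨a, ha, b, hb, hab⟩ := Submodule.mem_sup.1 h
  obtain ⟨c, rfl⟩ := Ideal.mem_span_singleton.1 hb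
  have h1 : x ^ k * (1 - x * c) ∈ p := by
    have : x ^ k * (1 - x * c) = a := by linear_combination -hab
    rw [this]
    exact ha
  have h2 : IsUnit (1 - x * c) :=
    (IsLocalRing.isUnit_or_isUnit_one_sub_self (x * c)).resolve_left fun hu =>
      (IsLocalRing.notMem_maximalIdeal.2 (isUnit_of_mul_isUnit_left hu)) hxm
  exact hxp (Ideal.IsPrime.mem_of_pow_mem inferInstance k ((p.mul_unit_mem_iff_mem h2).1 h1))

omit [IsNoetherianRing R] [IsLocalRing R] in
/-- A finite module maps nontrivially to `R/p` for minimal `p` in its support. -/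
theorem exists_map_quotient (M : Type u) [AddCommGroup M] [Module R M] [Module.Finite R M]
    (p : PrimeSpectrum R) (hp : p ∈ Module.support R M) :
    ∃ φ : M →ₗ[R] R ⧸ p.asIdeal, φ ≠ 0 := by
  classical
  have : Nontrivial (LocalizedModule p.asIdeal.primeCompl M) := Module.mem_support_iff.1 hp
  set Rp := Localization.AtPrime p.asIdeal
  set κ := Rp ⧸ maximalIdeal Rp
  set Mp := LocalizedModule p.asIdeal.primeCompl M
  have hne : (maximalIdeal Rp • ⊤ : Submodule Rp Mp) ≠ ⊤ :=
    fun h => Submodule.top_ne_ideal_smul_of_le_jacobson_annihilator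
      (maximalIdeal_le_jacobson _) h.symm
  have : Nontrivial (Mp ⧸ (maximalIdeal Rp • ⊤ : Submodule Rp Mp)) :=
    Submodule.Quotient.nontrivial_iff.2 hne
  letI : Field κ := Ideal.Quotient.field _
  obtain ⟨v, hv⟩ := exists_ne (0 : Mp ⧸ (maximalIdeal Rp • ⊤ : Submodule Rp Mp))
  obtain ⟨f, hf⟩ := Module.Projective.exists_dual_ne_zero κ hv
  let ψ : M →ₗ[R] κ := ((f.restrictScalars Rp).restrictScalars R) ∘ₗ
    ((maximalIdeal Rp • ⊤ : Submodule Rp Mp).mkQ.restrictScalars R) ∘ₗ
      LocalizedModule.mkLinearMap p.asIdeal.primeCompl M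
  let θ : (R ⧸ p.asIdeal) →ₗ[R] κ := Submodule.liftQ _ (Algebra.linearMap R κ) (fun a ha => by
    rw [LinearMap.mem_ker, Algebra.linearMap_apply, IsScalarTower.algebraMap_apply R Rp κ]
    exact Ideal.Quotient.eq_zero_iff_mem.2
      ((IsLocalization.AtPrime.to_map_mem_maximal_iff Rp p.asIdeal a).2 ha))
  have hθ : Function.Injective θ := by
    rw [← LinearMap.ker_eq_bot]
    refine Submodule.ker_liftQ_eq_bot _ _ _ fun a ha => ?_
    rw [LinearMap.mem_ker, Algebra.linearMap_apply, IsScalarTower.algebraMap_apply R Rp κ] at ha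
    exact (IsLocalization.AtPrime.to_map_mem_maximal_iff Rp p.asIdeal a).1
      (Ideal.Quotient.eq_zero_iff_mem.1 ha)
  have hκ : ∀ z : κ, ∃ s : p.asIdeal.primeCompl, (s : R) • z ∈ LinearMap.range θ := by
    intro z
    obtain ⟨z, rfl⟩ := Ideal.Quotient.mk_surjective z
    obtain ⟨⟨a, s⟩, rfl⟩ := IsLocalization.mk'_surjective p.asIdeal.primeCompl z
    refine ⟨s, Submodule.Quotient.mk a, ?_⟩
    show algebraMap R κ a = (s : R) • Ideal.Quotient.mk (maximalIdeal Rp)
      (IsLocalization.mk' Rp a s)
    rw [IsScalarTower.algebraMap_apply R Rp κ, Algebra.smul_def, IsScalarTower.algebraMap_apply R Rp κ]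
    exact ((map_mul _ _ _).symm.trans (congrArg _ (IsLocalization.mk'_spec' Rp a s))).symm
  obtain ⟨t, ht⟩ := (Module.Finite.fg_top : (⊤ : Submodule R M).FG)
  choose s hs using fun m : M => hκ (ψ m)
  set S : R := ∏ m ∈ t, (s m : R)
  have hSp : S ∉ p.asIdeal := fun h => by
    obtain ⟨m, -, hm⟩ := Ideal.IsPrime.prod_mem_iff.1 h
    exact (s m).2 hm
  have hmem : ∀ m : M, S • ψ m ∈ LinearMap.range θ := by
    intro m
    have hm : m ∈ Submodule.span R (t : Set M) := ht ▸ Submodule.mem_top
    induction hm using Submodule.span_induction with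
    | mem x hx =>
      obtain ⟨c, hc⟩ := Finset.dvd_prod_of_mem (fun m => (s m : R)) hx
      rw [show S = c * (s x : R) by rw [mul_comm]; exact hc, mul_smul]
      exact Submodule.smul_mem _ c (hs x)
    | zero => simp
    | add x y _ _ hx hy => rw [map_add, smul_add]; exact add_mem hx hy
    | smul r x _ hx => rw [map_smul, smul_comm]; exact Submodule.smul_mem _ r hx
  let φ : M →ₗ[R] R ⧸ p.asIdeal := (LinearEquiv.ofInjective θ hθ).symm.toLinearMap ∘ₗ
    (S • ψ).codRestrict _ hmem
  refine ⟨φ, fun h => ?_⟩
  obtain ⟨w, rfl⟩ := Submodule.Quotient.mk_surjective _ v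
  induction w using LocalizedModule.induction_on with
  | h m c =>
    have h1 : S • ψ m = 0 := by
      have h2 := (LinearEquiv.ofInjective θ hθ).symm.injective
        ((LinearMap.congr_fun h m).trans (map_zero _).symm)
      exact congrArg Subtype.val h2
    have hu : IsUnit (algebraMap R Rp (S * c)) :=
      IsLocalization.map_units Rp (⟨S * c, p.asIdeal.primeCompl.mul_mem hSp c.2⟩ : p.asIdeal.primeCompl)
    apply hf
    have h3 : (algebraMap R Rp (S * c)) • f (Submodule.Quotient.mk (LocalizedModule.mk m c)) = 0 := by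
      rw [algebraMap_smul, mul_smul]
      have h4 : (c : R) • f (Submodule.Quotient.mk (LocalizedModule.mk m c)) = ψ m := by
        change (c : R) • f _ = f (Submodule.Quotient.mk (LocalizedModule.mk m 1))
        rw [← LinearMap.map_smul_of_tower, ← Submodule.Quotient.mk_smul, LocalizedModule.smul'_mk,
          ← Submonoid.smul_def, LocalizedModule.mk_cancel]
      rw [h4, h1]
    exact (hu.smul_eq_zero).1 h3

/-- Non-vanishing in the top degree, strengthened: not finitely generated in positive dimension. -/
theorem not_finite_H (d : ℕ) : ∀ (M : Type u) [AddCommGroup M] [Module R M] [Module.Finite R M],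
    Module.supportDim R M = (d + 1 : ℕ) →
      ¬ Module.Finite R (LocCoh.H (maximalIdeal R) (d + 1) M) := by
  induction d using Nat.strong_induction_on with
  | _ d ih =>
  -- the case of a domain
  have hprime : ∀ p : Ideal R, p.IsPrime → Module.supportDim R (R ⧸ p) = (d + 1 : ℕ) →
      ¬ Module.Finite R (LocCoh.H (maximalIdeal R) (d + 1) (R ⧸ p)) := by
    intro p hp hdim hfin
    have hpm : ¬ maximalIdeal R ≤ p := by
      intro h
      have he : maximalIdeal R = p := le_antisymm h (IsLocalRing.le_maximalIdeal hp.ne_top)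
      have : IsArtinianRing (R ⧸ p) := by
        have := isArtinianRing_quotient_pow (R := R) 1
        rwa [pow_one, he] at this
      have h0 : Module.supportDim R (R ⧸ p) ≤ 0 := by
        rw [Module.supportDim_quotient_eq_ringKrullDim]
        exact_mod_cast (Ring.krullDimLE_iff (R := R ⧸ p) (n := 0)).1 inferInstance
      rw [hdim] at h0
      have : ((d + 1 : ℕ) : ℕ∞) ≤ ((0 : ℕ) : ℕ∞) := WithBot.coe_le_coe.1 h0
      norm_cast at this
    have := isArtinian_H (R := R) (R ⧸ p) d
    obtain ⟨S, H₁, H₂, j, hS, hH, hH₂, hH₁⟩ := exists_avoid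
      (⊤ : Submodule R (LocCoh.H (maximalIdeal R) d (R ⧸ p)))
    classical
    obtain ⟨x, hxm, hx⟩ : ∃ x ∈ maximalIdeal R, ∀ q ∈ insert p S, x ∉ q := by
      by_contra hcon
      push Not at hcon
      have hcov : (maximalIdeal R : Set R) ⊆ ⋃ q ∈ (↑(insert p S) : Set (Ideal R)), (q : Set R) :=
        fun x hx => by
          obtain ⟨q, hq, hxq⟩ := hcon x hx
          exact Set.mem_biUnion (Finset.mem_coe.2 hq) hxq
      rw [Ideal.subset_union_prime ⊥ ⊥ (fun q hq _ _ => ?_)] at hcov
      · obtain ⟨q, hq, hle⟩ := hcov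
        rcases Finset.mem_insert.1 hq with rfl | hq
        · exact hpm hle
        · exact (hS q hq).2 (le_antisymm (IsLocalRing.le_maximalIdeal (hS q hq).1.ne_top) hle)
      · rcases Finset.mem_insert.1 hq with rfl | hq
        exacts [hp, (hS q hq).1]
    have hxp : x ∉ p := hx p (Finset.mem_insert_self p S)
    -- a power of `x` kills the top local cohomology
    obtain ⟨k, hk⟩ : ∃ k : ℕ, ∀ z : LocCoh.H (maximalIdeal R) (d + 1) (R ⧸ p), x ^ k • z = 0 := by
      obtain ⟨s, hs⟩ := hfin.fg_top
      choose n hn using fun z : LocCoh.H (maximalIdeal R) (d + 1) (R ⧸ p) =>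
        isPowerTorsion_H (maximalIdeal R) (d + 1) (ModuleCat.of R (R ⧸ p)) z
      refine ⟨∑ z ∈ s, n z, fun z => ?_⟩
      have hz : z ∈ Submodule.span R (s : Set (LocCoh.H (maximalIdeal R) (d + 1) (R ⧸ p))) :=
        hs ▸ Submodule.mem_top
      induction hz using Submodule.span_induction with
      | mem z hz =>
        exact hn z _ (Ideal.pow_le_pow_right
          (Finset.single_le_sum (fun w _ => Nat.zero_le (n w)) hz) (Ideal.pow_mem_pow hxm _))
      | zero => exact smul_zero _
      | add a b _ _ ha hb => rw [smul_add, ha, hb, add_zero]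
      | smul r a _ ha => rw [smul_comm, ha, smul_zero]
    -- the sequence of multiplication by `y`
    have key : ∀ m : ℕ, k ≤ m → 0 < m → ∃ D : (LocCoh.H (maximalIdeal R) d
          ((R ⧸ p) ⧸ x ^ m • (⊤ : Submodule R (R ⧸ p)))) →ₗ[R]
          LocCoh.H (maximalIdeal R) (d + 1) (R ⧸ p),
        Function.Surjective D ∧ ∃ G : LocCoh.H (maximalIdeal R) d (R ⧸ p) →ₗ[R]
          LocCoh.H (maximalIdeal R) d ((R ⧸ p) ⧸ x ^ m • (⊤ : Submodule R (R ⧸ p))),
          Function.Exact G D ∧ ∀ z, G (x ^ m • z) = 0 := by
      intro m hkm hm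
      let g : (R ⧸ p) →ₗ[R] (R ⧸ p) := LinearMap.lsmul R _ (x ^ m)
      have hg : Function.Injective g := by
        rw [injective_iff_map_eq_zero]
        intro y hy
        obtain ⟨y, rfl⟩ := Submodule.Quotient.mk_surjective _ y
        replace hy : x ^ m • (Submodule.Quotient.mk y : R ⧸ p) = 0 := hy
        rw [← Submodule.Quotient.mk_smul, Submodule.Quotient.mk_eq_zero, smul_eq_mul] at hy
        exact (Submodule.Quotient.mk_eq_zero p).2
          ((hp.mem_or_mem hy).resolve_left fun h => hxp (hp.mem_of_pow_mem m h))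
      let C := ShortComplex.mk (ModuleCat.ofHom g)
        (ModuleCat.ofHom (Submodule.mkQ (x ^ m • (⊤ : Submodule R (R ⧸ p))))) (by
          ext y
          exact (Submodule.Quotient.mk_eq_zero _).2
            (Submodule.smul_mem_pointwise_smul _ _ _ Submodule.mem_top))
      have hC : C.ShortExact :=
        { exact := (ShortComplex.moduleCat_exact_iff _).2 fun y hy => by
            obtain ⟨z, -, rfl⟩ := (Submodule.mem_smul_pointwise_iff_exists _ _ _).1
              ((Submodule.Quotient.mk_eq_zero _).1 hy)
            exact ⟨z, rfl⟩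
          mono_f := (ModuleCat.mono_iff_injective _).2 hg
          epi_g := (ModuleCat.epi_iff_surjective _).2 (Submodule.mkQ_surjective _) }
      have hsm : ∀ (i : ℕ) (z : LocCoh.H (maximalIdeal R) i (R ⧸ p)),
          (localCohomology (maximalIdeal R) i).map C.f z = x ^ m • z := fun i z =>
        (smul_eq_map i (ModuleCat.of R (R ⧸ p)) (x ^ m) z).symm
      refine ⟨δ (I := maximalIdeal R) hC d, fun z => (exact₁ (I := maximalIdeal R) hC d z).1 ?_,
        ((localCohomology (maximalIdeal R) d).map C.g).hom, exact₃ (I := maximalIdeal R) hC d,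
        fun z => ?_⟩
      · obtain ⟨c, rfl⟩ := Nat.le.dest hkm
        rw [hsm, pow_add, mul_comm, mul_smul, hk, smul_zero]
      · rw [← hsm]
        exact (exact₂ (I := maximalIdeal R) hC d _).2 ⟨z, rfl⟩
    have hxm' : ∀ m : ℕ, 0 < m → Module.supportDim R
        ((R ⧸ p) ⧸ x ^ m • (⊤ : Submodule R (R ⧸ p))) = (d : ℕ) := by
      intro m hm
      have hreg : IsSMulRegular (R ⧸ p) (x ^ m) := by
        refine (isSMulRegular_iff_right_eq_zero_of_smul).2 fun y hy => ?_
        obtain ⟨y, rfl⟩ := Submodule.Quotient.mk_surjective _ y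
        rw [← Submodule.Quotient.mk_smul, smul_eq_mul, Submodule.Quotient.mk_eq_zero] at hy
        exact (Submodule.Quotient.mk_eq_zero p).2
          ((hp.mem_or_mem hy).resolve_left fun h => hxp (hp.mem_of_pow_mem m h))
      have : Nontrivial (R ⧸ p) := Ideal.Quotient.nontrivial_iff.2 hp.ne_top
      have h1 := Module.supportDim_quotSMulTop_succ_eq_supportDim hreg
        (Ideal.pow_mem_of_mem _ hxm m hm)
      rw [hdim] at h1
      revert h1
      cases Module.supportDim R (QuotSMulTop (x ^ m) (R ⧸ p)) with
      | bot => intro h1; rw [WithBot.bot_add] at h1; exact absurd h1.symm (WithBot.natCast_ne_bot _)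
      | coe e =>
        intro h1
        have h2 : e + 1 = ((d + 1 : ℕ) : ℕ∞) := WithBot.coe_inj.1 h1
        rw [Nat.cast_succ] at h2
        exact congrArg WithBot.some
          (((ENat.addLECancellable_of_ne_top (by simp : (1 : ℕ∞) ≠ ⊤)).inj_left).1 h2)
    rcases d with _ | d
    · -- dimension one
      have h0 : Subsingleton (LocCoh.H (maximalIdeal R) 0 (R ⧸ p)) := by
        rw [subsingleton_H_zero_iff, Submodule.eq_bot_iff]
        rintro y ⟨n, hn⟩
        obtain ⟨y, rfl⟩ := Submodule.Quotient.mk_surjective _ y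
        have h1 := hn (x ^ n) (Ideal.pow_mem_pow hxm n)
        rw [← Submodule.Quotient.mk_smul, Submodule.Quotient.mk_eq_zero, smul_eq_mul] at h1
        exact (Submodule.Quotient.mk_eq_zero p).2
          ((hp.mem_or_mem h1).resolve_left fun h => hxp (hp.mem_of_pow_mem n h))
      have hiso : ∀ m : ℕ, k ≤ m → 0 < m →
          Nonempty (((R ⧸ p) ⧸ x ^ m • (⊤ : Submodule R (R ⧸ p))) ≃ₗ[R]
            LocCoh.H (maximalIdeal R) (0 + 1) (R ⧸ p)) := by
        intro m hkm hm
        obtain ⟨D, hD, G, hGD, -⟩ := key m hkm hm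
        have hDinj : Function.Injective D := by
          rw [injective_iff_map_eq_zero]
          intro z hz
          obtain ⟨w, rfl⟩ := (hGD z).1 hz
          rw [h0.elim w 0, map_zero]
        have htor : LocCoh.IsPowerTorsion (maximalIdeal R)
            ((R ⧸ p) ⧸ x ^ m • (⊤ : Submodule R (R ⧸ p))) := by
          set Q := (R ⧸ p) ⧸ x ^ m • (⊤ : Submodule R (R ⧸ p))
          have hdimQ : ringKrullDim (R ⧸ Module.annihilator R Q) = (0 : ℕ) := by
            rw [← Module.supportDim_eq_ringKrullDim_quotient_annihilator]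
            exact hxm' m hm
          have hrad : maximalIdeal R ≤ (Module.annihilator R Q).radical := by
            rw [Ideal.radical_eq_sInf, le_sInf_iff]
            rintro q ⟨hq, hqp⟩
            by_contra hne
            have hlt : q < maximalIdeal R := lt_of_le_of_ne (IsLocalRing.le_maximalIdeal hqp.ne_top)
              fun h => hne h.ge
            have h1 : (1 : WithBot ℕ∞) ≤ ringKrullDim (R ⧸ Module.annihilator R Q) := by
              rw [ringKrullDim_quotient, Order.one_le_krullDim_iff]
              exact ⟨⟨⟨q, hqp⟩, hq⟩, ⟨IsLocalRing.closedPoint R, hq.trans hlt.le⟩, hlt⟩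
            rw [hdimQ, Nat.cast_zero] at h1
            exact not_lt_of_ge h1 zero_lt_one
          obtain ⟨n, hn⟩ := Ideal.exists_pow_le_of_le_radical_of_fg hrad (IsNoetherian.noetherian _)
          exact fun z => ⟨n, fun a ha => Module.mem_annihilator.1 (hn ha) z⟩
        exact ⟨((LinearEquiv.ofTop _ (torsionSub_eq_top htor)).symm.trans
          (h0Equiv (maximalIdeal R) _).symm).trans (LinearEquiv.ofBijective D ⟨hDinj, hD⟩)⟩
      obtain ⟨e₁⟩ := hiso (k + 1) (Nat.le_succ k) (Nat.succ_pos k)
      obtain ⟨e₂⟩ := hiso (k + 2) (by omega) (by omega)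
      let π : ((R ⧸ p) ⧸ x ^ (k + 2) • (⊤ : Submodule R (R ⧸ p))) →ₗ[R]
          ((R ⧸ p) ⧸ x ^ (k + 1) • (⊤ : Submodule R (R ⧸ p))) :=
        Submodule.mapQ _ _ LinearMap.id (by
          intro z hz
          obtain ⟨w, -, rfl⟩ := (Submodule.mem_smul_pointwise_iff_exists _ _ _).1 hz
          rw [Submodule.mem_comap, LinearMap.id_apply,
            show x ^ (k + 2) • w = x ^ (k + 1) • (x • w) by rw [← mul_smul, ← pow_succ]]
          exact Submodule.smul_mem_pointwise_smul _ _ _ Submodule.mem_top)
      have hπ : Function.Surjective π := fun z => by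
        obtain ⟨w, rfl⟩ := Submodule.Quotient.mk_surjective _ z
        exact ⟨Submodule.Quotient.mk w, rfl⟩
      let e := e₁.trans e₂.symm
      have hinj : Function.Injective π := by
        have h1 : Function.Bijective (e.toLinearMap ∘ₗ π) :=
          OrzechProperty.bijective_of_surjective_endomorphism _ (e.surjective.comp hπ)
        exact Function.Injective.of_comp (f := e) h1.1
      refine mk_mul_ne_zero_of_pow p hxp hxm (k + 1) ?_
      have h3 := hinj (a₁ := Submodule.Quotient.mk (Submodule.Quotient.mk (p := p) (x ^ (k + 1))))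
        (a₂ := 0) ?_
      · obtain ⟨w, -, hw⟩ := (Submodule.mem_smul_pointwise_iff_exists _ _ _).1
          ((Submodule.Quotient.mk_eq_zero _).1 h3)
        obtain ⟨w, rfl⟩ := Submodule.Quotient.mk_surjective _ w
        rw [← Submodule.Quotient.mk_smul, Submodule.Quotient.eq, smul_eq_mul] at hw
        exact Submodule.mem_sup.2 ⟨_, p.neg_mem hw, x ^ (k + 1 + 1) * w,
          Ideal.mem_span_singleton.2 ⟨w, rfl⟩, by ring⟩
      · rw [map_zero]
        refine (Submodule.Quotient.mk_eq_zero _).2
          ((Submodule.mem_smul_pointwise_iff_exists _ _ _).2 ⟨Submodule.Quotient.mk 1, trivial, ?_⟩)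
        rw [LinearMap.id_apply, ← Submodule.Quotient.mk_smul, smul_eq_mul, mul_one]
    · -- the inductive step
      obtain ⟨D, hD, G, hGD, hG⟩ := key (k + 1) (Nat.le_succ k) (Nat.succ_pos k)
      refine ih d (Nat.lt_succ_self d) _ (hxm' (k + 1) (Nat.succ_pos k)) ?_
      have hrange : LinearMap.range G = H₂.map G := by
        refine le_antisymm ?_ (LinearMap.map_le_range)
        rintro _ ⟨z, rfl⟩
        obtain ⟨u, hu, v, hv, rfl⟩ := Submodule.mem_sup.1 (hH.ge (Submodule.mem_top : z ∈ ⊤))
        have hpow : ∀ n : ℕ, ∀ u ∈ H₁, ∃ w ∈ H₁, x ^ n • w = u := by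
          intro n
          induction n with
          | zero => exact fun u hu => ⟨u, hu, by rw [pow_zero, one_smul]⟩
          | succ n ihn =>
            intro u hu
            obtain ⟨w, hw, rfl⟩ := ihn u hu
            obtain ⟨w', hw', rfl⟩ := hH₁ x (fun q hq => hx q (Finset.mem_insert_of_mem hq)) w hw
            exact ⟨w', hw', by rw [pow_succ, mul_smul]⟩
        obtain ⟨w, -, rfl⟩ := hpow (k + 1) u hu
        exact ⟨v, hv, by rw [map_add, hG, zero_add]⟩
      have hA : IsArtinian R (LinearMap.range G) :=
        isArtinian_of_surjective _ G.rangeRestrict G.surjective_rangeRestrict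
      have hF : Module.Finite R (LinearMap.range G) :=
        finite_of_artinian_of_killed j fun z a ha => by
          obtain ⟨v, hv, hvz⟩ := hrange.le z.2
          refine Subtype.ext ?_
          rw [Submodule.coe_smul, ZeroMemClass.coe_zero, ← hvz, ← map_smul, hH₂ v hv a ha, map_zero]
      rw [LinearMap.exact_iff] at hGD
      refine ⟨Submodule.fg_of_fg_map_of_fg_inf_ker D ?_ ?_⟩
      · rw [Submodule.map_top, LinearMap.range_eq_top.2 hD]
        exact hfin.fg_top
      · rw [top_inf_eq, hGD]
        exact Module.Finite.iff_fg.1 hF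
  intro M _ _ _ hdim hfin
  -- a minimal prime computing the dimension
  obtain ⟨p, hp, hpdim⟩ : ∃ p : PrimeSpectrum R, p ∈ Module.support R M ∧
      Module.supportDim R (R ⧸ p.asIdeal) = (d + 1 : ℕ) := by
    have hne : Nonempty (Module.support R M) := by
      by_contra h
      rw [not_nonempty_iff] at h
      have : Module.supportDim R M = ⊥ := Order.krullDim_eq_bot
      rw [hdim] at this
      exact WithBot.natCast_ne_bot _ this
    have hd' : ((d + 1 : ℕ) : WithBot ℕ∞) ≤ Order.krullDim (Module.support R M) := hdim.ge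
    obtain ⟨l, hl⟩ := Order.le_krullDim_iff.1 hd'
    refine ⟨l.head.1, l.head.2, le_antisymm ?_ ?_⟩
    · rw [← hdim]
      refine Order.krullDim_le_of_strictMono (fun q => ⟨q.1, ?_⟩) fun a b hab => hab
      exact Module.mem_support_mono (by
        have := (Set.ext_iff.1 (support_quotient_eq l.head.1.asIdeal) q.1).1 q.2
        exact this) l.head.2
    · refine Order.le_krullDim_iff.2 ⟨⟨l.length, fun i => ⟨(l i).1, ?_⟩, fun i => l.step i⟩, hl⟩
      exact (Set.ext_iff.1 (support_quotient_eq l.head.1.asIdeal) _).2
        (show l.head.1.asIdeal ≤ (l i).1.asIdeal from LTSeries.head_le l i)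
  obtain ⟨φ, hφ⟩ := exists_map_quotient M p hp
  refine hprime p.asIdeal p.2 hpdim ?_
  -- the composite is surjective on top cohomology
  have hS₁ := subSeq_shortExact (LinearMap.ker φ)
  have hS₂ := subSeq_shortExact (LinearMap.range φ)
  have hq : Subsingleton (HH' (maximalIdeal R) (d + 2) (subSeq (LinearMap.ker φ)).X₁) := by
    refine subsingleton_H_of_supportDim_lt (maximalIdeal R) (LinearMap.ker φ)
      (lt_of_le_of_lt (Module.supportDim_le_of_injective _ (Submodule.injective_subtype _)) ?_)
    rw [hdim]
    exact_mod_cast Nat.lt_succ_self (d + 1)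
  have hc : Subsingleton (HH' (maximalIdeal R) (d + 1) (subSeq (LinearMap.range φ)).X₃) := by
    refine subsingleton_H_of_supportDim_lt (maximalIdeal R) ((R ⧸ p.asIdeal) ⧸ LinearMap.range φ) ?_
    obtain ⟨m, hm⟩ : ∃ m, φ m ≠ 0 := by
      by_contra h
      push Not at h
      exact hφ (LinearMap.ext h)
    obtain ⟨a, ha⟩ := Submodule.Quotient.mk_surjective _ (φ m)
    have hap : a ∉ p.asIdeal := fun h => hm (by rw [← ha]; exact (Submodule.Quotient.mk_eq_zero _).2 h)
    have hann : p.asIdeal ⊔ Ideal.span {a} ≤
        Module.annihilator R ((R ⧸ p.asIdeal) ⧸ LinearMap.range φ) := by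
      refine sup_le (fun b hb => Module.mem_annihilator.2 fun y => ?_)
        ((Ideal.span_singleton_le_iff_mem _).2 (Module.mem_annihilator.2 fun y => ?_))
      all_goals
        obtain ⟨y, rfl⟩ := Submodule.Quotient.mk_surjective _ y
        obtain ⟨y, rfl⟩ := Submodule.Quotient.mk_surjective _ y
      · rw [← Submodule.Quotient.mk_smul, ← Submodule.Quotient.mk_smul, smul_eq_mul,
          (Submodule.Quotient.mk_eq_zero _).2 (p.asIdeal.mul_mem_right y hb), Submodule.Quotient.mk_zero]
      · rw [← Submodule.Quotient.mk_smul, Submodule.Quotient.mk_eq_zero, ← Submodule.Quotient.mk_smul]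
        refine ⟨y • m, ?_⟩
        rw [map_smul, ← ha, ← Submodule.Quotient.mk_smul]
        congr 1
        rw [smul_eq_mul, smul_eq_mul, mul_comm]
    rw [Module.supportDim_eq_ringKrullDim_quotient_annihilator]
    refine lt_of_le_of_lt (ringKrullDim_le_of_surjective _ (Ideal.Quotient.factor_surjective hann)) ?_
    by_cases htop : p.asIdeal ⊔ Ideal.span {a} = ⊤
    · have : Subsingleton (R ⧸ (p.asIdeal ⊔ Ideal.span {a})) := Ideal.Quotient.subsingleton_iff.2 htop
      rw [ringKrullDim_eq_bot_of_subsingleton]
      exact WithBot.bot_lt_coe _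
    have h1 : ringKrullDim (R ⧸ (p.asIdeal ⊔ Ideal.span {a})) + 1 ≤ ringKrullDim (R ⧸ p.asIdeal) := by
      have hreg : Ideal.Quotient.mk p.asIdeal a ∈ nonZeroDivisors (R ⧸ p.asIdeal) :=
        mem_nonZeroDivisors_of_ne_zero (fun h => hap (Ideal.Quotient.eq_zero_iff_mem.1 h))
      have h2 := ringKrullDim_quotient_succ_le_of_nonZeroDivisor hreg
      rwa [← Set.image_singleton, ← Ideal.map_span,
        ringKrullDim_eq_of_ringEquiv (DoubleQuot.quotQuotEquivQuotSup p.asIdeal (Ideal.span {a}))] at h2
    rw [← Module.supportDim_quotient_eq_ringKrullDim p.asIdeal, hpdim] at h1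
    revert h1
    cases ringKrullDim (R ⧸ (p.asIdeal ⊔ Ideal.span {a})) with
    | bot => exact fun _ => WithBot.bot_lt_coe _
    | coe e =>
      intro h1
      refine WithBot.coe_lt_coe.2 (lt_of_lt_of_le ?_ (WithBot.coe_le_coe.1 h1))
      have : e ≠ ⊤ := by
        rintro rfl
        exact absurd (WithBot.coe_le_coe.1 h1) (by simp)
      exact ENat.lt_add_one_iff this |>.2 le_rfl
  have s1 : Function.Surjective ((localCohomology (maximalIdeal R) (d + 1)).map
      (subSeq (LinearMap.ker φ)).g).hom := fun z =>
    (exact₃ (I := maximalIdeal R) hS₁ (d + 1) z).1 (hq.elim _ _)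
  have s2 : Function.Surjective ((localCohomology (maximalIdeal R) (d + 1)).map
      (subSeq (LinearMap.range φ)).f).hom := fun z =>
    (exact₂ (I := maximalIdeal R) hS₂ (d + 1) z).1 (hc.elim _ _)
  exact Module.Finite.of_surjective
    ((((localCohomology (maximalIdeal R) (d + 1)).map (subSeq (LinearMap.range φ)).f).hom ∘ₗ
      ((localCohomology (maximalIdeal R) (d + 1)).mapIso
        φ.quotKerEquivRange.toModuleIso).toLinearEquiv.toLinearMap) ∘ₗ
      ((localCohomology (maximalIdeal R) (d + 1)).map (subSeq (LinearMap.ker φ)).g).hom)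
    ((s2.comp (LinearEquiv.surjective _)).comp s1)

/-- Grothendieck's non-vanishing theorem. -/
theorem nontrivial_H_supportDim (M : Type u) [AddCommGroup M] [Module R M] [Module.Finite R M]
    [Nontrivial M] (n : ℕ) (hn : Module.supportDim R M = n) :
    Nontrivial (LocCoh.H (maximalIdeal R) n M) := by
  rw [← not_subsingleton_iff_nontrivial]
  intro h
  rcases n with _ | d
  · have hrad : maximalIdeal R ≤ (Module.annihilator R M).radical := by
      rw [Ideal.radical_eq_sInf, le_sInf_iff]
      rintro q ⟨hq, hqp⟩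
      by_contra hne
      have hlt : q < maximalIdeal R := lt_of_le_of_ne (IsLocalRing.le_maximalIdeal hqp.ne_top)
        fun h => hne h.ge
      have h1 : (1 : WithBot ℕ∞) ≤ ringKrullDim (R ⧸ Module.annihilator R M) := by
        rw [ringKrullDim_quotient, Order.one_le_krullDim_iff]
        exact ⟨⟨⟨q, hqp⟩, hq⟩, ⟨IsLocalRing.closedPoint R, hq.trans hlt.le⟩, hlt⟩
      rw [← Module.supportDim_eq_ringKrullDim_quotient_annihilator, hn, Nat.cast_zero] at h1
      exact not_lt_of_ge h1 zero_lt_one
    obtain ⟨k, hk⟩ := Ideal.exists_pow_le_of_le_radical_of_fg hrad (IsNoetherian.noetherian _)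
    have htor : LocCoh.IsPowerTorsion (maximalIdeal R) M :=
      fun z => ⟨k, fun a ha => Module.mem_annihilator.1 (hk ha) z⟩
    rw [subsingleton_H_zero_iff, torsionSub_eq_top htor] at h
    exact not_subsingleton M ((Submodule.subsingleton_iff R).1 (subsingleton_of_top_eq_bot h))
  · exact not_finite_H d M hn inferInstance

end Groth.LocCohBase
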