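import Groth.Agent.LocCohBase.HomExtend
import Groth.Prelude.Def_Wider

/-!
Annihilators of the cohomology of finite locally free modules.
-/

set_option autoImplicit false

universe u

open CategoryTheory AlgebraicGeometry Opposite TopologicalSpace

namespace Groth.LocCohBase.HomExtend

open Groth.PicAux

variable {X : Scheme.{u}}

/-- The map of abelian sheaves underlying a morphism of modules. -/
noncomputable def abMap {L M : X.Modules} (φ : L ⟶ M) : Coh.toAb L ⟶ Coh.toAb M :=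
  (SheafOfModules.toSheaf X.ringCatSheaf).map φ

theorem abMap_app {L M : X.Modules} (φ : L ⟶ M) (W : X.Opens) (x : Γ(L, W)) :
    (abMap φ).hom.app (op W) x = φ.app W x := rfl

theorem smulAb_apply (M : X.Modules) (g : Γ(X, ⊤)) (W : X.Opens) (x : Γ(M, W)) :
    (Coh.smulAb M g).hom.app (op W) x = resX X (le_top : W ≤ ⊤) g • x := rfl

theorem abMap_smulAb {L M : X.Modules} (φ : L ⟶ M) (g : Γ(X, ⊤)) :
    abMap φ ≫ Coh.smulAb M g = Coh.smulAb L g ≫ abMap φ := by
  ext W x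
  exact (φ.app_smul (resX X (le_top : W.unop ≤ ⊤) g) x).symm

theorem abMap_sum {L M : X.Modules} {κ : Type*} (t : Finset κ) (φ : κ → (L ⟶ M)) :
    abMap (∑ i ∈ t, φ i) = ∑ i ∈ t, abMap (φ i) :=
  Functor.map_sum _ _ _

/-- If `a` kills the cohomology of `O` and `g^N` on `M` factors through a free module, then
`a g^N` kills the cohomology of `M`. -/
theorem smul_eq_zero_of_factor {M : X.Modules} {r N p : ℕ} (a g : Γ(X, ⊤))
    (ψ : Fin r → (M ⟶ Coh.structureModule X)) (φ : Fin r → (Coh.structureModule X ⟶ M))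
    (h : ∀ (W : X.Opens) (x : Γ(M, W)),
      (∑ i, ψ i ≫ φ i).app W x = resX X (le_top : W ≤ ⊤) g ^ N • x)
    (hO : ∀ y : Coh.HH X (Coh.structureModule X) p, Sheaf.H.map (Coh.smulAb _ a) p y = 0)
    (x : Coh.HH X M p) : Sheaf.H.map (Coh.smulAb M (a * g ^ N)) p x = 0 := by
  classical
  have e : Coh.smulAb M (g ^ N) = abMap (∑ i, ψ i ≫ φ i) := by
    ext W y
    refine (smulAb_apply M (g ^ N) W.unop y).trans ?_
    rw [map_pow]
    exact (h W.unop y).symm
  rw [show Coh.smulAb M (a * g ^ N) = Coh.smulAb M (g ^ N) ≫ Coh.smulAb M a from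
    Coh.smulAb_mul M a (g ^ N), Sheaf.H.map_comp_apply, e, abMap_sum]
  induction (Finset.univ : Finset (Fin r)) using Finset.induction_on with
  | empty =>
    rw [Finset.sum_empty]
    have h0 : Sheaf.H.map (0 : Coh.toAb M ⟶ Coh.toAb M) p x = 0 := by
      change ((Sheaf.functorH _ p).map (0 : Coh.toAb M ⟶ Coh.toAb M)).hom x = 0
      rw [Functor.map_zero]
      rfl
    rw [h0, map_zero]
  | insert i t hi ih =>
    rw [Finset.sum_insert hi, Sheaf.H.map_add_apply, map_add, ih, add_zero]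
    have e2 : abMap (ψ i ≫ φ i) = abMap (ψ i) ≫ abMap (φ i) := Functor.map_comp _ _ _
    rw [e2, Sheaf.H.map_comp_apply, ← Sheaf.H.map_comp_apply (abMap (φ i)), abMap_smulAb,
      Sheaf.H.map_comp_apply, hO, map_zero]

section Punctured

variable {A : Type u} [CommRing A] (I : Ideal A)

/-- The image of `a : A` as a function on the punctured open. -/
noncomputable abbrev γ : A →+* Γ((↑(LocCoh.puncturedOpen A I) : Scheme.{u}), ⊤) :=
  Coh.toGlobal ((↑(LocCoh.puncturedOpen A I) : Scheme.{u}) ↘ Spec (CommRingCat.of A))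

theorem basicOpen_γ (f : A) :
    (↑(LocCoh.puncturedOpen A I) : Scheme.{u}).basicOpen (γ I f) =
      (LocCoh.puncturedOpen A I).ι ⁻¹ᵁ PrimeSpectrum.basicOpen f := by
  change (↑(LocCoh.puncturedOpen A I) : Scheme.{u}).basicOpen
    ((LocCoh.puncturedOpen A I).ι.appTop ((Scheme.ΓSpecIso (CommRingCat.of A)).inv f)) = _
  rw [← Scheme.preimage_basicOpen_top]
  congr 1
  exact basicOpen_eq_of_affine (R := CommRingCat.of A) f

theorem mem_basicOpen_γ (f : A) (x : (↑(LocCoh.puncturedOpen A I) : Scheme.{u})) :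
    x ∈ (↑(LocCoh.puncturedOpen A I) : Scheme.{u}).basicOpen (γ I f) ↔
      f ∉ (x.1 : PrimeSpectrum A).asIdeal := by
  rw [basicOpen_γ]
  rfl

theorem isAffineOpen_basicOpen_γ {f : A} (hf : f ∈ I) :
    IsAffineOpen ((↑(LocCoh.puncturedOpen A I) : Scheme.{u}).basicOpen (γ I f)) := by
  rw [basicOpen_γ]
  refine (IsAffineOpen.Spec_basicOpen (R := CommRingCat.of A) f).preimage_of_isOpenImmersion _ ?_
  rw [Scheme.Opens.opensRange_ι]
  intro x hx hxI
  exact hx (((PrimeSpectrum.mem_zeroLocus _ _).1 hxI) hf)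

theorem exists_basis_basicOpen {F : (↑(LocCoh.puncturedOpen A I) : Scheme.{u}).Modules}
    (hF : FlatMod.IsFinLocFree F) (x : (↑(LocCoh.puncturedOpen A I) : Scheme.{u})) :
    ∃ f ∈ I, x ∈ (↑(LocCoh.puncturedOpen A I) : Scheme.{u}).basicOpen (γ I f) ∧
      ∃ (n : ℕ) (s : Fin n → Γ(F, (↑(LocCoh.puncturedOpen A I) : Scheme.{u}).basicOpen (γ I f))),
        Basis' F _ s := by
  obtain ⟨U, n, s, hxU, hs⟩ := exists_basis_of_isFinLocFree hF x
  obtain ⟨_, ⟨g, rfl⟩, hxg, hgU⟩ := PrimeSpectrum.isTopologicalBasis_basic_opens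
    |>.exists_subset_of_mem_open (a := (x.1 : PrimeSpectrum A))
      (u := (((LocCoh.puncturedOpen A I).ι ''ᵁ U : (Spec (CommRingCat.of A)).Opens) :
        Set (Spec (CommRingCat.of A)))) ⟨x, hxU, rfl⟩
      ((LocCoh.puncturedOpen A I).ι ''ᵁ U).isOpen
  have hgI : g ∈ I.radical := by
    rw [Ideal.radical_eq_sInf, Ideal.mem_sInf]
    rintro J ⟨hIJ, hJ⟩
    by_contra hgJ
    obtain ⟨y, -, hy⟩ := hgU (show (⟨J, hJ⟩ : PrimeSpectrum A) ∈ PrimeSpectrum.basicOpen g from hgJ)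
    exact y.2 (by
      have hy' : (y.1 : PrimeSpectrum A) = ⟨J, hJ⟩ := hy
      rw [hy']
      exact (PrimeSpectrum.mem_zeroLocus _ _).2 hIJ)
  obtain ⟨k, hk⟩ := hgI
  replace hk : g ^ (k + 1) ∈ I := by rw [pow_succ]; exact I.mul_mem_right _ hk
  refine ⟨g ^ (k + 1), hk, (mem_basicOpen_γ I _ x).2 fun h => hxg (x.1.2.mem_of_pow_mem _ h), ?_⟩
  have hle : (↑(LocCoh.puncturedOpen A I) : Scheme.{u}).basicOpen (γ I (g ^ (k + 1))) ≤ U := by
    intro y hy
    have hy' : g ∉ (y.1 : PrimeSpectrum A).asIdeal := fun h =>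
      (mem_basicOpen_γ I _ y).1 hy (Ideal.pow_mem_of_mem _ h _ (Nat.succ_pos k))
    obtain ⟨z, hz, hzy⟩ := hgU hy'
    have : z = y := Subtype.ext hzy
    exact this ▸ hz
  exact ⟨n, fun i => res F hle (s i), hs.res' hle⟩

/-- If some power of `J ≤ I` kills `H^p(U, O)`, then some power kills `H^p(U, F)`. -/
theorem exists_pow_smul_HH_eq_zero (J : Ideal A) (hJI : J ≤ I) (hJ : J.FG) (hI : I.FG) (p n : ℕ)
    (hO : ∀ a ∈ J ^ n, ∀ x : Coh.HH (↑(LocCoh.puncturedOpen A I))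
      (Coh.structureModule (↑(LocCoh.puncturedOpen A I))) p, a • x = 0)
    (F : (↑(LocCoh.puncturedOpen A I) : Scheme.{u}).Modules) (hF : FlatMod.IsFinLocFree F) :
    ∃ m : ℕ, ∀ a ∈ J ^ m, ∀ x : Coh.HH (↑(LocCoh.puncturedOpen A I)) F p, a • x = 0 := by
  classical
  have := isQCoh_of_isFinLocFree hF
  choose f hfI hxf r e he using exists_basis_basicOpen I hF
  have hsub : (PrimeSpectrum.zeroLocus (I : Set A))ᶜ ⊆ ⋃ x, (PrimeSpectrum.basicOpen (f x) : Set _) := by
    intro q hq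
    exact Set.mem_iUnion.2 ⟨⟨q, hq⟩, (mem_basicOpen_γ I _ _).1 (hxf ⟨q, hq⟩)⟩
  have hcpt : IsCompact ((PrimeSpectrum.zeroLocus (I : Set A))ᶜ) :=
    (PrimeSpectrum.isCompact_isOpen_iff_ideal.2 ⟨I, hI, rfl⟩).1
  obtain ⟨t, ht⟩ := hcpt.elim_finite_subcover
    (fun x => (PrimeSpectrum.basicOpen (f x) : Set _)) (fun x => (PrimeSpectrum.basicOpen (f x)).isOpen)
    hsub
  let V : t → (↑(LocCoh.puncturedOpen A I) : Scheme.{u}).Opens := fun j =>
    (↑(LocCoh.puncturedOpen A I) : Scheme.{u}).basicOpen (γ I (f j.1))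
  have hcov : iSup V = ⊤ := by
    refine eq_top_iff.2 fun y _ => ?_
    obtain ⟨x, hx, hy⟩ := Set.mem_iUnion₂.1 (ht y.2)
    exact Opens.mem_iSup.2 ⟨⟨x, hx⟩, (mem_basicOpen_γ I _ _).2 hy⟩
  have hVV : ∀ j k, IsAffineOpen (V j ⊓ V k) := fun j k => by
    rw [show V j ⊓ V k = (↑(LocCoh.puncturedOpen A I) : Scheme.{u}).basicOpen (γ I (f j.1 * f k.1))
      by rw [map_mul, Scheme.basicOpen_mul]]
    exact isAffineOpen_basicOpen_γ I (I.mul_mem_right _ (hfI j.1))
  choose N ψ φ hfac using fun j : t => exists_factor (γ I (f j.1))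
    (fun k : t => isAffineOpen_basicOpen_γ I (hfI k.1)) hVV hcov (fun k => e k.1) (fun k => he k.1)
    (e j.1) (he j.1)
  let Ann : Ideal A := Module.annihilator A (Coh.HH (↑(LocCoh.puncturedOpen A I)) F p)
  let K : Ideal A := Ideal.span (Set.range fun j : t => f j.1 ^ N j)
  have hK : J ^ n * K ≤ Ann := by
    rw [Ideal.mul_le]
    intro a ha b hb
    induction hb using Submodule.span_induction with
    | mem b hb =>
      obtain ⟨j, rfl⟩ := hb
      refine Module.mem_annihilator.2 fun x => ?_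
      show Sheaf.H.map (Coh.smulAb F (γ I (a * f j.1 ^ N j))) p x = 0
      rw [map_mul, map_pow]
      exact smul_eq_zero_of_factor (γ I a) (γ I (f j.1)) (ψ j) (φ j) (hfac j) (hO a ha) x
    | zero => rw [mul_zero]; exact Ann.zero_mem
    | add x y _ _ hx hy => rw [mul_add]; exact Ann.add_mem hx hy
    | smul c x _ hx => rw [smul_eq_mul, mul_left_comm]; exact Ann.mul_mem_left c hx
  have hrad : J ≤ K.radical := by
    refine hJI.trans fun a ha => ?_
    rw [Ideal.radical_eq_sInf, Ideal.mem_sInf]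
    rintro q ⟨hKq, hq⟩
    by_contra haq
    obtain ⟨x, hx, hy⟩ := Set.mem_iUnion₂.1 (ht (show (⟨q, hq⟩ : PrimeSpectrum A) ∈
      (PrimeSpectrum.zeroLocus (I : Set A))ᶜ from fun h =>
        haq ((PrimeSpectrum.mem_zeroLocus _ _).1 h ha)))
    exact hy (hq.mem_of_pow_mem (N ⟨x, hx⟩) (hKq (Ideal.subset_span ⟨⟨x, hx⟩, rfl⟩)))
  obtain ⟨k, hk⟩ := Ideal.exists_pow_le_of_le_radical_of_fg hrad hJ
  refine ⟨n + k, fun a ha x => ?_⟩
  rw [pow_add] at ha
  exact Module.mem_annihilator.1 (hK (Ideal.mul_mono_right hk ha)) x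

end Punctured

end Groth.LocCohBase.HomExtend
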