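import Mathlib.CategoryTheory.Abelian.Ext
import Mathlib.CategoryTheory.Abelian.Projective.Ext
import Mathlib.Algebra.Category.ModuleCat.Ext.Basic
import Mathlib.Algebra.Category.ModuleCat.Projective
import Mathlib.Algebra.Homology.ShortComplex.ModuleCat

/-!
The `Ext R C n` of `Mathlib.CategoryTheory.Abelian.Ext` (left derived functors of `Hom(-,Y)`) is
naturally isomorphic, in both variables, to `CategoryTheory.Abelian.Ext`, for `C = ModuleCat R`.
-/

set_option autoImplicit false

universe u

open CategoryTheory Limits HomologicalComplex Opposite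

namespace Groth.LocCohBase

variable {R : Type u} [CommRing R] {X X' Y Y' : ModuleCat.{u} R}

/-- `Hom(P, Y)` as a cochain complex. -/
noncomputable abbrev homCx (P : ProjectiveResolution X) (Y : ModuleCat.{u} R) :
    CochainComplex (ModuleCat.{u} R) ℕ :=
  P.complex.linearYonedaObj R Y

lemma homCx_d_apply (P : ProjectiveResolution X) (i j : ℕ) (f : P.complex.X i ⟶ Y) :
    ((homCx P Y).d i j) f = P.complex.d j i ≫ f := rfl

/-- The morphism `P_n ⟶ Y` underlying a cycle of `Hom(P,Y)`. -/
noncomputable def cycleHom (P : ProjectiveResolution X) (n : ℕ) (z : (homCx P Y).cycles n) :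
    P.complex.X n ⟶ Y :=
  (homCx P Y).iCycles n z

lemma cycleHom_add (P : ProjectiveResolution X) (n : ℕ) (z w : (homCx P Y).cycles n) :
    cycleHom P n (z + w) = cycleHom P n z + cycleHom P n w :=
  ((homCx P Y).iCycles n).hom.map_add z w

lemma cycleHom_smul (P : ProjectiveResolution X) (n : ℕ) (r : R) (z : (homCx P Y).cycles n) :
    cycleHom P n (r • z) = r • cycleHom P n z :=
  ((homCx P Y).iCycles n).hom.map_smul r z

lemma cycleHom_cond (P : ProjectiveResolution X) (n : ℕ) (z : (homCx P Y).cycles n) :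
    P.complex.d (n + 1) n ≫ cycleHom P n z = 0 := by
  have h := congrArg (fun φ => (ModuleCat.Hom.hom φ) z) ((homCx P Y).iCycles_d n (n + 1))
  simp at h
  exact h

/-- A cycle of `Hom(P,Y)` gives a class in `Ext`. -/
noncomputable def cyclesToExt (P : ProjectiveResolution X) (Y : ModuleCat.{u} R) (n : ℕ) :
    (homCx P Y).cycles n →ₗ[R] Abelian.Ext X Y n where
  toFun z := P.extMk (cycleHom P n z) (n + 1) rfl (cycleHom_cond P n z)
  map_add' z w := by
    simp only [cycleHom_add, P.add_extMk]
  map_smul' r z := by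
    rw [RingHom.id_apply, Abelian.Ext.smul_eq_comp_mk₀, P.extMk_comp_mk₀]
    simp only [cycleHom_smul, Linear.comp_smul, Category.comp_id]

lemma cyclesToExt_apply (P : ProjectiveResolution X) (n : ℕ) (z : (homCx P Y).cycles n) :
    cyclesToExt P Y n z = P.extMk (cycleHom P n z) (n + 1) rfl (cycleHom_cond P n z) :=
  rfl

lemma exists_cycle (P : ProjectiveResolution X) (n : ℕ) (f : P.complex.X n ⟶ Y)
    (hf : P.complex.d (n + 1) n ≫ f = 0) :
    ∃ z : (homCx P Y).cycles n, cycleHom P n z = f := by
  refine ⟨(homCx P Y).liftCycles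
    (ModuleCat.ofHom (LinearMap.toSpanSingleton R ((homCx P Y).X n) f)) (n + 1) (by simp) ?_
    (1 : R), ?_⟩
  · ext1
    apply LinearMap.ext_ring
    change P.complex.d (n + 1) n ≫ ((1 : R) • f) = 0
    rw [one_smul]
    exact hf
  · have h := congrArg (fun φ : ModuleCat.of R R ⟶ (homCx P Y).X n => φ.hom 1)
      ((homCx P Y).liftCycles_i (ModuleCat.ofHom (LinearMap.toSpanSingleton R _ f)) (n + 1)
        (by simp) (by ext1; apply LinearMap.ext_ring
                      change P.complex.d (n + 1) n ≫ ((1 : R) • f) = 0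
                      rw [one_smul]; exact hf))
    exact h.trans (one_smul R f)

lemma cyclesToExt_surjective (P : ProjectiveResolution X) (n : ℕ) :
    Function.Surjective (cyclesToExt P Y n) := by
  intro α
  obtain ⟨f, hf, rfl⟩ := P.extMk_surjective α (n + 1) rfl
  obtain ⟨z, hz⟩ := exists_cycle P n f hf
  refine ⟨z, ?_⟩
  simp [cyclesToExt_apply, hz]

lemma iCycles_injective (P : ProjectiveResolution X) (n : ℕ) :
    Function.Injective (cycleHom (Y := Y) P n) :=
  (ModuleCat.mono_iff_injective _).1 inferInstance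

lemma extMk_zero_deg_eq_zero (P : ProjectiveResolution X) (f : P.complex.X 0 ⟶ Y)
    (hf : P.complex.d 1 0 ≫ f = 0) (h : P.extMk f 1 rfl hf = 0) : f = 0 := by
  simp only [← P.extEquivCohomologyClass.apply_eq_iff_eq,
    ProjectiveResolution.extEquivCohomologyClass_extMk,
    ProjectiveResolution.extEquivCohomologyClass_zero,
    CochainComplex.HomComplex.CohomologyClass.mk_eq_zero_iff] at h
  rw [CochainComplex.HomComplex.Cocycle.toSingleMk_mem_coboundaries_iff _ _ _ _ _ 1 (by lia)] at h
  obtain ⟨g, hg⟩ := h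
  have : IsZero (P.cochainComplex.X 1) := P.cochainComplex.isZero_of_isStrictlyLE 0 1 (by lia)
  rw [this.eq_of_src g 0, comp_zero] at hg
  rw [← cancel_epi (P.cochainComplexXIso (-((0 : ℕ) : ℤ)) 0 rfl).hom]
  simpa using hg.symm

lemma ker_cyclesToExt (P : ProjectiveResolution X) (n : ℕ) :
    LinearMap.ker (cyclesToExt P Y n) = LinearMap.ker ((homCx P Y).homologyπ n).hom := by
  have hex : (ShortComplex.mk _ _ ((homCx P Y).toCycles_comp_homologyπ
      ((ComplexShape.up ℕ).prev n) n)).Exact :=
    ShortComplex.exact_of_g_is_cokernel _ ((homCx P Y).homologyIsCokernel _ _ rfl)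
  ext z
  simp only [LinearMap.mem_ker]
  constructor
  · intro h
    rcases n with _ | m
    · rw [cyclesToExt_apply] at h
      have h0 : cycleHom P 0 z = cycleHom P 0 0 :=
        (extMk_zero_deg_eq_zero P _ _ h).trans (map_zero ((homCx P Y).iCycles 0).hom).symm
      rw [iCycles_injective P 0 h0, map_zero]
    · rw [cyclesToExt_apply, P.extMk_eq_zero_iff _ _ _ _ m rfl] at h
      obtain ⟨g, hg⟩ := h
      have hz : z = (homCx P Y).toCycles m (m + 1) g := by
        apply iCycles_injective P (m + 1)
        exact hg.symm.trans (ConcreteCategory.congr_hom ((homCx P Y).toCycles_i m (m + 1)) g).symm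
      rw [hz]
      exact ConcreteCategory.congr_hom ((homCx P Y).toCycles_comp_homologyπ m (m + 1)) g
  · intro h
    obtain ⟨g, hg⟩ := ((ShortComplex.moduleCat_exact_iff _).1 hex) z h
    subst hg
    rcases n with _ | m
    · have h0 : (homCx P Y).toCycles ((ComplexShape.up ℕ).prev 0) 0 = 0 :=
        (homCx P Y).toCycles_eq_zero (by simp)
      change cyclesToExt P Y 0 (((homCx P Y).toCycles ((ComplexShape.up ℕ).prev 0) 0) g) = 0
      rw [h0]
      simp
    · rw [cyclesToExt_apply, P.extMk_eq_zero_iff _ _ _ _ _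
        (show (ComplexShape.up ℕ).prev (m + 1) + 1 = m + 1 by simp)]
      exact ⟨g, (ConcreteCategory.congr_hom ((homCx P Y).toCycles_i _ _) g).symm⟩

/-- Homology of `Hom(P,Y)` is `Ext`. -/
noncomputable def homologyEquivExt (P : ProjectiveResolution X) (Y : ModuleCat.{u} R) (n : ℕ) :
    (homCx P Y).homology n ≃ₗ[R] Abelian.Ext X Y n :=
  ((LinearMap.quotKerEquivOfSurjective ((homCx P Y).homologyπ n).hom
      ((ModuleCat.epi_iff_surjective _).1 inferInstance)).symm.trans
    (Submodule.quotEquivOfEq _ _ (ker_cyclesToExt P n).symm)).trans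
      (LinearMap.quotKerEquivOfSurjective _ (cyclesToExt_surjective P n))

lemma homologyEquivExt_π (P : ProjectiveResolution X) (n : ℕ) (z : (homCx P Y).cycles n) :
    homologyEquivExt P Y n ((homCx P Y).homologyπ n z) = cyclesToExt P Y n z := by
  simp only [homologyEquivExt, LinearEquiv.trans_apply]
  have h : (LinearMap.quotKerEquivOfSurjective ((homCx P Y).homologyπ n).hom
      ((ModuleCat.epi_iff_surjective _).1 inferInstance)).symm ((homCx P Y).homologyπ n z)
      = Submodule.Quotient.mk z := by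
    rw [LinearEquiv.symm_apply_eq]
    rfl
  rw [h]
  rfl

/-- `Abelian.Ext` with values in `R`-modules, as a functor of both variables. -/
noncomputable def extBifunctor (n : ℕ) :
    (ModuleCat.{u} R)ᵒᵖ ⥤ ModuleCat.{u} R ⥤ ModuleCat.{u} R where
  obj X :=
    { obj := fun Y => ModuleCat.of R (Abelian.Ext X.unop Y n)
      map := fun g => ModuleCat.ofHom
        ((Abelian.Ext.mk₀ g).postcompOfLinear R X.unop (add_zero n))
      map_id := fun Y => by ext α; simp
      map_comp := fun g g' => by ext α; simp }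
  map f :=
    { app := fun Y => ModuleCat.ofHom
        ((Abelian.Ext.mk₀ f.unop).precompOfLinear R Y (zero_add n))
      naturality := fun Y Y' g => by
        ext α
        exact (Abelian.Ext.comp_assoc _ _ _ (zero_add n) (add_zero n) (by lia)).symm }
  map_id X := by ext Y α; simp
  map_comp f f' := by ext Y α; simp

/-- The unop of a morphism of complexes. -/
abbrev unopMap {V : Type*} [Category V] [Abelian V]
    {K L : HomologicalComplex Vᵒᵖ (ComplexShape.down ℕ)} (ψ : K ⟶ L) : L.unop ⟶ K.unop :=
  (unopFunctor V _).map ψ.op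

lemma homologyUnop_inv_naturality {V : Type*} [Category V] [Abelian V]
    {K L : HomologicalComplex Vᵒᵖ (ComplexShape.down ℕ)} (ψ : K ⟶ L) (n : ℕ) :
    (homologyMap ψ n).unop ≫ (K.homologyUnop n).inv =
      (L.homologyUnop n).inv ≫ homologyMap (unopMap ψ) n := by
  rw [Iso.eq_inv_comp, ← Category.assoc, Iso.comp_inv_eq]
  apply Quiver.Hom.op_inj
  exact homologyOp_hom_naturality (unopMap ψ) n

lemma unop_comparison_naturality {V : Type*} [Category V] [Abelian V] {A B : Vᵒᵖ}
    {K L : HomologicalComplex Vᵒᵖ (ComplexShape.down ℕ)} (n : ℕ)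
    (e : A ≅ K.homology n) (e' : B ≅ L.homology n) (f : A ⟶ B) (ψ : K ⟶ L)
    (h : f ≫ e'.hom = e.hom ≫ homologyMap ψ n) :
    f.unop ≫ (e.unop.symm ≪≫ (K.homologyUnop n).symm).hom =
      (e'.unop.symm ≪≫ (L.homologyUnop n).symm).hom ≫ homologyMap (unopMap ψ) n := by
  have h' : e.inv ≫ f = homologyMap ψ n ≫ e'.inv := by
    rw [Iso.inv_comp_eq, ← Category.assoc, Iso.eq_comp_inv]
    exact h
  simp only [Iso.trans_hom, Iso.symm_hom, Iso.unop_inv, Category.assoc]
  rw [← homologyUnop_inv_naturality, ← Category.assoc, ← Category.assoc, ← unop_comp, ← unop_comp,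
    h']

lemma isoExt_hom_naturality_right (P : ProjectiveResolution X) (n : ℕ) (g : Y ⟶ Y') :
    ((Ext R (ModuleCat.{u} R) n).obj (op X)).map g ≫ (P.isoExt n Y').hom =
      (P.isoExt n Y).hom ≫ homologyMap
        (unopMap
          ((NatTrans.mapHomologicalComplex (NatTrans.rightOp ((linearYoneda R (ModuleCat.{u} R)).map g))
            (ComplexShape.down ℕ)).app P.complex)) n := by
  refine unop_comparison_naturality n
    (P.isoLeftDerivedObj ((linearYoneda R (ModuleCat.{u} R)).obj Y').rightOp n)
    (P.isoLeftDerivedObj ((linearYoneda R (ModuleCat.{u} R)).obj Y).rightOp n) _ _ ?_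
  change ((NatTrans.leftDerived (NatTrans.rightOp ((linearYoneda R (ModuleCat.{u} R)).map g)) n).app X)
    ≫ _ = _
  rw [P.leftDerived_app_eq]
  simp only [Category.assoc]
  erw [Iso.inv_hom_id, Category.comp_id]
  rfl

lemma isoExt_hom_naturality_left (P : ProjectiveResolution X) (P' : ProjectiveResolution X')
    (f : X' ⟶ X) (φ : ProjectiveResolution.Hom P' P f) (n : ℕ) :
    ((Ext R (ModuleCat.{u} R) n).map f.op).app Y ≫ (P'.isoExt n Y).hom =
      (P.isoExt n Y).hom ≫ homologyMap
        (unopMap
          ((((linearYoneda R (ModuleCat.{u} R)).obj Y).rightOp.mapHomologicalComplex _).map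
            φ.hom)) n := by
  refine unop_comparison_naturality n
    (P'.isoLeftDerivedObj ((linearYoneda R (ModuleCat.{u} R)).obj Y).rightOp n)
    (P.isoLeftDerivedObj ((linearYoneda R (ModuleCat.{u} R)).obj Y).rightOp n) _ _ ?_
  exact ProjectiveResolution.isoLeftDerivedObj_hom_naturality f P' P φ.hom φ.hom_f_zero_comp_π_f_zero _ n

/-- The comparison isomorphism at a pair of objects. -/
noncomputable def extIsoApp (X Y : ModuleCat.{u} R) (n : ℕ) :
    ((Ext R (ModuleCat.{u} R) n).obj (op X)).obj Y ≅ ModuleCat.of R (Abelian.Ext X Y n) :=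
  (projectiveResolution X).isoExt n Y ≪≫ (homologyEquivExt _ Y n).toModuleIso

lemma homologyEquivExt_homologyMap {P : ProjectiveResolution X} {P' : ProjectiveResolution X'}
    {n : ℕ} (ψ : homCx P Y ⟶ homCx P' Y')
    (T : Abelian.Ext X Y n → Abelian.Ext X' Y' n)
    (h : ∀ z : (homCx P Y).cycles n,
      cyclesToExt P' Y' n (cyclesMap ψ n z) = T (cyclesToExt P Y n z))
    (x : (homCx P Y).homology n) :
    homologyEquivExt P' Y' n (homologyMap ψ n x) = T (homologyEquivExt P Y n x) := by
  obtain ⟨z, rfl⟩ := (ModuleCat.epi_iff_surjective ((homCx P Y).homologyπ n)).1 inferInstance x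
  refine Eq.trans ?_ ((h z).trans (congrArg T (homologyEquivExt_π P n z).symm))
  rw [← homologyEquivExt_π P' n]
  exact congrArg _ (ConcreteCategory.congr_hom (homologyπ_naturality ψ n) z)

lemma cycleHom_cyclesMap {P : ProjectiveResolution X} {P' : ProjectiveResolution X'}
    {n : ℕ} (ψ : homCx P Y ⟶ homCx P' Y') (z : (homCx P Y).cycles n) :
    cycleHom P' n (cyclesMap ψ n z) = ψ.f n (cycleHom P n z) :=
  ConcreteCategory.congr_hom (cyclesMap_i ψ n) z

lemma extMk_congr (P : ProjectiveResolution X) {n : ℕ} {f g : P.complex.X n ⟶ Y} (h : f = g)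
    (hf : P.complex.d (n + 1) n ≫ f = 0) (hg : P.complex.d (n + 1) n ≫ g = 0) :
    P.extMk f (n + 1) rfl hf = P.extMk g (n + 1) rfl hg := by
  subst h; rfl

lemma square_comp {C : Type*} [Category C] {A A' B B' E E' : C} {f : A ⟶ A'} {u : A ⟶ B}
    {u' : A' ⟶ B'} {φ : B ⟶ B'} {v : B ⟶ E} {v' : B' ⟶ E'} {e : E ⟶ E'}
    (h₁ : f ≫ u' = u ≫ φ) (h₂ : φ ≫ v' = v ≫ e) : f ≫ u' ≫ v' = (u ≫ v) ≫ e := by
  rw [← Category.assoc, h₁, Category.assoc, h₂, Category.assoc]

lemma extIsoApp_naturality_right (n : ℕ) (g : Y ⟶ Y') :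
    ((Ext R (ModuleCat.{u} R) n).obj (op X)).map g ≫ (extIsoApp X Y' n).hom =
      (extIsoApp X Y n).hom ≫ ((extBifunctor n).obj (op X)).map g := by
  simp only [extIsoApp, Iso.trans_hom]
  refine square_comp (isoExt_hom_naturality_right _ n g) ?_
  ext x
  refine homologyEquivExt_homologyMap (P := projectiveResolution X) (P' := projectiveResolution X)
    _ (fun α => α.comp (Abelian.Ext.mk₀ g) (add_zero n)) (fun z => ?_) x
  simp only [cyclesToExt_apply, ProjectiveResolution.extMk_comp_mk₀]
  exact extMk_congr _ (cycleHom_cyclesMap _ z) _ _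

lemma extIsoApp_naturality_left (n : ℕ) (f : X' ⟶ X) :
    ((Ext R (ModuleCat.{u} R) n).map f.op).app Y ≫ (extIsoApp X' Y n).hom =
      (extIsoApp X Y n).hom ≫ ((extBifunctor n).map f.op).app Y := by
  obtain ⟨φ⟩ : Nonempty (ProjectiveResolution.Hom (projectiveResolution X')
      (projectiveResolution X) f) :=
    ⟨⟨ProjectiveResolution.lift f _ _, (ProjectiveResolution.lift_commutes_zero f _ _).trans (by simp)⟩⟩
  simp only [extIsoApp, Iso.trans_hom]
  refine square_comp (isoExt_hom_naturality_left _ _ f φ n) ?_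
  ext x
  refine homologyEquivExt_homologyMap (P := projectiveResolution X) (P' := projectiveResolution X')
    _ (fun α => (Abelian.Ext.mk₀ f).comp α (zero_add n)) (fun z => ?_) x
  simp only [cyclesToExt_apply, ProjectiveResolution.mk₀_comp_extMk _ _ _ _ φ]
  exact extMk_congr _ (cycleHom_cyclesMap _ z) _ _

/-- The old and the new `Ext` agree, naturally in both variables. -/
noncomputable def extIso (n : ℕ) : Ext R (ModuleCat.{u} R) n ≅ extBifunctor n :=
  NatIso.ofComponents
    (fun X => NatIso.ofComponents (fun Y => extIsoApp X.unop Y n)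
      (fun g => extIsoApp_naturality_right n g))
    (fun f => by
      ext : 2
      exact extIsoApp_naturality_left n f.unop)

end Groth.LocCohBase
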