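import Groth.Agent.LocCohBase.Nonvanishing
import Groth.Agent.LocCohBase.CdLocal
import Groth.Agent.Ega4Algebra1.CatenaryDim
import Groth.Agent.Matlis.Duality
import Groth.Agent.Gorenstein.InjDim

/-!
Local cohomology in the degree of the dimension: the dimension of the support through coheights,
surjectivity properties of `H^n_I`, and the regularity they force on a module whose Matlis dual is
`H^n_m(R)`.
-/

set_option autoImplicit false
universe u

open CategoryTheory IsLocalRing

namespace Groth.LocCohBase

variable {R : Type u} [CommRing R]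

/-- `dim Supp M ≤ n` in terms of coheights. -/
theorem supportDim_le_iff (M : Type u) [AddCommGroup M] [Module R M] [Module.Finite R M] (n : ℕ) :
    Module.supportDim R M ≤ n ↔ ∀ q ∈ Module.support R M, Order.coheight q ≤ n := by
  constructor
  · intro h q hq
    have hle : ringKrullDim (R ⧸ q.asIdeal) ≤ Module.supportDim R M := by
      rw [Module.supportDim_eq_ringKrullDim_quotient_annihilator]
      exact ringKrullDim_le_of_surjective _
        (Ideal.Quotient.factor_surjective (Module.mem_support_iff_of_finite.1 hq))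
    rw [Groth.Ega4Algebra1.ringKrullDim_quotient_eq_coheight R q] at hle
    exact WithBot.coe_le_coe.1 (hle.trans h)
  · intro h
    by_contra hlt
    rw [not_le] at hlt
    have h1 : ((n + 1 : ℕ) : WithBot ℕ∞) ≤ Module.supportDim R M := by
      revert hlt
      cases Module.supportDim R M with
      | bot => intro hlt; exact absurd hlt not_lt_bot
      | coe c =>
        intro hlt
        exact WithBot.coe_le_coe.2 (Order.add_one_le_of_lt (WithBot.coe_lt_coe.1 hlt))
    obtain ⟨l, hl⟩ := (Order.le_krullDim_iff (n := n + 1)).1 h1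
    have hco : ((n + 1 : ℕ) : ℕ∞) ≤ Order.coheight l.head.1 := by
      rw [← hl]
      exact Order.length_le_coheight (p := l.map Subtype.val fun _ _ h => h) le_rfl
    have h2 : ((n + 1 : ℕ) : ℕ∞) ≤ (n : ℕ∞) := hco.trans (h l.head.1 l.head.2)
    have h3 : n + 1 ≤ n := by exact_mod_cast h2
    omega

/-- `dim Supp M < n` in terms of coheights. -/
theorem supportDim_lt_iff (M : Type u) [AddCommGroup M] [Module R M] [Module.Finite R M] (n : ℕ) :
    Module.supportDim R M < n ↔ ∀ q ∈ Module.support R M, Order.coheight q < n := by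
  rcases n with _ | k
  · rw [show ((0 : ℕ) : WithBot ℕ∞) = 0 from rfl]
    constructor
    · intro h q hq
      exfalso
      haveI : Nontrivial M := by
        rw [← not_subsingleton_iff_nontrivial, ← Module.support_eq_empty_iff (R := R)]
        exact Set.nonempty_iff_ne_empty.1 ⟨q, hq⟩
      refine not_le_of_gt h ?_
      obtain ⟨c, hc⟩ := WithBot.ne_bot_iff_exists.1 (Module.supportDim_ne_bot_of_nontrivial R M)
      rw [← hc]
      exact WithBot.coe_le_coe.2 zero_le
    · intro h
      rcases subsingleton_or_nontrivial M with hM | hM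
      · rw [(Module.supportDim_eq_bot_iff_subsingleton R M).2 hM]
        exact WithBot.bot_lt_coe _
      · obtain ⟨q, hq⟩ : (Module.support R M).Nonempty := by
          rw [Set.nonempty_iff_ne_empty, Ne, Module.support_eq_empty_iff, not_subsingleton_iff_nontrivial]
          exact hM
        exact absurd (h q hq) not_lt_zero'
  · constructor
    · intro h q hq
      have h1 : Module.supportDim R M ≤ (k : WithBot ℕ∞) := by
        revert h
        cases Module.supportDim R M with
        | bot => exact fun _ => bot_le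
        | coe c =>
          intro h
          exact WithBot.coe_le_coe.2 (Order.le_of_lt_add_one (WithBot.coe_lt_coe.1 h))
      exact lt_of_le_of_lt ((supportDim_le_iff M k).1 h1 q hq) (by exact_mod_cast Nat.lt_succ_self k)
    · intro h
      refine lt_of_le_of_lt ((supportDim_le_iff M k).2 fun q hq => Order.le_of_lt_add_one (h q hq)) ?_
      exact_mod_cast Nat.lt_succ_self k

/-- Membership in the support of `M ⧸ aM`. -/
theorem mem_of_mem_support_quotient {M : Type u} [AddCommGroup M] [Module R M] [Module.Finite R M]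
    (f : M →ₗ[R] M) {a : R} (hf : ∀ x, f x = a • x) {q : PrimeSpectrum R}
    (hq : q ∈ Module.support R (M ⧸ LinearMap.range f)) :
    a ∈ q.asIdeal ∧ q ∈ Module.support R M := by
  refine ⟨Module.mem_support_iff_of_finite.1 hq (Module.mem_annihilator.2 fun x => ?_),
    Module.support_subset_of_surjective _ (Submodule.mkQ_surjective _) hq⟩
  obtain ⟨x, rfl⟩ := Submodule.mkQ_surjective _ x
  exact (Submodule.Quotient.mk_eq_zero _).2 ⟨x, hf x⟩

variable [IsNoetherianRing R] (I : Ideal R)

/-- Right exactness in the top degree. -/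
theorem H_top_map_surjective {M N : Type u} [AddCommGroup M] [Module R M] [Module.Finite R M]
    [AddCommGroup N] [Module R N] (g : M →ₗ[R] N) (hg : Function.Surjective g) {n : ℕ}
    (hM : Module.supportDim R M ≤ n) :
    Function.Surjective ((localCohomology I n).map (ModuleCat.ofHom g)).hom := by
  have hS := GrothGoren.seqCx_shortExact (LinearMap.ker g).subtype g
    (LinearMap.exact_subtype_ker_map g) (Submodule.injective_subtype _) hg
  haveI := isNoetherian_of_isNoetherianRing_of_finite R M
  haveI : Subsingleton (HH' I (n + 1) (ModuleCat.of R (LinearMap.ker g))) :=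
    subsingleton_H_of_supportDim_lt I (LinearMap.ker g) (i := n + 1)
      (lt_of_le_of_lt ((Module.supportDim_le_of_injective _ (Submodule.injective_subtype _)).trans hM)
        (by exact_mod_cast Nat.lt_succ_self n))
  exact fun y => (exact₃ (I := I) hS n y).1 (Subsingleton.elim _ _)

/-- An element cutting down the dimension acts surjectively in the top degree. -/
theorem H_top_smul_surjective (M : Type u) [AddCommGroup M] [Module R M] [Module.Finite R M]
    (a : R) {n : ℕ} (hM : Module.supportDim R M ≤ n)
    (ha : ∀ q ∈ Module.support R M, a ∈ q.asIdeal → Order.coheight q < n) :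
    Function.Surjective (fun x : LocCoh.H I n M => a • x) := by
  let f : M →ₗ[R] M := LinearMap.lsmul R M a
  let g : M →ₗ[R] LinearMap.range f := f.rangeRestrict
  have hg := H_top_map_surjective I g f.surjective_rangeRestrict hM
  have hS := GrothGoren.seqCx_shortExact (LinearMap.range f).subtype (LinearMap.range f).mkQ
    (LinearMap.exact_subtype_mkQ _) (Submodule.injective_subtype _) (Submodule.mkQ_surjective _)
  haveI : Subsingleton (HH' I n (ModuleCat.of R (M ⧸ LinearMap.range f))) :=
    subsingleton_H_of_supportDim_lt I (M ⧸ LinearMap.range f) ((supportDim_lt_iff _ n).2 fun q hq =>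
      ha q (mem_of_mem_support_quotient f (fun _ => rfl) hq).2
        (mem_of_mem_support_quotient f (fun _ => rfl) hq).1)
  intro y
  obtain ⟨w, hw⟩ := (exact₂ (I := I) hS n y).1 (Subsingleton.elim _ _)
  obtain ⟨x, hx⟩ := hg w
  refine ⟨x, ?_⟩
  refine (smul_eq_map (I := I) n (ModuleCat.of R M) a x).trans ?_
  rw [show a • 𝟙 (ModuleCat.of R M) = ModuleCat.ofHom g ≫ ModuleCat.ofHom (LinearMap.range f).subtype
    from ModuleCat.hom_ext rfl, Groth.LocCohTransform.map_comp', hx]
  exact hw

/-- A second element acts surjectively on the socle of a first one. -/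
theorem H_top_smul_surjective_kernel (a b : R) {n : ℕ}
    (hR : ringKrullDim R ≤ (n + 1 : ℕ))
    (ha : ∀ q : PrimeSpectrum R, a ∈ q.asIdeal → Order.coheight q ≤ n)
    (hab : ∀ q : PrimeSpectrum R, a ∈ q.asIdeal → b ∈ q.asIdeal → Order.coheight q < n) :
    ∀ z : LocCoh.H I (n + 1) R, a • z = 0 → ∃ w, a • w = 0 ∧ b • w = z := by
  let f : R →ₗ[R] R := LinearMap.lsmul R R a
  let g : R →ₗ[R] LinearMap.range f := f.rangeRestrict
  set N := LinearMap.ker g
  set Q := R ⧸ LinearMap.range f
  have hdimR : Module.supportDim R R ≤ (n + 1 : ℕ) := by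
    rw [Module.supportDim_self_eq_ringKrullDim]; exact hR
  have hg := H_top_map_surjective I g f.surjective_rangeRestrict hdimR
  have hS := GrothGoren.seqCx_shortExact (LinearMap.range f).subtype (LinearMap.range f).mkQ
    (LinearMap.exact_subtype_mkQ _) (Submodule.injective_subtype _) (Submodule.mkQ_surjective _)
  have hS' := GrothGoren.seqCx_shortExact N.subtype g
    (LinearMap.exact_subtype_ker_map g) (Submodule.injective_subtype _) f.surjective_rangeRestrict
  have hQb : Function.Surjective (fun x : LocCoh.H I n Q => b • x) :=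
    H_top_smul_surjective I Q b ((supportDim_le_iff Q n).2 fun q hq =>
      ha q (mem_of_mem_support_quotient f (fun _ => rfl) hq).1)
      fun q hq hb => hab q (mem_of_mem_support_quotient f (fun _ => rfl) hq).1 hb
  have hkill : ∀ x : N, a • x = 0 := fun x => Subtype.ext (show a • (x : R) = 0 from congrArg (Subtype.val (p := fun r => r ∈ LinearMap.range f)) (LinearMap.mem_ker.1 x.2))
  have hNa : ∀ q ∈ Module.support R N, a ∈ q.asIdeal := fun q hq =>
    Module.mem_support_iff_of_finite.1 hq (Module.mem_annihilator.2 hkill)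
  have hNb : Function.Surjective (fun x : LocCoh.H I (n + 1) N => b • x) :=
    H_top_smul_surjective I N b
      ((Module.supportDim_le_of_injective N.subtype (Submodule.injective_subtype _)).trans hdimR)
      fun q hq hb => lt_of_lt_of_le (hab q (hNa q hq) hb) (by exact_mod_cast Nat.le_succ n)
  intro z hz
  have hsmul : ∀ x : LocCoh.H I (n + 1) R, a • x = ((localCohomology I (n + 1)).map
      (ModuleCat.ofHom (LinearMap.range f).subtype)).hom
        (((localCohomology I (n + 1)).map (ModuleCat.ofHom g)).hom x) := fun x => by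
    refine (smul_eq_map (I := I) (n + 1) (ModuleCat.of R R) a x).trans ?_
    rw [show a • 𝟙 (ModuleCat.of R R) = ModuleCat.ofHom g ≫
      ModuleCat.ofHom (LinearMap.range f).subtype from ModuleCat.hom_ext rfl,
      Groth.LocCohTransform.map_comp']
  obtain ⟨w₀, hw₀⟩ := (exact₁ (I := I) hS n _).1 ((hsmul z).symm.trans hz)
  obtain ⟨w₁, hw₁⟩ := hQb w₀
  obtain ⟨z₁, hz₁⟩ := hg (δ (I := I) hS n w₁)
  obtain ⟨u₀, hu₀⟩ := (exact₂ (I := I) hS' (n + 1) (z - b • z₁)).1 (by
    rw [map_sub, map_smul]
    show ((localCohomology I (n + 1)).map (ModuleCat.ofHom g)).hom z -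
      b • ((localCohomology I (n + 1)).map (ModuleCat.ofHom g)).hom z₁ = 0
    rw [hz₁, ← map_smul, sub_eq_zero, ← hw₀]
    exact congrArg _ hw₁.symm)
  obtain ⟨u₁, hu₁⟩ := hNb u₀
  set z₂ := ((localCohomology I (n + 1)).map (ModuleCat.ofHom N.subtype)).hom u₁ with hz₂
  have ha₂ : a • z₂ = 0 := by
    rw [hz₂, ← map_smul]
    refine Eq.trans (congrArg _ ?_) (map_zero _)
    refine (smul_eq_map (I := I) (n + 1) (ModuleCat.of R N) a u₁).trans ?_
    rw [show a • 𝟙 (ModuleCat.of R N) = 0 from
      ModuleCat.hom_ext (LinearMap.ext fun x => hkill x), Groth.LocCohTransform.map_zero']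
  have ha₁ : a • z₁ = 0 := by
    rw [hsmul, hz₁]
    exact (exact₁ (I := I) hS n).apply_apply_eq_zero w₁
  refine ⟨z₁ + z₂, by rw [smul_add, ha₁, ha₂, add_zero], ?_⟩
  rw [smul_add, hz₂, ← map_smul,
    show b • u₁ = u₀ from hu₁,
    show ((localCohomology I (n + 1)).map (ModuleCat.ofHom N.subtype)).hom u₀ = z - b • z₁ from hu₀]
  abel

variable [IsLocalRing R]

/-- A prime of coheight `n = dim R` is minimal. -/
theorem mem_minimalPrimes_of_coheight_eq {n : ℕ} (hn : ringKrullDim R = n) {q : PrimeSpectrum R}
    (hq : (n : ℕ∞) ≤ Order.coheight q) {p : PrimeSpectrum R} (hp : p ≤ q) : p = q := by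
  by_contra hne
  have h1 : Order.coheight q + 1 ≤ Order.coheight p :=
    Order.coheight_add_one_le (lt_of_le_of_ne hp hne)
  have h2 : Order.coheight p ≤ (n : ℕ∞) := by
    have := Order.coheight_le_krullDim p
    rw [show Order.krullDim (PrimeSpectrum R) = ringKrullDim R from rfl, hn] at this
    exact WithBot.coe_le_coe.1 this
  have h3 : (n : ℕ∞) + 1 ≤ n := le_trans (add_le_add hq le_rfl) (h1.trans h2)
  norm_cast at h3
  omega

variable {E : Type u} [AddCommGroup E] [Module R E] {f : ResidueField R →ₗ[R] E}
  {K : Type u} [AddCommGroup K] [Module R K] {n : ℕ}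

/-- An element cutting down the dimension is regular on `K`. -/
theorem isSMulRegular_of_dual (hn : ringKrullDim R = n) (hf : InjHull.IsInjectiveHull f)
    (eK : (K →ₗ[R] E) ≃ₗ[R] LocCoh.H (maximalIdeal R) n R) {a : R}
    (ha : ∀ q : PrimeSpectrum R, a ∈ q.asIdeal → Order.coheight q < n) : IsSMulRegular K a := by
  refine isSMulRegular_iff_right_eq_zero_of_smul.2 fun x hx => ?_
  by_contra hne
  obtain ⟨φ, hφ⟩ := GrothMatlis.exists_dual_ne_zero hf hne
  obtain ⟨z, hz⟩ := H_top_smul_surjective (maximalIdeal R) R a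
    (by rw [Module.supportDim_self_eq_ringKrullDim, hn]) (fun q _ => ha q) (eK φ)
  refine hφ ?_
  have h1 : φ = a • eK.symm z := eK.injective (by
    rw [map_smul, LinearEquiv.apply_symm_apply]; exact hz.symm)
  rw [h1, LinearMap.smul_apply, ← map_smul, hx, map_zero]

/-- A second element is regular on `K ⧸ aK`. -/
theorem mem_smul_top_of_smul_mem (hn : ringKrullDim R = (n + 1 : ℕ))
    (hf : InjHull.IsInjectiveHull f)
    (eK : (K →ₗ[R] E) ≃ₗ[R] LocCoh.H (maximalIdeal R) (n + 1) R) {a b : R}
    (ha : ∀ q : PrimeSpectrum R, a ∈ q.asIdeal → Order.coheight q ≤ n)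
    (hab : ∀ q : PrimeSpectrum R, a ∈ q.asIdeal → b ∈ q.asIdeal → Order.coheight q < n)
    {x : K} (hx : b • x ∈ LinearMap.range (LinearMap.lsmul R K a)) :
    x ∈ LinearMap.range (LinearMap.lsmul R K a) := by
  by_contra hne
  set L := LinearMap.range (LinearMap.lsmul R K a)
  obtain ⟨φ₀, hφ₀⟩ := GrothMatlis.exists_dual_ne_zero hf
    (x := L.mkQ x) (fun h => hne ((Submodule.Quotient.mk_eq_zero L).1 h))
  let φ := φ₀ ∘ₗ L.mkQ
  have hφa : a • φ = 0 := LinearMap.ext fun y => by
    show a • φ₀ (L.mkQ y) = 0
    rw [← map_smul, ← map_smul, show L.mkQ (a • y) = 0 from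
      (Submodule.Quotient.mk_eq_zero L).2 ⟨y, rfl⟩, map_zero]
  obtain ⟨w, hw, hwz⟩ := H_top_smul_surjective_kernel (maximalIdeal R) a b hn.le ha hab (eK φ)
    (by rw [← map_smul, hφa, map_zero])
  have h1 : φ = b • eK.symm w := eK.injective (by
    rw [map_smul, LinearEquiv.apply_symm_apply, hwz])
  obtain ⟨y, hy⟩ := hx
  refine hφ₀ ?_
  show φ x = 0
  rw [h1, LinearMap.smul_apply, ← map_smul, ← hy, LinearMap.lsmul_apply, map_smul,
    ← LinearMap.smul_apply, ← map_smul, hw, map_zero, LinearMap.zero_apply]

/-- The support of `K` contains the primes of coheight `n`. -/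
theorem mem_support_of_coheight_eq [Module.Finite R K] (hn : ringKrullDim R = n)
    (eK : (K →ₗ[R] E) ≃ₗ[R] LocCoh.H (maximalIdeal R) n R) {q : PrimeSpectrum R}
    (hq : Order.coheight q = n) : q ∈ Module.support R K := by
  rw [Module.mem_support_iff_of_finite]
  by_contra hle
  obtain ⟨c, hc, hcq⟩ := SetLike.not_le_iff_exists.1 hle
  have hdim : Module.supportDim R (R ⧸ q.asIdeal) = (n : ℕ) := by
    rw [Module.supportDim_quotient_eq_ringKrullDim,
      Groth.Ega4Algebra1.ringKrullDim_quotient_eq_coheight R q, hq]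
    rfl
  haveI : Nontrivial (R ⧸ q.asIdeal) := Ideal.Quotient.nontrivial_iff.2 q.isPrime.ne_top
  haveI := nontrivial_H_supportDim (R ⧸ q.asIdeal) n hdim
  have hsurj := H_top_map_surjective (maximalIdeal R) (Submodule.mkQ q.asIdeal)
    (Submodule.mkQ_surjective _) (n := n) (by rw [Module.supportDim_self_eq_ringKrullDim, hn])
  have hcsurj := H_top_smul_surjective (maximalIdeal R) (R ⧸ q.asIdeal) c hdim.le fun P hP hcP => by
    have hqP : q ≤ P := fun x hx => Module.mem_support_iff_of_finite.1 hP (by
      rw [Ideal.annihilator_quotient]; exact hx)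
    have hne : q ≠ P := fun h => hcq (by rw [h]; exact hcP)
    have h1 := Order.coheight_add_one_le (lt_of_le_of_ne hqP hne)
    rw [hq] at h1
    revert h1
    generalize Order.coheight P = t
    cases t with
    | top => simp
    | coe t => intro h1; norm_cast at h1 ⊢
  refine not_subsingleton (LocCoh.H (maximalIdeal R) n (R ⧸ q.asIdeal))
    (subsingleton_of_forall_eq 0 fun y => ?_)
  obtain ⟨y', hy'⟩ := hcsurj y
  obtain ⟨z, hz⟩ := hsurj y'
  have hcz : c • z = 0 := by
    obtain ⟨φ, rfl⟩ := eK.surjective z
    rw [← map_smul, show c • φ = 0 from LinearMap.ext fun x => by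
      show c • φ x = 0
      rw [← map_smul, Module.mem_annihilator.1 hc x, map_zero], map_zero]
  rw [← hy', ← hz]
  show c • _ = 0
  rw [← map_smul, hcz, map_zero]

/-- The associated primes of `K` are the primes of coheight `n`. -/
theorem mem_associatedPrimes_iff [Module.Finite R K] (hn : ringKrullDim R = n)
    (hf : InjHull.IsInjectiveHull f)
    (eK : (K →ₗ[R] E) ≃ₗ[R] LocCoh.H (maximalIdeal R) n R) (q : PrimeSpectrum R) :
    q.asIdeal ∈ associatedPrimes R K ↔ Order.coheight q = n := by
  constructor
  · intro hq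
    set W := {P : Ideal R | P ∈ minimalPrimes R ∧ (n : WithBot ℕ∞) ≤ ringKrullDim (R ⧸ P)}
    have hWfin : W.Finite :=
      (minimalPrimes.finite_of_isNoetherianRing R).subset fun P hP => hP.1
    have hsub : (q.asIdeal : Set R) ⊆ ⋃ P ∈ W, (P : Set R) := by
      intro a ha
      by_contra hnot
      have hreg := isSMulRegular_of_dual hn hf eK (a := a) fun P hP => by
        by_contra hcon
        rw [not_lt] at hcon
        refine hnot (Set.mem_iUnion₂.2 ⟨P.asIdeal, ⟨?_, ?_⟩, hP⟩)
        · refine ⟨⟨P.isPrime, bot_le⟩, fun Q hQ hQP => ?_⟩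
          have := mem_minimalPrimes_of_coheight_eq hn hcon (p := ⟨Q, hQ.1⟩) hQP
          exact (congrArg PrimeSpectrum.asIdeal this).ge
        · rw [Groth.Ega4Algebra1.ringKrullDim_quotient_eq_coheight R P]
          exact WithBot.coe_le_coe.2 hcon
      have hmem : a ∈ ⋃ P ∈ associatedPrimes R K, (P : Set R) := Set.mem_biUnion hq ha
      rw [biUnion_associatedPrimes_eq_compl_regular] at hmem
      exact hmem hreg
    obtain ⟨P, hP, hle⟩ := (q.asIdeal.subset_union_prime_finite hWfin
      (f := id) 0 0 fun Q h _ _ => h.1.1.1).1 hsub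
    have hqP : q.asIdeal = P := le_antisymm hle (hP.1.2 ⟨q.isPrime, bot_le⟩ hle)
    have h1 := hP.2
    rw [← hqP, Groth.Ega4Algebra1.ringKrullDim_quotient_eq_coheight R q] at h1
    refine le_antisymm ?_ (WithBot.coe_le_coe.1 h1)
    have := Order.coheight_le_krullDim q
    rw [show Order.krullDim (PrimeSpectrum R) = ringKrullDim R from rfl, hn] at this
    exact WithBot.coe_le_coe.1 this
  · intro hq
    have hsupp := mem_support_of_coheight_eq hn eK hq
    obtain ⟨P, hP, hPq⟩ := Ideal.exists_minimalPrimes_le (Module.mem_support_iff_of_finite.1 hsupp)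
    haveI := hP.1.1
    have := mem_minimalPrimes_of_coheight_eq hn hq.ge (p := ⟨P, inferInstance⟩) hPq
    have hPq' : P = q.asIdeal := congrArg PrimeSpectrum.asIdeal this
    exact hPq' ▸ Module.associatedPrimes.minimalPrimes_annihilator_subset_associatedPrimes R K hP

end Groth.LocCohBase
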