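import Groth.Agent.LocCohBase.Ischebeck
import Groth.Agent.LocDual.Specialization

/-!
Depth along a specialisation: `depth M_s ≤ depth M_p + ht (s/p)`.
-/

set_option autoImplicit false
universe u

open IsLocalRing Groth.LocDual

namespace Groth.LocCohBase

variable {A : Type u} [CommRing A] [IsNoetherianRing A]

/-- Depth in an iterated localisation. -/
theorem depth_localized_localized (q : Ideal A) [q.IsPrime]
    (p' : Ideal (Localization.AtPrime q)) [p'.IsPrime] (p : Ideal A) [p.IsPrime]
    (hp : p = p'.comap (algebraMap A (Localization.AtPrime q)))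
    (M : Type u) [AddCommGroup M] [Module A M] [Module.Finite A M] :
    LocCoh.depth (Localization.AtPrime p') (LocalizedModule p'.primeCompl
        (LocalizedModule q.primeCompl M)) =
      LocCoh.depth (Localization.AtPrime p) (LocalizedModule p.primeCompl M) := by
  have : Module.Finite (Localization.AtPrime q) (LocalizedModule q.primeCompl M) :=
    Module.Finite.of_isLocalizedModule q.primeCompl (LocalizedModule.mkLinearMap q.primeCompl M)
  have : Module.Finite (Localization.AtPrime p) (LocalizedModule p.primeCompl M) :=
    Module.Finite.of_isLocalizedModule p.primeCompl (LocalizedModule.mkLinearMap p.primeCompl M)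
  have : Module.Finite (Localization.AtPrime p')
      (LocalizedModule p'.primeCompl (LocalizedModule q.primeCompl M)) :=
    Module.Finite.of_isLocalizedModule p'.primeCompl
      (LocalizedModule.mkLinearMap p'.primeCompl (LocalizedModule q.primeCompl M))
  have key : ∀ n : ℕ, (n : ℕ∞) ≤ LocCoh.depth (Localization.AtPrime p')
      (LocalizedModule p'.primeCompl (LocalizedModule q.primeCompl M)) ↔
      (n : ℕ∞) ≤ LocCoh.depth (Localization.AtPrime p) (LocalizedModule p.primeCompl M) := fun n => by
    rw [LocCoh.depth, LocCoh.depth, le_idealDepth_iff_localCohomology,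
      le_idealDepth_iff_localCohomology]
    exact forall₂_congr fun j _ => subsingleton_H_localized_localized q p' p hp M j
  exact le_antisymm (le_iff_forall_nat_le.2 fun n hn => (key n).1 hn)
    (le_iff_forall_nat_le.2 fun n hn => (key n).2 hn)

/-- `depth M_s ≤ depth M_p + e` when `s` has height at most `e` above `p`. -/
theorem depth_le_depth_add_height (p s : PrimeSpectrum A) (h : p ≤ s) {e : ℕ}
    (he : Order.height (⟨s, h⟩ : Set.Ici p) ≤ e)
    (M : Type u) [AddCommGroup M] [Module A M] [Module.Finite A M] :
    LocCoh.depth (Localization.AtPrime s.asIdeal) (LocalizedModule s.asIdeal.primeCompl M) ≤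
      LocCoh.depth (Localization.AtPrime p.asIdeal) (LocalizedModule p.asIdeal.primeCompl M) +
        (e : ℕ∞) := by
  have : Module.Finite (Localization.AtPrime s.asIdeal)
      (LocalizedModule s.asIdeal.primeCompl M) :=
    Module.Finite.of_isLocalizedModule s.asIdeal.primeCompl
      (LocalizedModule.mkLinearMap s.asIdeal.primeCompl M)
  have hdisj : Disjoint (s.asIdeal.primeCompl : Set A) p.asIdeal :=
    Set.disjoint_left.2 fun x hx hxp => hx (h hxp)
  set P := p.asIdeal.map (algebraMap A (Localization.AtPrime s.asIdeal))
  have : P.IsPrime := IsLocalization.isPrime_of_isPrime_disjoint s.asIdeal.primeCompl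
    (Localization.AtPrime s.asIdeal) p.asIdeal p.isPrime hdisj
  have hP : p.asIdeal = P.comap (algebraMap A (Localization.AtPrime s.asIdeal)) :=
    (IsLocalization.under_map_of_isPrime_disjoint s.asIdeal.primeCompl _ p.isPrime hdisj).symm
  rw [← depth_localized_localized s.asIdeal P p.asIdeal hP M]
  refine depth_le_depth_localized_add P ?_ _
  rw [ringKrullDim_quotient_localized s P p hP h]
  exact WithBot.coe_le_coe.2 he

/-- The height in the interval is at most the height in the quotient. -/
theorem height_Ici_le_height_map (p s : PrimeSpectrum A) (h : p ≤ s) :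
    Order.height (⟨s, h⟩ : Set.Ici p) ≤ (s.asIdeal.map (Ideal.Quotient.mk p.asIdeal)).height := by
  have hp : ∀ x : Set.Ici p, (x.1.asIdeal.map (Ideal.Quotient.mk p.asIdeal)).IsPrime := fun x =>
    Ideal.map_isPrime_of_surjective Ideal.Quotient.mk_surjective (by rw [Ideal.mk_ker]; exact x.2)
  have hc : ∀ x : Set.Ici p, (x.1.asIdeal.map (Ideal.Quotient.mk p.asIdeal)).comap
      (Ideal.Quotient.mk p.asIdeal) = x.1.asIdeal := fun x => by
    rw [Ideal.comap_map_of_surjective _ Ideal.Quotient.mk_surjective]
    refine sup_eq_left.2 ?_
    rw [← RingHom.ker_eq_comap_bot, Ideal.mk_ker]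
    exact x.2
  let f : Set.Ici p → PrimeSpectrum (A ⧸ p.asIdeal) := fun x => ⟨_, hp x⟩
  have hf : StrictMono f := fun x y hxy => by
    refine lt_of_le_not_ge (Ideal.map_mono hxy.le) fun hge => not_le_of_gt hxy ?_
    show y.1.asIdeal ≤ x.1.asIdeal
    rw [← hc x, ← hc y]
    exact Ideal.comap_mono hge
  refine (Order.height_le_height_apply_of_strictMono f hf ⟨s, h⟩).trans ?_
  rw [← PrimeSpectrum.height_eq_orderHeight]

end Groth.LocCohBase
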