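import Groth.Agent.LocCohBase.Cd
import Mathlib.RingTheory.Regular.LinearMap
import Mathlib.RingTheory.Ideal.AssociatedPrime.Basic
import Mathlib.RingTheory.Spectrum.Prime.Topology

/-!
Vanishing of `H^i_J(G)`, `i < n`, versus vanishing of `Ext^i(F,G)` for `F` supported on `V(J)`.
-/

set_option autoImplicit false

universe u

open CategoryTheory

namespace Groth.LocCohBase

variable {R : Type u} [CommRing R] [IsNoetherianRing R]

/-- A module supported in the support of a finite `P` without nonzero map from `P` is zero. -/
lemma subsingleton_of_hom_subsingleton (P H : Type u) [AddCommGroup P] [Module R P]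
    [Module.Finite R P] [AddCommGroup H] [Module R H]
    (hsupp : Module.support R H ⊆ Module.support R P) (hhom : Subsingleton (P →ₗ[R] H)) :
    Subsingleton H := by
  by_contra hne
  rw [not_subsingleton_iff_nontrivial] at hne
  obtain ⟨q, hq⟩ := associatedPrimes.nonempty R H
  obtain ⟨hqp, x, hx⟩ := AssociatedPrimes.mem_iff.1 hq |> isAssociatedPrime_iff.1
  have hxH : (⟨q, hqp⟩ : PrimeSpectrum R) ∈ Module.support R H :=
    Module.mem_support_iff_exists_annihilator.2 ⟨x, fun r hr => by
      change r ∈ q
      rw [hx, Submodule.mem_colon_singleton, Submodule.mem_bot]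
      exact (Submodule.mem_annihilator_span_singleton x r).1 hr⟩
  have hP := hsupp hxH
  rw [Module.support_eq_zeroLocus] at hP
  have hle : Module.annihilator R P ≤ q := hP
  have hnt : ¬ Subsingleton (P →ₗ[R] (R ⧸ q)) := by
    rw [IsSMulRegular.subsingleton_linearMap_iff]
    rintro ⟨r, hr, hreg⟩
    have h0 : r • (Ideal.Quotient.mk q 1) = 0 := by
      rw [show r • Ideal.Quotient.mk q 1 = Ideal.Quotient.mk q (r • 1) from rfl]
      exact Ideal.Quotient.eq_zero_iff_mem.2 (by simpa using hle hr)
    have h1 := hreg.right_eq_zero_of_smul h0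
    exact hqp.ne_top ((Ideal.eq_top_iff_one q).2 (Ideal.Quotient.eq_zero_iff_mem.1 h1))
  obtain ⟨f, hf⟩ : ∃ f : P →ₗ[R] (R ⧸ q), f ≠ 0 := by
    by_contra h
    push Not at h
    exact hnt (subsingleton_of_forall_eq 0 h)
  let ι : (R ⧸ q) →ₗ[R] H := Submodule.liftQ q (LinearMap.toSpanSingleton R H x) (fun r hr => by
    rw [hx, Submodule.mem_colon_singleton, Submodule.mem_bot] at hr
    simpa using hr)
  have hι : Function.Injective ι := by
    rw [← LinearMap.ker_eq_bot, Submodule.ker_liftQ_eq_bot']
    ext r
    rw [hx, Submodule.mem_colon_singleton, Submodule.mem_bot]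
    simp
  refine hf (LinearMap.ext fun p => hι ?_)
  rw [LinearMap.zero_apply, map_zero]
  exact LinearMap.congr_fun (hhom.elim (ι ∘ₗ f) 0) p

omit [IsNoetherianRing R] in
lemma subsingleton_ext_zero_iff (F G : ModuleCat.{u} R) :
    Subsingleton (Abelian.Ext F G 0) ↔ Subsingleton (F →ₗ[R] G) :=
  ((Abelian.Ext.addEquiv₀ (C := ModuleCat.{u} R)).trans ModuleCat.homAddEquiv).toEquiv.subsingleton_congr

lemma subsingleton_hom_of_torsionSub_eq_bot (J : Ideal R) (F : Type u) [AddCommGroup F] [Module R F]
    [Module.Finite R F] (hF : Module.support R F ⊆ PrimeSpectrum.zeroLocus (J : Set R))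
    (G : Type u) [AddCommGroup G] [Module R G] (hG : DRing.torsionSub J G = ⊥) :
    Subsingleton (F →ₗ[R] G) := by
  rw [Module.support_eq_zeroLocus, PrimeSpectrum.zeroLocus_subset_zeroLocus_iff] at hF
  obtain ⟨k, hk⟩ := Ideal.exists_pow_le_of_le_radical_of_fg hF (IsNoetherian.noetherian J)
  refine subsingleton_of_forall_eq 0 fun f => LinearMap.ext fun x => ?_
  have : f x ∈ DRing.torsionSub J G := ⟨k, fun a ha => by
    rw [← map_smul, Module.mem_annihilator.1 (hk ha), map_zero]⟩
  rw [hG, Submodule.mem_bot] at this
  exact this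

lemma ext_subsingleton_of_H (J : Ideal R) (n : ℕ) :
    ∀ (G : Type u) [AddCommGroup G] [Module R G], (∀ i < n, Subsingleton (LocCoh.H J i G)) →
      ∀ (F : Type u) [AddCommGroup F] [Module R F], Module.Finite R F →
        Module.support R F ⊆ PrimeSpectrum.zeroLocus (J : Set R) →
        ∀ i < n, Subsingleton (Abelian.Ext (ModuleCat.of R F) (ModuleCat.of R G) i) := by
  induction n with
  | zero => intros; omega
  | succ n ih =>
    intro G _ _ hG F _ _ hFf hF i hi
    have hG0 : DRing.torsionSub J G = ⊥ := (subsingleton_H_zero_iff J G).1 (hG 0 n.succ_pos)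
    rcases i with _ | i
    · exact (subsingleton_ext_zero_iff _ _).2 (subsingleton_hom_of_torsionSub_eq_bot J F hF G hG0)
    · obtain ⟨E, f, hf, hE, hinj⟩ := exists_injective_torsionFree_embedding J G hG0
      have hS := subSeq_shortExact (LinearMap.range f)
      have e := LinearEquiv.ofInjective f hf
      have hQ : ∀ j < n, Subsingleton (LocCoh.H J j (E ⧸ LinearMap.range f)) := by
        intro j hj
        refine subsingleton_X₃ hS j ?_ ((subsingleton_H_congr J (j + 1) e).1 (hG (j + 1) (by omega)))
        rcases j with _ | j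
        · exact (subsingleton_H_zero_iff J E).2 hE
        · exact subsingleton_succ_of_injective j E
      have h1 := ih _ hQ F hFf hF i (by omega)
      have h2 : Subsingleton (Abelian.Ext (ModuleCat.of R F) (subSeq (LinearMap.range f)).X₁ (i + 1)) :=
        ext_subsingleton_X₁ hS _ i h1
          (subsingleton_of_forall_eq 0 fun x => x.eq_zero_of_injective (I := E))
      have e' := e.toModuleIso
      refine subsingleton_of_forall_eq 0 fun α => ?_
      have h3 : α.comp (Abelian.Ext.mk₀ e'.hom) (add_zero (i + 1)) = 0 := h2.elim _ _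
      calc α = (α.comp (Abelian.Ext.mk₀ e'.hom) (add_zero (i + 1))).comp
            (Abelian.Ext.mk₀ e'.inv) (add_zero (i + 1)) := by
              rw [Abelian.Ext.comp_assoc_of_second_deg_zero, Abelian.Ext.mk₀_comp_mk₀,
                Iso.hom_inv_id, Abelian.Ext.comp_mk₀_id]
        _ = 0 := by rw [h3, Abelian.Ext.zero_comp]

lemma H_subsingleton_of_ext (J : Ideal R) (F : Type u) [AddCommGroup F] [Module R F]
    [Module.Finite R F] (hF : Module.support R F = PrimeSpectrum.zeroLocus (J : Set R)) (n : ℕ) :
    ∀ (G : Type u) [AddCommGroup G] [Module R G],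
      (∀ i < n, Subsingleton (Abelian.Ext (ModuleCat.of R F) (ModuleCat.of R G) i)) →
      ∀ i < n, Subsingleton (LocCoh.H J i G) := by
  induction n with
  | zero => intros; omega
  | succ n ih =>
    intro G _ _ hG i hi
    have hG0 : DRing.torsionSub J G = ⊥ := by
      rw [← Submodule.subsingleton_iff_eq_bot]
      refine subsingleton_of_hom_subsingleton (R := R) F _ ?_ ?_
      · rw [hF]
        intro p hp
        obtain ⟨⟨m, k, hk⟩, hm⟩ := (Module.mem_support_iff_exists_annihilator (R := R)).1 hp
        intro a ha
        refine p.2.mem_of_pow_mem k (hm ?_)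
        rw [Submodule.mem_annihilator_span_singleton]
        exact Subtype.ext (hk _ (Ideal.pow_mem_pow ha k) : a ^ k • m = 0)
      · have := (subsingleton_ext_zero_iff _ _).1 (hG 0 n.succ_pos)
        exact (show Function.Injective fun φ : F →ₗ[R] DRing.torsionSub J G =>
            (DRing.torsionSub J G).subtype ∘ₗ φ from
          fun a b h => LinearMap.ext fun x => Subtype.ext (LinearMap.congr_fun h x)).subsingleton
    rcases i with _ | i
    · exact (subsingleton_H_zero_iff J G).2 hG0
    · obtain ⟨E, f, hf, hE, hinj⟩ := exists_injective_torsionFree_embedding J G hG0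
      have hS := subSeq_shortExact (LinearMap.range f)
      have e := LinearEquiv.ofInjective f hf
      rw [subsingleton_H_congr J (i + 1) e]
      refine subsingleton_X₁ hS i (ih _ (fun j hj => ?_) i (by omega))
        (subsingleton_succ_of_injective i E)
      refine ext_subsingleton_X₃ hS _ j ?_ ?_
      · rcases j with _ | j
        · exact (subsingleton_ext_zero_iff _ _).2
            (subsingleton_hom_of_torsionSub_eq_bot J F hF.subset E hE)
        · exact subsingleton_of_forall_eq 0 fun x => x.eq_zero_of_injective (I := E)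
      · have := hG (j + 1) (by omega)
        refine subsingleton_of_forall_eq 0 fun α => ?_
        have h3 : α.comp (Abelian.Ext.mk₀ e.toModuleIso.inv) (add_zero (j + 1)) = 0 := this.elim _ _
        calc α = (α.comp (Abelian.Ext.mk₀ e.toModuleIso.inv) (add_zero (j + 1))).comp
              (Abelian.Ext.mk₀ e.toModuleIso.hom) (add_zero (j + 1)) := by
                rw [Abelian.Ext.comp_assoc_of_second_deg_zero, Abelian.Ext.mk₀_comp_mk₀,
                  Iso.inv_hom_id, Abelian.Ext.comp_mk₀_id]
          _ = 0 := by rw [h3, Abelian.Ext.zero_comp]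

end Groth.LocCohBase
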