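import Groth.Agent.LocCohBase.CM
import Mathlib.RingTheory.Spectrum.Prime.Topology

/-!
Hartshorne's connectedness lemma.
-/

set_option autoImplicit false

universe u

open RingTheory.Sequence IsLocalRing Pointwise

namespace Groth.LocCohBase

variable {R : Type u} [CommRing R] [IsLocalRing R] [IsNoetherianRing R]

/-- In depth at least two, two nonzero proper ideals with zero product do not have an `m`-primary sum. -/
theorem false_of_mul_eq_bot (h : 2 ≤ LocCoh.depth R R) {I J : Ideal R} (hIJ : I * J = ⊥)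
    (hI : I ≠ ⊥) (hJ : J ≠ ⊥) (hI' : I ≤ maximalIdeal R) (hJ' : J ≤ maximalIdeal R)
    (hrad : maximalIdeal R ≤ (I ⊔ J).radical) : False := by
  have hr : (I ⊔ J).radical = (maximalIdeal R).radical :=
    le_antisymm (Ideal.radical_mono (sup_le hI' hJ')) (Ideal.radical_le_radical_iff.2 hrad)
  have hd : ((2 : ℕ) : ℕ∞) ≤ LocCoh.idealDepth (I ⊔ J) R := by
    rw [idealDepth_eq_of_radical_eq hr R]
    exact_mod_cast h
  have hne : (I ⊔ J) • (⊤ : Submodule R R) ≠ ⊤ := smul_maximalIdeal_ne_top R fun e =>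
    (maximalIdeal.isMaximal R).ne_top (top_le_iff.1 (e ▸ sup_le hI' hJ'))
  obtain ⟨rs, hlen, hrs, hmem⟩ := (le_idealDepth_iff_exists (I ⊔ J) hne 2).1 hd
  obtain ⟨x, y, rfl⟩ := List.length_eq_two.1 hlen
  rw [isWeaklyRegular_cons_iff, isWeaklyRegular_singleton_iff] at hrs
  obtain ⟨a, ha, b, hb, rfl⟩ := Submodule.mem_sup.1 (hmem x (by simp))
  obtain ⟨c, hc, d, hd', rfl⟩ := Submodule.mem_sup.1 (hmem y (by simp))
  have h0 : ∀ u ∈ I, ∀ v ∈ J, u * v = 0 := fun u hu v hv => by
    rw [← Ideal.mem_bot (R := R), ← hIJ]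
    exact Ideal.mul_mem_mul hu hv
  have hab := h0 a ha b hb
  have had := h0 a ha d hd'
  have hcb := h0 c hc b hb
  -- `y a = x c`
  have h1 : (c + d) • (Submodule.Quotient.mk a : QuotSMulTop (a + b) R) = 0 := by
    rw [← Submodule.Quotient.mk_smul, Submodule.Quotient.mk_eq_zero,
      Submodule.mem_smul_pointwise_iff_exists]
    exact ⟨c, trivial, by simp only [smul_eq_mul]; linear_combination hcb - had⟩
  have h2 := hrs.2.right_eq_zero_of_smul h1
  rw [Submodule.Quotient.mk_eq_zero, Submodule.mem_smul_pointwise_iff_exists] at h2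
  obtain ⟨e, -, he⟩ := h2
  rw [smul_eq_mul] at he
  -- `e` is idempotent
  have h3 : (a + b) • ((a + b) • (e * e - e)) = 0 := by
    simp only [smul_eq_mul]
    linear_combination ((a + b) * e + a - (a + b)) * he - hab
  have h4 : e * e - e = 0 := hrs.1.right_eq_zero_of_smul (hrs.1.right_eq_zero_of_smul h3)
  have key : ∀ (K : Ideal R), K ≠ ⊥ → (∀ u ∈ K, u * (a + b) = 0) → False := fun K hK hu =>
    hK ((Submodule.eq_bot_iff _).2 fun u huK => hrs.1.right_eq_zero_of_smul (by
      rw [smul_eq_mul, mul_comm]; exact hu u huK))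
  rcases IsLocalRing.isUnit_or_isUnit_one_sub_self e with hu | hu
  · have he1 : e = 1 := hu.mul_left_cancel (by linear_combination h4)
    refine key J hJ fun u hu => ?_
    have hb0 : b = 0 := by rw [he1, mul_one] at he; linear_combination he
    rw [hb0, add_zero, mul_comm]
    exact h0 a ha u hu
  · have he0 : e = 0 := (hu.mul_left_eq_zero).1 (by linear_combination -h4)
    refine key I hI fun u hu => ?_
    rw [he0, mul_zero] at he
    rw [← he, zero_add]
    exact h0 u hu b hb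

/-- A zero-locus decomposition into two pieces meeting only at the closed point. -/
theorem false_of_zeroLocus (h : 2 ≤ LocCoh.depth R R) {I J : Ideal R}
    (hcover : ∀ q : Ideal R, q.IsPrime → I * J ≤ q)
    (hmeet : ∀ q : Ideal R, q.IsPrime → I ≤ q → J ≤ q → q = maximalIdeal R)
    {p₁ p₂ : Ideal R} (hp₁ : p₁.IsPrime) (hp₂ : p₂.IsPrime) (h₁ : I ≤ p₁) (h₂ : J ≤ p₂)
    (h₁' : p₁ ≠ maximalIdeal R) (h₂' : p₂ ≠ maximalIdeal R) : False := by
  have hnil : I * J ≤ (⊥ : Ideal R).radical := by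
    rw [Ideal.radical_eq_sInf, le_sInf_iff]
    exact fun q hq => hcover q hq.2
  obtain ⟨N, hN⟩ := Ideal.exists_pow_le_of_le_radical_of_fg hnil (IsNoetherian.noetherian _)
  have hIm : I ≤ maximalIdeal R := h₁.trans (IsLocalRing.le_maximalIdeal hp₁.ne_top)
  have hJm : J ≤ maximalIdeal R := h₂.trans (IsLocalRing.le_maximalIdeal hp₂.ne_top)
  refine false_of_mul_eq_bot h (I := I ^ (N + 1)) (J := J ^ (N + 1)) ?_ ?_ ?_
    ((Ideal.pow_le_self (Nat.succ_ne_zero N)).trans hIm)
    ((Ideal.pow_le_self (Nat.succ_ne_zero N)).trans hJm) ?_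
  · rw [← mul_pow]
    exact le_bot_iff.1 ((Ideal.pow_le_pow_right (Nat.le_succ N)).trans hN)
  · intro e
    exact h₂' (hmeet p₂ hp₂ (Ideal.IsPrime.le_of_pow_le (n := N + 1) (e.le.trans bot_le)) h₂)
  · intro e
    exact h₁' (hmeet p₁ hp₁ h₁ (Ideal.IsPrime.le_of_pow_le (n := N + 1) (e.le.trans bot_le)))
  · rw [Ideal.radical_eq_sInf, le_sInf_iff]
    rintro q ⟨hq, hqp⟩
    exact (hmeet q hqp (Ideal.IsPrime.le_of_pow_le (le_sup_left.trans hq))
      (Ideal.IsPrime.le_of_pow_le (le_sup_right.trans hq))).ge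

/-- The punctured spectrum in depth at least two is connected. -/
theorem isConnected_punctured (h : 2 ≤ LocCoh.depth R R) :
    IsConnected {x : PrimeSpectrum R | x.asIdeal ≠ maximalIdeal R} := by
  constructor
  · by_contra hne
    rw [Set.not_nonempty_iff_eq_empty] at hne
    have hnil : maximalIdeal R ≤ (⊥ : Ideal R).radical := by
      rw [Ideal.radical_eq_sInf, le_sInf_iff]
      rintro q ⟨-, hq⟩
      by_contra hcon
      exact Set.eq_empty_iff_forall_notMem.1 hne ⟨q, hq⟩ fun e => hcon e.ge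
    have hd : (1 : ℕ∞) ≤ LocCoh.idealDepth (maximalIdeal R) R :=
      le_trans (by norm_num) h
    obtain ⟨x, hx, hreg⟩ := exists_regular_of_one_le
      (smul_maximalIdeal_ne_top R (maximalIdeal.isMaximal R).ne_top) hd
    obtain ⟨n, hn⟩ := hnil hx
    rw [Ideal.mem_bot] at hn
    induction n with
    | zero => exact one_ne_zero (α := R) (by rwa [pow_zero] at hn)
    | succ n ih => exact ih (hreg.right_eq_zero_of_smul (by rwa [smul_eq_mul, ← pow_succ']))
  · rw [isPreconnected_closed_iff]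
    intro t t' ht ht' hcover ⟨x₁, hx₁, hxt⟩ ⟨x₂, hx₂, hxt'⟩
    obtain ⟨I, rfl⟩ := (PrimeSpectrum.isClosed_iff_zeroLocus_ideal _).1 ht
    obtain ⟨J, rfl⟩ := (PrimeSpectrum.isClosed_iff_zeroLocus_ideal _).1 ht'
    by_contra hne
    rw [Set.not_nonempty_iff_eq_empty, Set.eq_empty_iff_forall_notMem] at hne
    refine false_of_zeroLocus h (fun q hq => ?_) (fun q hq hIq hJq => ?_) x₁.2 x₂.2
      ((PrimeSpectrum.mem_zeroLocus _ _).1 hxt) ((PrimeSpectrum.mem_zeroLocus _ _).1 hxt') hx₁ hx₂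
    · by_cases hm : q = maximalIdeal R
      · subst hm
        refine Ideal.mul_le_right.trans ?_
        exact le_trans ((PrimeSpectrum.mem_zeroLocus _ _).1 hxt')
          (IsLocalRing.le_maximalIdeal x₂.2.ne_top)
      · rcases hcover (show (⟨q, hq⟩ : PrimeSpectrum R) ∈ {x | x.asIdeal ≠ maximalIdeal R} from hm)
          with hc | hc
        · exact Ideal.mul_le_left.trans ((PrimeSpectrum.mem_zeroLocus _ _).1 hc)
        · exact Ideal.mul_le_right.trans ((PrimeSpectrum.mem_zeroLocus _ _).1 hc)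
    · by_contra hm
      exact hne ⟨q, hq⟩ ⟨hm, (PrimeSpectrum.mem_zeroLocus _ _).2 hIq,
        (PrimeSpectrum.mem_zeroLocus _ _).2 hJq⟩

end Groth.LocCohBase
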