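import Groth.Agent.LocCohBase.Connected

/-!
Hartshorne's lemma at a prime of a Noetherian ring.
-/

set_option autoImplicit false

universe u

open IsLocalRing

namespace Groth.LocCohBase

variable {R : Type u} [CommRing R] [IsNoetherianRing R]

/-- Two closed sets covering the spectrum cannot meet minimally in a point of depth at least two,
unless one of them has no other point specialising to it. -/
theorem false_of_split_at {P : Ideal R} [P.IsPrime]
    (h : 2 ≤ LocCoh.depth (Localization.AtPrime P) (Localization.AtPrime P)) {a b : Ideal R}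
    (hcover : ∀ q : Ideal R, q.IsPrime → a * b ≤ q) (hP : P ∈ (a ⊔ b).minimalPrimes)
    {p₁ p₂ : Ideal R} (hp₁ : p₁.IsPrime) (hp₂ : p₂.IsPrime) (h₁ : a ≤ p₁) (h₂ : b ≤ p₂)
    (h₁' : p₁ < P) (h₂' : p₂ < P) : False := by
  let f := algebraMap R (Localization.AtPrime P)
  have hcm : ∀ r : Ideal R, r ≤ P → r.IsPrime → (r.map f).comap f = r := fun r hr hrp =>
    IsLocalization.under_map_of_isPrime_disjoint P.primeCompl (Localization.AtPrime P) hrp
      (Set.disjoint_left.2 fun x hx hxr => hx (hr hxr))
  have hmp : ∀ r : Ideal R, r ≤ P → r.IsPrime → (r.map f).IsPrime := fun r hr hrp =>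
    IsLocalization.isPrime_of_isPrime_disjoint P.primeCompl (Localization.AtPrime P) r hrp
      (Set.disjoint_left.2 fun x hx hxr => hx (hr hxr))
  have hq' : (maximalIdeal (Localization.AtPrime P)).comap f = P :=
    Localization.AtPrime.under_maximalIdeal
  refine false_of_zeroLocus h (I := a.map f) (J := b.map f) ?_ ?_ (hmp p₁ h₁'.le hp₁)
    (hmp p₂ h₂'.le hp₂) (Ideal.map_mono h₁) (Ideal.map_mono h₂) ?_ ?_
  · intro r hr
    rw [← Ideal.map_mul, Ideal.map_le_iff_le_comap]
    exact hcover _ (Ideal.IsPrime.comap f)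
  · intro r hr hIr hJr
    have hrp : (r.comap f).IsPrime := Ideal.IsPrime.comap f
    have hle : r.comap f ≤ P :=
      le_trans (Ideal.comap_mono (IsLocalRing.le_maximalIdeal hr.ne_top)) hq'.le
    have heq : r.comap f = P := le_antisymm hle (hP.2
      ⟨hrp, sup_le (Ideal.map_le_iff_le_comap.1 hIr) (Ideal.map_le_iff_le_comap.1 hJr)⟩ hle)
    refine le_antisymm (IsLocalRing.le_maximalIdeal hr.ne_top) ?_
    rw [← Localization.AtPrime.map_eq_maximalIdeal, Ideal.map_le_iff_le_comap]
    exact heq.ge
  · exact fun e => h₁'.ne (by rw [← hcm p₁ h₁'.le hp₁, e, hq'])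
  · exact fun e => h₂'.ne (by rw [← hcm p₂ h₂'.le hp₂, e, hq'])

end Groth.LocCohBase
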