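import Groth.Agent.LocCohBase.ExtVanish
import Mathlib.RingTheory.Noetherian.Basic

/-!
`Ext^n(-, G)` on finite modules supported on `V(J)` is represented by `H^n_J(G)`, when it is left exact.
-/

set_option autoImplicit false

universe u

open CategoryTheory

namespace Groth.LocCohBase.ExtRep

variable {R : Type u} [CommRing R] [IsNoetherianRing R] {J : Ideal R} {G : ModuleCat.{u} R} {n : ℕ}

/-- Pullback of classes. -/
noncomputable abbrev pb {X Y : ModuleCat.{u} R} (f : X ⟶ Y) (γ : Abelian.Ext Y G n) :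
    Abelian.Ext X G n :=
  (Abelian.Ext.mk₀ f).comp γ (zero_add n)

omit [IsNoetherianRing R] in
lemma pb_pb {X Y Z : ModuleCat.{u} R} (f : X ⟶ Y) (g : Y ⟶ Z) (γ : Abelian.Ext Z G n) :
    pb f (pb g γ) = pb (f ≫ g) γ := by
  simp only [pb]
  rw [← Abelian.Ext.mk₀_comp_mk₀, Abelian.Ext.comp_assoc_of_second_deg_zero]

omit [IsNoetherianRing R] in
lemma pb_smul_id {X : ModuleCat.{u} R} (c : R) (γ : Abelian.Ext X G n) :
    pb (c • 𝟙 X) γ = c • γ := by
  simp only [pb]
  rw [Abelian.Ext.mk₀_smul, Abelian.Ext.smul_comp, Abelian.Ext.mk₀_id_comp]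

omit [IsNoetherianRing R] in
/-- Pullback as an additive map of the morphism. -/
noncomputable def pbHom {X Y : ModuleCat.{u} R} (γ : Abelian.Ext Y G n) :
    (X ⟶ Y) →+ Abelian.Ext X G n where
  toFun f := pb f γ
  map_zero' := by simp [pb]
  map_add' f g := by simp [pb, Abelian.Ext.mk₀_add, Abelian.Ext.add_comp]

variable (J) in
/-- A module killed by a power of `J`. -/
def Killed (m : ℕ) (X : ModuleCat.{u} R) : Prop := ∀ a ∈ J ^ m, ∀ x : X, a • x = 0

omit [IsNoetherianRing R] in
lemma killed_quotPow (m : ℕ) : Killed J m (quotPow J m) := fun a ha x => by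
  obtain ⟨r, rfl⟩ := Ideal.Quotient.mk_surjective x
  show Ideal.Quotient.mk (J ^ m) (a • r) = 0
  exact Ideal.Quotient.eq_zero_iff_mem.2 (Ideal.mul_mem_right r _ ha)

omit [IsNoetherianRing R] in
lemma killed_mono {m m' : ℕ} (h : m ≤ m') {X : ModuleCat.{u} R} (hX : Killed J m X) :
    Killed J m' X := fun a ha => hX a (Ideal.pow_le_pow_right h ha)

variable (J G n) in
/-- The vanishing hypothesis. -/
def Vanishing : Prop :=
  ∀ (X : ModuleCat.{u} R), Module.Finite R X → ∀ m, Killed J m X → ∀ i : ℕ, i + 1 = n →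
    Subsingleton (Abelian.Ext X G i)

/-- Injectivity of the pullback along an epimorphism. -/
theorem pb_injective (hv : Vanishing J G n) {P X : ModuleCat.{u} R} [Module.Finite R P] {m : ℕ}
    (hP : Killed J m P) (g : P ⟶ X) (hg : Function.Surjective g.hom) (γ : Abelian.Ext X G n)
    (h : pb g γ = 0) : γ = 0 := by
  rcases n with _ | i
  · obtain ⟨f, rfl⟩ := (Abelian.Ext.mk₀_bijective _ _).2 γ
    simp only [pb, Abelian.Ext.mk₀_comp_mk₀] at h
    have h1 : g ≫ f = 0 := (Abelian.Ext.mk₀_bijective _ _).1 (by rw [h, Abelian.Ext.mk₀_zero])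
    haveI : Epi g := (ModuleCat.epi_iff_surjective _).2 hg
    rw [(cancel_epi g).1 (h1.trans Limits.comp_zero.symm), Abelian.Ext.mk₀_zero]
  · let S : ShortComplex (ModuleCat.{u} R) :=
      ShortComplex.mk (ModuleCat.ofHom (X := LinearMap.ker g.hom) (Y := P) (LinearMap.ker g.hom).subtype)
        g (by ext x; exact x.2)
    have hS : S.ShortExact :=
      { exact := (ShortComplex.ShortExact.moduleCat_exact_iff_function_exact _).2
          (LinearMap.exact_subtype_ker_map g.hom)
        mono_f := (ModuleCat.mono_iff_injective _).2 Subtype.val_injective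
        epi_g := (ModuleCat.epi_iff_surjective _).2 hg }
    obtain ⟨x₁, hx₁⟩ := Abelian.Ext.contravariant_sequence_exact₃ hS G γ h (show 1 + i = i + 1 by omega)
    have hK : Killed J m S.X₁ := fun a ha x => Subtype.ext (hP a ha x.1)
    haveI : Module.Finite R S.X₁ := inferInstanceAs (Module.Finite R (LinearMap.ker g.hom))
    rw [← hx₁, @Subsingleton.elim _ (hv S.X₁ ‹_› m hK i rfl) x₁ 0, Abelian.Ext.comp_zero]

/-- The map `R/J^m ⟶ X` sending `1` to `x`. -/
noncomputable def psi {m : ℕ} {X : ModuleCat.{u} R} (hX : Killed J m X) (x : X) : quotPow J m ⟶ X :=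
  ModuleCat.ofHom (Submodule.liftQ (J ^ m) (LinearMap.toSpanSingleton R X x) (fun a ha => hX a ha x))

omit [IsNoetherianRing R] in
lemma psi_mk {m : ℕ} {X : ModuleCat.{u} R} (hX : Killed J m X) (x : X) (r : R) :
    (psi hX x).hom (Ideal.Quotient.mk (J ^ m) r) = r • x := rfl

omit [IsNoetherianRing R] in
lemma hom_ext_quot {m : ℕ} {X : ModuleCat.{u} R} {f g : quotPow J m ⟶ X}
    (h : f.hom (Ideal.Quotient.mk (J ^ m) 1) = g.hom (Ideal.Quotient.mk (J ^ m) 1)) : f = g := by
  refine ModuleCat.hom_ext (LinearMap.ext fun z => ?_)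
  obtain ⟨r, rfl⟩ := Ideal.Quotient.mk_surjective z
  have hr : (Ideal.Quotient.mk (J ^ m) r : quotPow J m) = r • Ideal.Quotient.mk (J ^ m) 1 := by
    show _ = Ideal.Quotient.mk (J ^ m) (r • 1)
    rw [smul_eq_mul, mul_one]
  show f.hom _ = g.hom _
  rw [hr, map_smul, map_smul, h]

omit [IsNoetherianRing R] in
lemma psi_comp {m : ℕ} {X Y : ModuleCat.{u} R} (hX : Killed J m X) (hY : Killed J m Y)
    (f : X ⟶ Y) (x : X) : psi hX x ≫ f = psi hY (f.hom x) := by
  refine hom_ext_quot ?_
  show f.hom ((1 : R) • x) = (1 : R) • f.hom x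
  rw [map_smul]

/-- A presentation by copies of `R/J^m`. -/
theorem exists_cover {m : ℕ} (X : ModuleCat.{u} R) [Module.Finite R X] (hX : Killed J m X) :
    ∃ (s : ℕ) (x : Fin s → X), Submodule.span R (Set.range x) = ⊤ ∧
      Function.Surjective (∑ j, ModuleCat.ofHom
        (LinearMap.proj (R := R) (φ := fun _ : Fin s => R ⧸ J ^ m) j) ≫ psi hX (x j)).hom := by
  classical
  obtain ⟨s, x, hx⟩ := Submodule.fg_iff_exists_fin_generating_family.1 (Module.Finite.fg_top (R := R) (M := X))
  refine ⟨s, x, hx, ?_⟩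
  rw [← LinearMap.range_eq_top, ← top_le_iff, ← hx, Submodule.span_le]
  rintro _ ⟨j, rfl⟩
  refine ⟨Pi.single j (Ideal.Quotient.mk (J ^ m) 1), ?_⟩
  rw [ModuleCat.hom_sum, LinearMap.sum_apply, Finset.sum_eq_single j]
  · show (psi hX (x j)).hom ((Pi.single (M := fun _ : Fin s => R ⧸ J ^ m) j
      (Ideal.Quotient.mk (J ^ m) 1)) j) = _
    rw [Pi.single_eq_same, psi_mk, one_smul]
  · intro i _ hij
    show (psi hX (x i)).hom ((Pi.single (M := fun _ : Fin s => R ⧸ J ^ m) j
      (Ideal.Quotient.mk (J ^ m) 1)) i) = 0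
    rw [Pi.single_eq_of_ne hij]
    exact map_zero _
  · simp

omit [IsNoetherianRing R] in
lemma killed_pi (m s : ℕ) : Killed J m (ModuleCat.of R (Fin s → R ⧸ J ^ m)) :=
  fun a ha v => funext fun j => killed_quotPow m a ha (v j)

/-- A class is zero if all its pullbacks to `R/J^m` are. -/
theorem eq_zero_of_forall (hv : Vanishing J G n) {m : ℕ} {X : ModuleCat.{u} R} [Module.Finite R X]
    (hX : Killed J m X) (γ : Abelian.Ext X G n) (h : ∀ x, pb (psi hX x) γ = 0) : γ = 0 := by
  obtain ⟨s, x, -, hsur⟩ := exists_cover X hX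
  refine pb_injective hv (killed_pi m s) _ hsur γ ?_
  show pbHom γ _ = 0
  rw [map_sum]
  refine Finset.sum_eq_zero fun j _ => ?_
  show pb (_ ≫ psi hX (x j)) γ = 0
  rw [← pb_pb, h]
  simp [pb]

theorem iota_injective (hv : Vanishing J G n) (m : ℕ) (β : Abelian.Ext (quotPow J m) G n)
    (h : ι J n G m β = 0) : β = 0 := by
  obtain ⟨m', hm', h'⟩ := (ι_eq_zero_iff n G β).1 h
  refine pb_injective hv (killed_quotPow m') (trans J hm') ?_ β h'
  intro y
  obtain ⟨r, rfl⟩ := Ideal.Quotient.mk_surjective y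
  exact ⟨Ideal.Quotient.mk (J ^ m') r, rfl⟩

theorem exists_lift (hv : Vanishing J G n) (k : ℕ) (h : HH' J n G)
    (hk : ∀ a ∈ J ^ k, a • h = 0) : ∃ β : Abelian.Ext (quotPow J k) G n, ι J n G k β = h := by
  obtain ⟨m₀, β₀, rfl⟩ := exists_rep n G h
  let m := max m₀ k
  let β : Abelian.Ext (quotPow J m) G n := pb (trans J (le_max_left m₀ k)) β₀
  have hβ : ι J n G m β = ι J n G m₀ β₀ := ι_trans n G (le_max_left m₀ k) β₀
  let tr := trans J (le_max_right m₀ k)
  have hsur : Function.Surjective tr.hom := fun y => by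
    obtain ⟨r, rfl⟩ := Ideal.Quotient.mk_surjective y
    exact ⟨Ideal.Quotient.mk (J ^ m) r, rfl⟩
  let S : ShortComplex (ModuleCat.{u} R) :=
    ShortComplex.mk (ModuleCat.ofHom (X := LinearMap.ker tr.hom) (Y := quotPow J m)
      (LinearMap.ker tr.hom).subtype) tr (by ext x; exact x.2)
  have hS : S.ShortExact :=
    { exact := (ShortComplex.ShortExact.moduleCat_exact_iff_function_exact _).2
        (LinearMap.exact_subtype_ker_map tr.hom)
      mono_f := (ModuleCat.mono_iff_injective _).2 Subtype.val_injective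
      epi_g := (ModuleCat.epi_iff_surjective _).2 hsur }
  have hK : Killed J m S.X₁ := fun a ha x => Subtype.ext (killed_quotPow m a ha x.1)
  haveI : Module.Finite R S.X₁ := inferInstanceAs (Module.Finite R (LinearMap.ker tr.hom))
  have h0 : pb S.f β = 0 := by
    refine eq_zero_of_forall hv hK _ fun y => ?_
    obtain ⟨a, ha⟩ := Ideal.Quotient.mk_surjective (S.f.hom y)
    have hak : a ∈ J ^ k := by
      rw [← Ideal.Quotient.eq_zero_iff_mem]
      have h1 : tr.hom (Ideal.Quotient.mk (J ^ m) a) = 0 := by rw [ha]; exact y.2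
      exact h1
    rw [pb_pb, psi_comp hK (killed_quotPow m)]
    have hψ : psi (killed_quotPow m) (S.f.hom y) = a • 𝟙 (quotPow J m) := by
      refine hom_ext_quot ?_
      show (1 : R) • (S.f.hom y) = a • (Ideal.Quotient.mk (J ^ m) 1 : quotPow J m)
      rw [one_smul, ← ha]
      show _ = Ideal.Quotient.mk (J ^ m) (a • 1)
      rw [smul_eq_mul, mul_one]
    rw [hψ, pb_smul_id]
    refine iota_injective hv m _ ?_
    rw [map_smul, hβ, hk a hak]
  obtain ⟨γ, hγ⟩ := Abelian.Ext.contravariant_sequence_exact₂ hS G β h0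
  refine ⟨γ, ?_⟩
  rw [← hβ, ← hγ]
  exact (ι_trans n G (le_max_right m₀ k) γ).symm

/-- `Ext^n(F, G) ≅ Hom(F, H^n_J(G))`. -/
theorem nonempty_equiv (hv : Vanishing J G n) {k : ℕ} (F : ModuleCat.{u} R) [Module.Finite R F]
    (hF : Killed J k F) : Nonempty (Abelian.Ext F G n ≃ₗ[R] (F →ₗ[R] HH' J n G)) := by
  classical
  let Φ : Abelian.Ext F G n →ₗ[R] (F →ₗ[R] HH' J n G) :=
    { toFun := fun α =>
        { toFun := fun x => ι J n G k (pb (psi hF x) α)
          map_add' := fun x y => by
            have e : psi hF (x + y) = psi hF x + psi hF y := hom_ext_quot (by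
              show (1 : R) • (x + y) = (1 : R) • x + (1 : R) • y
              rw [smul_add])
            show ι J n G k (pbHom α _) = _
            rw [e, map_add, map_add]
            rfl
          map_smul' := fun c x => by
            have e : psi hF (c • x) = c • psi hF x := hom_ext_quot (by
              show (1 : R) • (c • x) = c • ((1 : R) • x)
              rw [one_smul, one_smul])
            simp only [pb, e, Abelian.Ext.mk₀_smul, Abelian.Ext.smul_comp, map_smul,
              RingHom.id_apply] }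
      map_add' := fun α β => by ext x; simp [pb]
      map_smul' := fun c α => by ext x; simp [pb] }
  have hΦ : ∀ α x, Φ α x = ι J n G k (pb (psi hF x) α) := fun _ _ => rfl
  refine ⟨LinearEquiv.ofBijective Φ ⟨(injective_iff_map_eq_zero _).2 fun α hα => ?_, fun f => ?_⟩⟩
  · refine eq_zero_of_forall hv hF α fun x => iota_injective hv k _ ?_
    rw [← hΦ, hα]
    rfl
  · obtain ⟨s, x, hx, hsur⟩ := exists_cover F hF
    set π := ∑ j, ModuleCat.ofHom
      (LinearMap.proj (R := R) (φ := fun _ : Fin s => R ⧸ J ^ k) j) ≫ psi hF (x j) with hπ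
    choose β hβ using fun j => exists_lift hv k (f (x j)) (fun a ha => by
      rw [← map_smul, hF a ha, map_zero])
    let P : ModuleCat.{u} R := ModuleCat.of R (Fin s → R ⧸ J ^ k)
    let pr : Fin s → (P ⟶ quotPow J k) := fun j =>
      ModuleCat.ofHom (LinearMap.proj (R := R) (φ := fun _ : Fin s => R ⧸ J ^ k) j)
    let α₀ : Abelian.Ext P G n := ∑ j, pb (pr j) (β j)
    have key : ∀ (c : Fin s → R),
        pb (psi (killed_pi k s) (fun j => Ideal.Quotient.mk (J ^ k) (c j))) α₀ = ∑ j, c j • β j := by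
      intro c
      simp only [α₀, pb, Abelian.Ext.comp_sum]
      refine Finset.sum_congr rfl fun j _ => ?_
      refine (pb_pb _ (pr j) (β j)).trans ?_
      rw [psi_comp (killed_pi k s) (killed_quotPow k)]
      have e : psi (killed_quotPow k) ((pr j).hom (fun i => Ideal.Quotient.mk (J ^ k) (c i))) =
          c j • 𝟙 (quotPow J k) := hom_ext_quot (by
        show (1 : R) • (Ideal.Quotient.mk (J ^ k) (c j) : quotPow J k) =
          c j • (Ideal.Quotient.mk (J ^ k) 1 : quotPow J k)
        rw [one_smul]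
        show _ = Ideal.Quotient.mk (J ^ k) (c j • 1)
        rw [smul_eq_mul, mul_one])
      rw [e, pb_smul_id]
    have hπc : ∀ c : Fin s → R,
        π.hom (fun j => Ideal.Quotient.mk (J ^ k) (c j)) = ∑ j, c j • x j := by
      intro c
      rw [hπ, ModuleCat.hom_sum, LinearMap.sum_apply]
      rfl
    let S : ShortComplex (ModuleCat.{u} R) :=
      ShortComplex.mk (ModuleCat.ofHom (X := LinearMap.ker π.hom) (Y := P)
        (LinearMap.ker π.hom).subtype) π (by ext z; exact z.2)
    have hS : S.ShortExact :=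
      { exact := (ShortComplex.ShortExact.moduleCat_exact_iff_function_exact _).2
          (LinearMap.exact_subtype_ker_map π.hom)
        mono_f := (ModuleCat.mono_iff_injective _).2 Subtype.val_injective
        epi_g := (ModuleCat.epi_iff_surjective _).2 hsur }
    have hK : Killed J k S.X₁ := fun a ha z => Subtype.ext (killed_pi k s a ha z.1)
    haveI : Module.Finite R S.X₁ := inferInstanceAs (Module.Finite R (LinearMap.ker π.hom))
    have h0 : pb S.f α₀ = 0 := by
      refine eq_zero_of_forall hv hK _ fun y => ?_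
      choose c hc using fun j => Ideal.Quotient.mk_surjective ((S.f.hom y) j)
      have hy : S.f.hom y = fun j => Ideal.Quotient.mk (J ^ k) (c j) := (funext hc).symm
      rw [pb_pb, psi_comp hK (killed_pi k s), hy, key]
      refine iota_injective hv k _ ?_
      have h1 : π.hom (S.f.hom y) = 0 := y.2
      rw [hy, hπc] at h1
      rw [map_sum, ← map_zero f, ← h1, map_sum]
      exact Finset.sum_congr rfl fun j _ => by rw [map_smul, map_smul, hβ]
    obtain ⟨α, hα⟩ := Abelian.Ext.contravariant_sequence_exact₂ hS G α₀ h0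
    refine ⟨α, LinearMap.ext_on_range hx fun j => ?_⟩
    have e : psi (killed_pi k s)
        (fun i => Ideal.Quotient.mk (J ^ k) ((Pi.single j 1 : Fin s → R) i)) ≫ π = psi hF (x j) := by
      rw [psi_comp (killed_pi k s) hF, hπc]
      congr 1
      simp [Pi.single_apply]
    have hα' : pb π α = α₀ := hα
    rw [hΦ, ← e, ← pb_pb, hα', key, map_sum]
    rw [Finset.sum_eq_single j]
    · simp [hβ]
    · intro i _ hij
      simp [Pi.single_apply, hij]
    · simp

end Groth.LocCohBase.ExtRep
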