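import Groth.Agent.LocCohBase.Semicontinuity

/-!
The depth with respect to an ideal is bounded below near a prime.
-/

set_option autoImplicit false
universe u

open IsLocalRing RingTheory.Sequence
open scoped Pointwise

namespace Groth.LocCohBase

variable {R : Type u} [CommRing R] [IsNoetherianRing R]

/-- A finite module whose localisation at `p` kills every element of a submodule is killed there by
one element outside `p`. -/
theorem exists_smul_eq_zero_of_localized {M : Type u} [AddCommGroup M] [Module R M]
    (p : Ideal R) [p.IsPrime] (N : Submodule R M) (hN : N.FG)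
    (h : ∀ k ∈ N, LocalizedModule.mkLinearMap p.primeCompl M k = 0) :
    ∃ f : R, f ∉ p ∧ ∀ k ∈ N, f • k = 0 := by
  classical
  obtain ⟨G, hG⟩ := hN
  have hkill : ∀ k ∈ N, ∃ c : R, c ∉ p ∧ c • k = 0 := by
    intro k hk
    obtain ⟨⟨c, hc⟩, hck⟩ := (IsLocalizedModule.eq_zero_iff p.primeCompl
      (LocalizedModule.mkLinearMap p.primeCompl M)).1 (h k hk)
    exact ⟨c, hc, hck⟩
  choose c hc hck using hkill
  refine ⟨∏ k ∈ G.attach, c k.1 (hG ▸ Submodule.subset_span k.2), fun hmem => ?_, fun k hk => ?_⟩
  · obtain ⟨k, -, hk⟩ := (Ideal.IsPrime.prod_mem_iff).1 hmem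
    exact hc _ _ hk
  · rw [← hG] at hk
    induction hk using Submodule.span_induction with
    | mem z hz =>
      rw [← Finset.mul_prod_erase G.attach (fun k => c k.1 (hG ▸ Submodule.subset_span k.2))
        (Finset.mem_attach G ⟨z, hz⟩), mul_comm, mul_smul, hck, smul_zero]
    | zero => rw [smul_zero]
    | add a b _ _ h1 h2 => rw [smul_add, h1, h2, add_zero]
    | smul b z _ h1 => rw [smul_comm, h1, smul_zero]

theorem exists_idealDepth_ge_nhds (I : Ideal R) (p : Ideal R) [p.IsPrime] (hIp : I ≤ p) (e : ℕ) :
    ∀ (M : Type u) [AddCommGroup M] [Module R M] [Module.Finite R M],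
      (e : ℕ∞) ≤ LocCoh.idealDepth (I.map (algebraMap R (Localization.AtPrime p)))
        (LocalizedModule p.primeCompl M) →
      ∃ f : R, f ∉ p ∧ ∀ (q : Ideal R) [q.IsPrime], f ∉ q →
          (e : ℕ∞) ≤ LocCoh.idealDepth (I.map (algebraMap R (Localization.AtPrime q)))
            (LocalizedModule q.primeCompl M) := by
  induction e with
  | zero =>
    intro M _ _ _ _
    exact ⟨1, (Ideal.ne_top_iff_one p).1 Ideal.IsPrime.ne_top', fun q _ _ => by simp⟩
  | succ e ih =>
    intro M _ _ _ he
    by_cases hnt : Subsingleton (LocalizedModule p.primeCompl M)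
    · obtain ⟨f, hf, hfk⟩ := exists_smul_eq_zero_of_localized p (⊤ : Submodule R M)
        Module.Finite.fg_top (fun k _ => Subsingleton.elim _ _)
      refine ⟨f, hf, fun q _ hfq => ?_⟩
      have : Subsingleton (LocalizedModule q.primeCompl M) :=
        LocalizedModule.subsingleton_iff.2 fun m => ⟨f, hfq, hfk m trivial⟩
      rw [idealDepth_eq_top_of_smul_top_eq_top (Subsingleton.elim _ _)]
      exact le_top
    rw [not_subsingleton_iff_nontrivial] at hnt
    have : Module.Finite (Localization.AtPrime p) (LocalizedModule p.primeCompl M) :=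
      Module.Finite.of_isLocalizedModule p.primeCompl (LocalizedModule.mkLinearMap p.primeCompl M)
    have hne : I.map (algebraMap R (Localization.AtPrime p)) ≠ ⊤ := by
      refine ne_top_of_le_ne_top (maximalIdeal.isMaximal _).ne_top
        (?_ : _ ≤ maximalIdeal (Localization.AtPrime p))
      rw [Ideal.map_le_iff_le_comap, comap_maximalIdeal_atPrime]
      exact hIp
    have hIM := smul_maximalIdeal_ne_top (LocalizedModule p.primeCompl M) hne
    obtain ⟨y, hy, hyreg⟩ := exists_regular_of_one_le hIM
      (le_trans (by exact_mod_cast Nat.succ_pos e) he)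
    obtain ⟨⟨⟨x, hx⟩, ⟨s, hs⟩⟩, hys⟩ :=
      (IsLocalization.mem_map_algebraMap_iff p.primeCompl (Localization.AtPrime p)).1 hy
    have hxreg : IsSMulRegular (LocalizedModule p.primeCompl M)
        (algebraMap R (Localization.AtPrime p) x) := by
      rw [← hys]
      exact hyreg.mul ((IsLocalization.map_units (Localization.AtPrime p)
        (⟨s, hs⟩ : p.primeCompl)).isSMulRegular _)
    obtain ⟨f₀, hf₀, hfk⟩ := exists_smul_eq_zero_of_localized p
      (LinearMap.ker (LinearMap.lsmul R M x)) (IsNoetherian.noetherian _) (fun k hk => hxreg (by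
        show algebraMap R (Localization.AtPrime p) x • _ = algebraMap R _ x • _
        rw [algebraMap_smul, ← map_smul, show x • k = 0 from LinearMap.mem_ker.1 hk, map_zero,
          smul_zero]))
    have hred : ∀ (q : Ideal R) [q.IsPrime], f₀ ∉ q →
        LocCoh.idealDepth (I.map (algebraMap R (Localization.AtPrime q)))
            (LocalizedModule q.primeCompl M) = ⊤ ∨
        LocCoh.idealDepth (I.map (algebraMap R (Localization.AtPrime q)))
            (LocalizedModule q.primeCompl (QuotSMulTop x M)) + 1 =
          LocCoh.idealDepth (I.map (algebraMap R (Localization.AtPrime q)))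
            (LocalizedModule q.primeCompl M) := by
      intro q _ hfq
      have : Module.Finite (Localization.AtPrime q) (LocalizedModule q.primeCompl M) :=
        Module.Finite.of_isLocalizedModule q.primeCompl (LocalizedModule.mkLinearMap q.primeCompl M)
      by_cases htop : I.map (algebraMap R (Localization.AtPrime q)) •
          (⊤ : Submodule (Localization.AtPrime q) (LocalizedModule q.primeCompl M)) = ⊤
      · exact Or.inl (idealDepth_eq_top_of_smul_top_eq_top htop)
      have hreg : IsSMulRegular (LocalizedModule q.primeCompl M)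
          (algebraMap R (Localization.AtPrime q) x) := by
        refine isSMulRegular_iff_right_eq_zero_of_smul.2 fun z hz => ?_
        induction z using LocalizedModule.induction_on with
        | h m t =>
          rw [algebraMap_smul, LocalizedModule.smul'_mk, IsLocalizedModule.mk_eq_mk',
            IsLocalizedModule.mk'_eq_zero'] at hz
          obtain ⟨⟨v, hv⟩, hvm⟩ := hz
          rw [Submonoid.smul_def] at hvm
          rw [IsLocalizedModule.mk_eq_mk', IsLocalizedModule.mk'_eq_zero']
          refine ⟨⟨f₀ * v, q.primeCompl.mul_mem hfq hv⟩, ?_⟩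
          rw [Submonoid.smul_def, mul_smul]
          refine hfk _ (LinearMap.mem_ker.2 ?_)
          rw [LinearMap.lsmul_apply, smul_comm]
          exact hvm
      refine Or.inr ?_
      rw [← idealDepth_congr (quotSMulTopLocalizedEquiv q M x),
        idealDepth_quotSMulTop_add_one _ _ htop (Ideal.mem_map_of_mem _ hx) hreg]
    have hp' : (e : ℕ∞) ≤ LocCoh.idealDepth (I.map (algebraMap R (Localization.AtPrime p)))
        (LocalizedModule p.primeCompl (QuotSMulTop x M)) := by
      rcases hred p hf₀ with h | h
      · exact absurd h (idealDepth_ne_top hIM)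
      · rw [← h, Nat.cast_succ] at he
        exact (ENat.add_le_add_iff_right (by simp)).1 he
    obtain ⟨f₁, hf₁, hge⟩ := ih (QuotSMulTop x M) hp'
    refine ⟨f₀ * f₁, fun h => (Ideal.IsPrime.mem_or_mem inferInstance h).elim hf₀ hf₁,
      fun q _ hfq => ?_⟩
    rcases hred q (fun h => hfq (q.mul_mem_right _ h)) with h | h
    · rw [h]; exact le_top
    · rw [← h, Nat.cast_succ]
      exact add_le_add (hge q fun h => hfq (q.mul_mem_left _ h)) le_rfl

end Groth.LocCohBase
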