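import Groth.Agent.LocCohBase.CM
import Groth.Agent.LocCohBase.DepthLocal

/-!
Ischebeck's inequality `depth M ≤ depth_I M + dim R/I` and the resulting bound along localisation.
-/

set_option autoImplicit false
universe u

open IsLocalRing

namespace Groth.LocCohBase

variable {R : Type u} [CommRing R] [IsLocalRing R] [IsNoetherianRing R]

/-- `depth M ≤ depth_I M + dim R/I`. -/
theorem depth_le_idealDepth_add (I : Ideal R) (hI : I ≤ maximalIdeal R) {k : ℕ}
    (hk : ringKrullDim (R ⧸ I) ≤ k) (n : ℕ) :
    ∀ (M : Type u) [AddCommGroup M] [Module R M] [Module.Finite R M],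
      LocCoh.idealDepth I M = n → LocCoh.depth R M ≤ ((n + k : ℕ) : ℕ∞) := by
  induction n with
  | zero =>
    intro M _ _ _ h
    have h1 : ¬ (1 : ℕ∞) ≤ LocCoh.idealDepth I M := by rw [h]; simp
    rw [one_le_idealDepth_iff] at h1
    push Not at h1
    obtain ⟨q, hq, hle⟩ := h1
    have h2 := (depth_le_ringKrullDim_quotient hq).trans
      ((ringKrullDim_le_of_surjective _ (Ideal.Quotient.factor_surjective hle)).trans hk)
    rw [zero_add]
    exact WithBot.coe_le_coe.1 h2
  | succ n ih =>
    intro M _ _ _ h
    have hItop : I ≠ ⊤ := ne_top_of_le_ne_top (maximalIdeal.isMaximal R).ne_top hI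
    have hnt : Nontrivial M := by
      by_contra hnt
      rw [not_nontrivial_iff_subsingleton] at hnt
      rw [idealDepth_eq_top_of_smul_top_eq_top (Subsingleton.elim _ _)] at h
      exact ENat.top_ne_natCast _ h
    have hIM := smul_maximalIdeal_ne_top M hItop
    obtain ⟨x, hx, hreg⟩ := exists_regular_of_one_le hIM (I := I) (by
      rw [h]; exact_mod_cast Nat.succ_pos n)
    have hd : LocCoh.idealDepth I (QuotSMulTop x M) = n := by
      have := idealDepth_quotSMulTop_add_one I M hIM hx hreg
      rw [h, Nat.cast_succ] at this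
      exact ((ENat.addLECancellable_of_ne_top (by simp : (1 : ℕ∞) ≠ ⊤)).inj_left).1 this
    have h1 := ih (QuotSMulTop x M) hd
    rw [LocCoh.depth, ← idealDepth_quotSMulTop_add_one (maximalIdeal R) M
      (smul_maximalIdeal_ne_top M (maximalIdeal.isMaximal R).ne_top) (hI hx) hreg]
    rw [show n + 1 + k = n + k + 1 by omega, Nat.cast_succ]
    exact add_le_add h1 le_rfl

/-- Depth of a module against the depth of a localisation. -/
theorem depth_le_depth_localized_add (p : Ideal R) [p.IsPrime] {k : ℕ}
    (hk : ringKrullDim (R ⧸ p) ≤ k) (M : Type u) [AddCommGroup M] [Module R M]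
    [Module.Finite R M] :
    LocCoh.depth R M ≤
      LocCoh.depth (Localization.AtPrime p) (LocalizedModule p.primeCompl M) + (k : ℕ∞) := by
  rcases eq_or_ne (LocCoh.idealDepth p M) ⊤ with h | h
  · have h1 := idealDepth_le_depth_localized p p le_rfl M
    rw [h, top_le_iff] at h1
    rw [h1, top_add]
    exact le_top
  · obtain ⟨n, hn⟩ := ENat.ne_top_iff_exists.1 h
    refine (depth_le_idealDepth_add p (IsLocalRing.le_maximalIdeal Ideal.IsPrime.ne_top') hk n M
      hn.symm).trans ?_
    rw [Nat.cast_add, hn]
    exact add_le_add (idealDepth_le_depth_localized p p le_rfl M) le_rfl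

end Groth.LocCohBase
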