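import Groth.Agent.LocCohBase.CM
import Groth.Agent.LocCohBase.DepthLocal

/-!
Semicontinuity of the depth along the closure of a point.
-/

set_option autoImplicit false
universe u

open IsLocalRing RingTheory.Sequence
open scoped Pointwise

namespace Groth.LocCohBase

variable {R : Type u} [CommRing R] [IsNoetherianRing R]

/-- The statement of semicontinuity, by induction on the depth. -/
theorem exists_depth_ge_nhds (p : Ideal R) [p.IsPrime] (e : ℕ) :
    ∀ (M : Type u) [AddCommGroup M] [Module R M] [Module.Finite R M],
      LocCoh.depth (Localization.AtPrime p) (LocalizedModule p.primeCompl M) = e →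
      ∃ f : R, f ∉ p ∧ (∀ (q : Ideal R) [q.IsPrime], p ≤ q → f ∉ q →
          (e : ℕ∞) ≤ LocCoh.depth (Localization.AtPrime q) (LocalizedModule q.primeCompl M)) ∧
        {q : PrimeSpectrum R | p ≤ q.asIdeal ∧ f ∉ q.asIdeal ∧
          LocCoh.depth (Localization.AtPrime q.asIdeal) (LocalizedModule q.asIdeal.primeCompl M) =
            e}.Finite := by
  classical
  induction e with
  | zero =>
    intro M _ _ _ _
    refine ⟨1, (Ideal.ne_top_iff_one p).1 Ideal.IsPrime.ne_top', fun q _ _ _ => by simp, ?_⟩
    refine (((associatedPrimes.finite R M).preimage (f := PrimeSpectrum.asIdeal)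
      fun a _ b _ h => PrimeSpectrum.ext h)).subset fun q hq => ?_
    by_contra hne
    have := (one_le_depth_localized_iff q.asIdeal M).2 hne
    rw [hq.2.2] at this
    simp at this
  | succ e ih =>
    intro M _ _ _ he
    have : Module.Finite (Localization.AtPrime p) (LocalizedModule p.primeCompl M) :=
      Module.Finite.of_isLocalizedModule p.primeCompl (LocalizedModule.mkLinearMap p.primeCompl M)
    have hnt : Nontrivial (LocalizedModule p.primeCompl M) := by
      by_contra hnt
      rw [not_nontrivial_iff_subsingleton] at hnt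
      rw [LocCoh.depth, idealDepth_eq_top_of_smul_top_eq_top (Subsingleton.elim _ _)] at he
      exact ENat.top_ne_natCast _ he
    obtain ⟨y, hy, hyreg⟩ := exists_regular_of_one_le
      (smul_maximalIdeal_ne_top _ (maximalIdeal.isMaximal (Localization.AtPrime p)).ne_top) (by
        show (1 : ℕ∞) ≤ LocCoh.depth (Localization.AtPrime p) (LocalizedModule p.primeCompl M)
        rw [he]; exact_mod_cast Nat.succ_pos e)
    obtain ⟨x, ⟨s, hs⟩, rfl⟩ := IsLocalization.exists_mk'_eq p.primeCompl y
    have hx : x ∈ p := (IsLocalization.AtPrime.mk'_mem_maximal_iff (Localization.AtPrime p) p x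
      ⟨s, hs⟩).1 hy
    have hxreg : IsSMulRegular (LocalizedModule p.primeCompl M)
        (algebraMap R (Localization.AtPrime p) x) := by
      rw [← IsLocalization.mk'_spec (Localization.AtPrime p) x (⟨s, hs⟩ : p.primeCompl)]
      exact hyreg.mul ((IsLocalization.map_units (Localization.AtPrime p)
        (⟨s, hs⟩ : p.primeCompl)).isSMulRegular _)
    -- an element killing the `x`-torsion
    obtain ⟨G, hG⟩ := IsNoetherian.noetherian (LinearMap.ker (LinearMap.lsmul R M x))
    have hkill : ∀ k ∈ LinearMap.ker (LinearMap.lsmul R M x), ∃ c : R, c ∉ p ∧ c • k = 0 := by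
      intro k hk
      have h0 : LocalizedModule.mkLinearMap p.primeCompl M k = 0 := hxreg (by
        show algebraMap R (Localization.AtPrime p) x • _ = algebraMap R _ x • _
        rw [algebraMap_smul, ← map_smul, show x • k = 0 from LinearMap.mem_ker.1 hk, map_zero,
          smul_zero])
      obtain ⟨⟨c, hc⟩, hck⟩ := (IsLocalizedModule.eq_zero_iff p.primeCompl
        (LocalizedModule.mkLinearMap p.primeCompl M)).1 h0
      exact ⟨c, hc, hck⟩
    choose c hc hck using hkill
    set f₀ := ∏ k ∈ G.attach, c k.1 (hG ▸ Submodule.subset_span k.2)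
    have hf₀ : f₀ ∉ p := fun h => by
      obtain ⟨k, -, hk⟩ := (Ideal.IsPrime.prod_mem_iff).1 h
      exact hc _ _ hk
    have hfk : ∀ k ∈ LinearMap.ker (LinearMap.lsmul R M x), f₀ • k = 0 := by
      intro k hk
      rw [← hG] at hk
      induction hk using Submodule.span_induction with
      | mem z hz =>
        have := Finset.mul_prod_erase G.attach
          (fun k => c k.1 (hG ▸ Submodule.subset_span k.2)) (Finset.mem_attach G ⟨z, hz⟩)
        rw [show f₀ = _ from this.symm, mul_comm, mul_smul, hck, smul_zero]
      | zero => rw [smul_zero]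
      | add a b _ _ h1 h2 => rw [smul_add, h1, h2, add_zero]
      | smul b z _ h1 => rw [smul_comm, h1, smul_zero]
    -- reduction to `M / xM`
    have hred : ∀ (q : Ideal R) [q.IsPrime], p ≤ q → f₀ ∉ q →
        LocCoh.depth (Localization.AtPrime q) (LocalizedModule q.primeCompl (QuotSMulTop x M)) + 1 =
          LocCoh.depth (Localization.AtPrime q) (LocalizedModule q.primeCompl M) := by
      intro q _ hpq hfq
      have : Module.Finite (Localization.AtPrime q) (LocalizedModule q.primeCompl M) :=
        Module.Finite.of_isLocalizedModule q.primeCompl (LocalizedModule.mkLinearMap q.primeCompl M)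
      have hreg : IsSMulRegular (LocalizedModule q.primeCompl M)
          (algebraMap R (Localization.AtPrime q) x) := by
        refine isSMulRegular_iff_right_eq_zero_of_smul.2 fun z hz => ?_
        induction z using LocalizedModule.induction_on with
        | h m t =>
          rw [algebraMap_smul, LocalizedModule.smul'_mk, IsLocalizedModule.mk_eq_mk',
            IsLocalizedModule.mk'_eq_zero'] at hz
          obtain ⟨⟨u, hu⟩, hum⟩ := hz
          rw [Submonoid.smul_def] at hum
          rw [IsLocalizedModule.mk_eq_mk', IsLocalizedModule.mk'_eq_zero']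
          refine ⟨⟨f₀ * u, q.primeCompl.mul_mem hfq hu⟩, ?_⟩
          rw [Submonoid.smul_def, mul_smul]
          refine hfk _ (LinearMap.mem_ker.2 ?_)
          rw [LinearMap.lsmul_apply, smul_comm]
          exact hum
      have hxq : algebraMap R (Localization.AtPrime q) x ∈ maximalIdeal (Localization.AtPrime q) :=
        (IsLocalization.AtPrime.to_map_mem_maximal_iff (Localization.AtPrime q) q x).2 (hpq hx)
      have : Nontrivial (LocalizedModule q.primeCompl M) := by
        refine Module.mem_support_iff.1 (Module.mem_support_mono (R := R) (M := M)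
          (p := ⟨p, inferInstance⟩) (q := ⟨q, inferInstance⟩) hpq ?_)
        exact Module.mem_support_iff.2 hnt
      rw [LocCoh.depth, LocCoh.depth,
        ← idealDepth_congr (quotSMulTopLocalizedEquiv q M x),
        idealDepth_quotSMulTop_add_one _ _ (smul_maximalIdeal_ne_top _
          (maximalIdeal.isMaximal _).ne_top) hxq hreg]
    have hp' : LocCoh.depth (Localization.AtPrime p) (LocalizedModule p.primeCompl (QuotSMulTop x M))
        = e := by
      have := hred p le_rfl hf₀
      rw [he, Nat.cast_succ] at this
      exact ((ENat.addLECancellable_of_ne_top (by simp : (1 : ℕ∞) ≠ ⊤)).inj_left).1 this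
    obtain ⟨f₁, hf₁, hge, hfin⟩ := ih (QuotSMulTop x M) hp'
    refine ⟨f₀ * f₁, fun h => (Ideal.IsPrime.mem_or_mem inferInstance h).elim hf₀ hf₁,
      fun q _ hpq hfq => ?_, hfin.subset fun q hq => ?_⟩
    · rw [← hred q hpq fun h => hfq (q.mul_mem_right _ h), Nat.cast_succ]
      exact add_le_add (hge q hpq fun h => hfq (q.mul_mem_left _ h)) le_rfl
    · refine ⟨hq.1, fun h => hq.2.1 (q.asIdeal.mul_mem_left _ h), ?_⟩
      have := hred q.asIdeal hq.1 fun h => hq.2.1 (q.asIdeal.mul_mem_right _ h)
      rw [hq.2.2, Nat.cast_succ] at this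
      exact ((ENat.addLECancellable_of_ne_top (by simp : (1 : ℕ∞) ≠ ⊤)).inj_left).1 this

end Groth.LocCohBase
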