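import Groth.Agent.DAlg.Torsion
import Groth.Agent.DAlg.Nilpotent

/-!
Right exactness of the derived tensor product, and devissage along powers of an ideal.
-/

universe u

open CategoryTheory CategoryTheory.Limits HomologicalComplex
open scoped TensorProduct

attribute [local instance] HasDerivedCategory.standard
set_option linter.style.haveILetI false

namespace Groth.LocCohBase.TensorKilled

open Groth.DAlg FlatCxBase PCohPunctual

variable {R : Type u} [CommRing R]

/-- A K-projective complex with no cohomology in positive degrees stays so after tensoring. -/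
theorem isZero_tensor_of_le (P : DRing.Cx R) [P.IsKProjective]
    (hP : ∀ i : ℤ, 0 < i → IsZero (P.homology i)) (M : Type u) [AddCommGroup M] [Module R M]
    (j : ℤ) (hj : 0 < j) : IsZero ((DRing.tensorCx P (ModuleCat.of R M)).homology j) := by
  refine (isZero_T_iff P (cochain_prev j) (cochain_next j) _).2 fun x hx => ?_
  let B : Submodule R (P.X j ⊗[R] M) := LinearMap.range ((P.d (j - 1) j).hom.rTensor M)
  let H : ModuleCat.{u} R := ModuleCat.of R (M →ₗ[R] (P.X j ⊗[R] M) ⧸ B)
  let lam : P.X j ⟶ H := ModuleCat.ofHom ((TensorProduct.mk R (P.X j) M).compr₂ B.mkQ)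
  have hlam : ∀ i, (ComplexShape.up ℤ).Rel i j → P.d i j ≫ lam = 0 := by
    intro i hi
    obtain rfl : i = j - 1 := by
      have hi' : i + 1 = j := hi
      omega
    ext y m
    show B.mkQ ((P.d (j - 1) j).hom y ⊗ₜ m) = 0
    exact (Submodule.Quotient.mk_eq_zero B).2 ⟨y ⊗ₜ m, rfl⟩
  let c : P ⟶ (HomologicalComplex.single (ModuleCat.{u} R) (ComplexShape.up ℤ) j).obj H :=
    HomologicalComplex.mkHomToSingle lam hlam
  let T := (HomologicalComplex.single (ModuleCat.{u} R) (ComplexShape.up ℤ) j).obj H
  haveI h1 : (DRing.toD P).IsLE 0 :=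
    (DerivedCategory.isLE_Q_obj_iff P 0).2 ((CochainComplex.isLE_iff P 0).2 fun i hi =>
      (P.exactAt_iff_isZero_homology i).2 (hP i hi))
  haveI h2 : (DerivedCategory.Q.obj T).IsGE j :=
    (DerivedCategory.isGE_Q_obj_iff T j).2 ((CochainComplex.isGE_iff T j).2 fun i hi =>
      HomologicalComplex.exactAt_single_obj _ _ _ _ (by omega))
  have hQc : DerivedCategory.Q.map c = 0 :=
    (DerivedCategory.TStructure.t (C := ModuleCat.{u} R)).zero_of_isLE_of_isGE _ 0 j hj h1 h2
  have hqc : (HomotopyCategory.quotient (ModuleCat.{u} R) (ComplexShape.up ℤ)).map c = 0 := by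
    refine (bijective_Qh_map_of_isKProjective P _).1 ?_
    rw [Functor.map_zero]
    have h3 : ((HomotopyCategory.quotient _ _) ⋙ DerivedCategory.Qh).map c = 0 := by
      rw [← NatIso.naturality_2 (DerivedCategory.quotientCompQhIso (ModuleCat.{u} R)) c, hQc]
      exact (congrArg _ zero_comp).trans comp_zero
    exact h3
  let hom := HomotopyCategory.homotopyOfEq c 0 (by rw [hqc, Functor.map_zero])
  have hcomm := hom.comm j
  have hjn : (ComplexShape.up ℤ).Rel j (j + 1) := rfl
  have hjp : (ComplexShape.up ℤ).Rel (j - 1) j := show j - 1 + 1 = j by omega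
  have hz : hom.hom j (j - 1) = 0 :=
    (HomologicalComplex.isZero_single_obj_X _ _ _ _ (by omega)).eq_of_tgt _ _
  rw [dNext_eq hom.hom hjn, prevD_eq hom.hom hjp, hz, zero_comp, add_zero, HomologicalComplex.zero_f,
    add_zero, HomologicalComplex.mkHomToSingle_f] at hcomm
  let h : P.X (j + 1) ⟶ H :=
    hom.hom (j + 1) j ≫ (HomologicalComplex.singleObjXSelf (ComplexShape.up ℤ) j H).hom
  have hlh : lam = P.d j (j + 1) ≫ h := by
    rw [← Category.assoc, ← hcomm, Category.assoc, Iso.inv_hom_id, Category.comp_id]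
  have h4 : B.mkQ x = TensorProduct.lift h.hom ((P.d j (j + 1)).hom.rTensor M x) := by
    refine LinearMap.congr_fun (g := TensorProduct.lift h.hom ∘ₗ (P.d j (j + 1)).hom.rTensor M)
      (TensorProduct.ext' fun y m => ?_) x
    exact LinearMap.congr_fun (LinearMap.congr_fun (congrArg ModuleCat.Hom.hom hlh) y) m
  rw [hx, map_zero] at h4
  exact (Submodule.Quotient.mk_eq_zero B).1 h4

/-- Devissage along powers of an ideal. -/
theorem isZero_tensor_of_pow (P : DRing.Cx R) [∀ i, Module.Flat R (P.X i)] (j : ℤ) (I : Ideal R)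
    (h : ∀ (M : Type u) [AddCommGroup M] [Module R M], I • (⊤ : Submodule R M) = ⊥ →
      IsZero ((DRing.tensorCx P (ModuleCat.of R M)).homology j)) :
    ∀ (k : ℕ) (M : Type u) [AddCommGroup M] [Module R M], I ^ k • (⊤ : Submodule R M) = ⊥ →
      IsZero ((DRing.tensorCx P (ModuleCat.of R M)).homology j) := by
  intro k
  induction k with
  | zero =>
    intro M _ _ hM
    rw [pow_zero, Ideal.one_eq_top, Submodule.top_smul] at hM
    have : Subsingleton M := (Submodule.subsingleton_iff R).1 (subsingleton_of_bot_eq_top hM.symm)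
    exact isZero_tensor_of_subsingleton P j M
  | succ k ih =>
    intro M _ _ hM
    let N : Submodule R M := I • ⊤
    refine isZero_tensor_ext P j N.subtype N.mkQ Subtype.val_injective (LinearMap.exact_subtype_mkQ N)
      N.mkQ_surjective (ih N ?_) (h _ ?_)
    · refine Submodule.map_injective_of_injective (Submodule.injective_subtype N) ?_
      rw [Submodule.map_smul'', Submodule.map_top, Submodule.range_subtype, Submodule.map_bot]
      show I ^ k • (I • (⊤ : Submodule R M)) = ⊥
      rwa [← Submodule.smul_assoc, smul_eq_mul, ← pow_succ]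
    · rw [← Submodule.range_mkQ N, LinearMap.range_eq_map, ← Submodule.map_smul'', Submodule.mkQ_map_self]

end Groth.LocCohBase.TensorKilled
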